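import Cfsg.Agent.Loc.JC8
import Cfsg.Agent.Loc.Cons
import Cfsg.Agent.Sig.Dich
import Cfsg.Agent.S1292
import Cfsg.Agent.S1296

/-! Groups with solvable involution centralizers: reduction to characteristic 2 type. -/

set_option autoImplicit false

namespace Cfsg.Agent.Loc

open Subgroup Cfsg
open Cfsg.Agent.Sig (ppIn NC Wc SubnIn)
open scoped commutatorElement

variable {G : Type*} [Group G] [Finite G] {A B E H K M R S T U V W X Z : Subgroup G} {a g h s t v x y z : G}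

theorem se_of_invol (hlt : M < H) (hS : SylIn 2 S H) (hne : S ≠ ⊥) (hN : H ⊓ normalizer (S : Set G) ≤ M)
    (hC : ∀ t ∈ S, t ≠ 1 → t ^ 2 = 1 → H ⊓ centralizer ({t} : Set G) ≤ M) : SE 2 M H := by
  have hSM : S ≤ M := (le_inf hS.le le_normalizer).trans hN
  have hS' := hS.mono hSM hlt.le
  have A : ∀ u ∈ M, u ≠ 1 → u ^ 2 = 1 → ∃ m ∈ M, m * u * m⁻¹ ∈ S := fun u hu _ h2 => by
    obtain ⟨m, hm, e⟩ := hS'.exists_conj_le (zpowers_le.2 hu) (isPGroup_zpowers_of_pow (k := 1) (by simpa using h2))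
    exact ⟨m, hm, e (conj_mem_cj (mem_zpowers u))⟩
  have B : ∀ u ∈ M, u ≠ 1 → u ^ 2 = 1 → H ⊓ centralizer ({u} : Set G) ≤ M := fun u hu h1 h2 c hc => by
    obtain ⟨m, hm, e⟩ := A u hu h1 h2
    have := hC _ e (by simpa [conj_eq_one_iff] using h1) (by rw [conj_pow, h2]; simp)
      (x := m * c * m⁻¹) ⟨H.mul_mem (H.mul_mem (hlt.le hm) hc.1) (H.inv_mem (hlt.le hm)), by
        rw [← cj_centralizer_singleton]; exact conj_mem_cj hc.2⟩
    simpa [mul_assoc] using mul_mem (mul_mem (inv_mem hm) this) hm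
  obtain ⟨z, hz, z1, z2⟩ := exists_pow_eq_one_of_isPGroup (hS.pg.to_le inf_le_left) (center_ne_bot hS.pg hne)
  refine ⟨hlt, ⟨z, hSM hz.1, z1, z2⟩, fun x hx x1 x2 g hg hgx => ?_⟩
  obtain ⟨m, hm, e⟩ := A x hx x1 x2
  have hk : g * m⁻¹ ∈ H := mul_mem hg (inv_mem (hlt.le hm))
  set k := g * m⁻¹ with hkd
  have h1 : k * z * k⁻¹ ∈ M := B _ hgx (by simpa [conj_eq_one_iff] using x1) (by rw [conj_pow, x2]; simp)
    ⟨H.mul_mem (H.mul_mem hk (hS.le hz.1)) (H.inv_mem hk), by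
      rw [show g * x * g⁻¹ = k * (m * x * m⁻¹) * k⁻¹ by rw [hkd]; group, ← cj_centralizer_singleton]
      exact conj_mem_cj (mem_centralizer_singleton_iff.2 (hz.2 _ e).symm)⟩
  have h2 : cj k S ≤ M := (le_inf (cj_le_of_mem hk hS.le) (by
      rw [← cj_centralizer_singleton]
      exact cj_mono k fun s hs => mem_centralizer_singleton_iff.2 (hz.2 s hs))).trans
    (B _ h1 (by simpa [conj_eq_one_iff] using z1) (by rw [conj_pow, z2]; simp))
  obtain ⟨n, hn, e'⟩ := ((hS.conj_of_mem hk).mono h2 hlt.le).exists_conj hS'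
  rw [cj_cj] at e'
  have := hN ⟨mul_mem (hlt.le hn) hk, mem_normalizer_iff_cj.2 e'⟩
  simpa [hkd] using mul_mem (mul_mem (inv_mem hn) this) hm

/-- Involution centralizers are solvable. -/
def CS (G : Type*) [Group G] : Prop := ∀ t : G, orderOf t = 2 → Group.IsSolvable (centralizer ({t} : Set G))

omit [Finite G] in
theorem CS.sub (h : CS G) (H : Subgroup G) : CS H := fun t ht => by
  have := h t (by rwa [orderOf_coe])
  have := Solv.isSolvable_subgroupOf (centralizer ({(t : G)} : Set G)) H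
  exact Solv.isSolvable_of_le (K := (centralizer ({(t : G)} : Set G)).subgroupOf H) fun c hc =>
    mem_centralizer_singleton_iff.2 (congrArg Subtype.val (mem_centralizer_singleton_iff.1 hc))

theorem CS.nc (h : CS G) : NC G := fun t ht => Sig.pLayerIn_eq_bot_of_isSolvable (h t ht)

theorem CS.charTwo (h : CS G) (he : Even (Nat.card G))
    (hO : ∀ t : G, orderOf t = 2 → ppIn 2 (centralizer ({t} : Set G)) = ⊥) : IsCharacteristicTwoType G :=
  ⟨he, fun T hT h1 => chP_iff.1 (chP_iff_sub.2 (S1292.result (fun t ht => chP_iff_sub.1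
    (chP_iff_layer.2 ⟨Sig.layerIn_eq_bot_of_isSolvable (h t ht), hO t ht⟩)) T hT h1))⟩

theorem CS.not_comp (h : CS G) : ¬ IsComponentType G := by
  rintro ⟨t, ht, hK⟩
  have := h t ht
  exact Sig.layer_eq_bot_iff_not_hasComponent.1 Sig.layer_eq_bot_of_isSolvable hK

theorem exists_conj_mem (hS : SylIn 2 S ⊤) (ht : t ^ 2 = 1) : ∃ g : G, g * t * g⁻¹ ∈ S := by
  obtain ⟨m, -, e⟩ := hS.exists_conj_le le_top (isPGroup_zpowers_of_pow (x := t) (k := 1) (by simpa using ht))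
  exact ⟨m, e (conj_mem_cj (mem_zpowers t))⟩

omit [Finite G] in
theorem ppIn_cent_conj (h : ppIn 2 (centralizer ({g * t * g⁻¹} : Set G)) = ⊥) :
    ppIn 2 (centralizer ({t} : Set G)) = ⊥ := by
  rwa [← cj_centralizer_singleton, ← Sig.cj_ppIn, cj_eq_bot_iff] at h

theorem CS.charTwo_of_four (h : CS G) (hO : pPrimeCore 2 G = ⊥) (hS : SylIn 2 S ⊤) (hZ : IsElementaryAbelian 2 Z)
    (hZS : Z ≤ S ⊓ centralizer (S : Set G)) (h4 : 2 ^ 2 ≤ Nat.card Z) (hE : IsElementaryAbelian 2 E) (hES : E ≤ S)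
    (h8 : 2 ^ 3 ≤ Nat.card E) : IsCharacteristicTwoType G := by
  have hc := h.nc
  have hA : IsElementaryAbelian 2 (E ⊔ Z : Subgroup G) :=
    isElementaryAbelian_sup hE hZ (le_centralizer_iff.1 ((hZS.trans inf_le_right).trans (centralizer_anti hES)))
  have hAS : E ⊔ Z ≤ S := sup_le hES (hZS.trans inf_le_left)
  have hA8 : 2 ^ 3 ≤ Nat.card (E ⊔ Z : Subgroup G) := h8.trans (card_le_of_le le_sup_left)
  have key : ∀ t ∈ S, t ^ 2 = 1 → ∃ B : Subgroup G, IsElementaryAbelian 2 B ∧ 2 ^ 3 ≤ Nat.card B ∧ t ∈ B ∧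
      Wc B = Wc (E ⊔ Z) := fun t ht t2 => by
    by_cases hz : t ∈ Z
    · exact ⟨_, hA, hA8, mem_sup_right hz, rfl⟩
    · obtain ⟨b1, b2⟩ := Sig.E8_sup hZ h4 t2 (fun z hz => ((hZS hz).2 t ht).symm) hz
      exact ⟨_, b1, b2, mem_sup_right (mem_zpowers t), Sig.Wc_pg hc hS.pg hA hA8 hAS b1 b2
        (sup_le (hZS.trans inf_le_left) (zpowers_le.2 ht))⟩
  have h0 : S ≠ ⊥ := fun e => by
    have := card_le_of_le (hES.trans e.le)
    rw [card_bot] at this; omega
  have hW : Wc (E ⊔ Z) = ⊥ := by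
    have l : Wc (E ⊔ Z) ≤ BG.Op' 2 (normalizer ((Wc (E ⊔ Z) : Subgroup G) : Set G)) :=
      BG.pcore_max (BG.normalG _) (Sig.Wc_fam hc hA hA8).pp
    rw [eq_bot_iff, ← hO]
    by_cases e : normalizer ((Wc (E ⊔ Z) : Subgroup G) : Set G) = ⊤
    · rwa [e, BG.Op'_top] at l
    rw [BG.Op'_eq] at l
    refine l.trans (S1221.result _ (Invol.spe_two_iff.1 (se_iff.2 (se_of_invol (Ne.lt_top e) hS h0
      (inf_le_right.trans (Sig.le_norm_Wc hc hS.pg hA hA8 hAS)) fun t ht t1 t2 => ?_))))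
    obtain ⟨B, b1, b2, b3, b4⟩ := key t ht t2
    exact inf_le_right.trans (b4 ▸ Sig.cent_le_of_good hc b1 b2 b3 t1)
  refine h.charTwo (even_iff_two_dvd.2 ((dvd_card_of_isPGroup hS.pg h0).trans (card_subgroup_dvd_card S)))
    fun t ht => ?_
  have t2 : t ^ 2 = 1 := ht ▸ pow_orderOf_eq_one t
  obtain ⟨g, hg⟩ := exists_conj_mem hS t2
  obtain ⟨B, b1, b2, b3, b4⟩ := key _ hg (by rw [conj_pow, t2]; simp)
  refine ppIn_cent_conj (g := g) (eq_bot_iff.2 ?_)
  rw [← hW, ← b4, ppIn, ← BG.Op'_eq]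
  exact Sig.le_Cl (θ := fun a => BG.Op' 2 (centralizer ({a} : Set G))) b3
    (by rw [Ne, conj_eq_one_iff]; rintro rfl; simp at ht)

theorem exists_extremal (hS : SylIn 2 S ⊤) (hz : z ∈ centralizer (S : Set G)) (hR : IsPGroup 2 R)
    (hc : R ≤ centralizer ({h * z * h⁻¹} : Set G)) : ∃ g : G, g * (h * z * h⁻¹) * g⁻¹ = z ∧ cj g R ≤ S := by
  have h1 : cj h⁻¹ R ≤ centralizer ({z} : Set G) := by
    rw [cj_le_iff, inv_inv, cj_centralizer_singleton]; exact hc
  have h2 : S ≤ centralizer ({z} : Set G) := fun s hs => mem_centralizer_singleton_iff.2 (hz s hs)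
  obtain ⟨c, hc, e⟩ := (hS.mono h2 le_top).exists_conj_le h1 (isPGroup_cj _ hR)
  refine ⟨c * h⁻¹, ?_, by rwa [← cj_cj]⟩
  rw [show c * h⁻¹ * (h * z * h⁻¹) * (c * h⁻¹)⁻¹ = c * z * c⁻¹ by group, mem_centralizer_singleton_iff.1 hc]
  simp

theorem eq_of_mem_zpowers (hx : x ∈ zpowers a) (hy : y ∈ zpowers a) (ox : orderOf x = 2) (oy : orderOf y = 2) :
    x = y := by
  classical
  have := Fintype.ofFinite (zpowers a)
  have h := IsCyclic.card_orderOf_eq_totient (α := zpowers a) (d := 2)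
    (by rw [← ox, orderOf_coe (⟨x, hx⟩ : zpowers a)]; exact orderOf_dvd_card)
  obtain ⟨u, hu⟩ := Finset.card_eq_one.1 (h.trans Nat.totient_two)
  have e : ∀ w : zpowers a, orderOf (w : G) = 2 → w = u := fun w hw => by
    rw [← Finset.mem_singleton, ← hu]; simpa using hw
  exact congrArg Subtype.val ((e ⟨x, hx⟩ ox).trans (e ⟨y, hy⟩ oy).symm)

theorem transfer_dvd (hG : ∀ H : Subgroup G, H.index ≠ 2) (hS : SylIn 2 S ⊤) (hi : U.relIndex S ∣ 2)
    (ht : t ^ 2 = 1) : ∃ g : G, g * t * g⁻¹ ∈ S ∧ g * t * g⁻¹ ∈ U := by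
  obtain ⟨g, hg⟩ := exists_conj_mem hS ht
  rcases (Nat.dvd_prime Nat.prime_two).1 hi with e | e
  · exact ⟨g, hg, relIndex_eq_one.1 e hg⟩
  · obtain ⟨k, hk⟩ := Invol.thompson_transfer hG hS.toSylowTop (Q := U) e (u := g * t * g⁻¹)
      (by rw [← pow_two, conj_pow, ht]; simp) hg
    exact ⟨k * g, by simpa [mul_assoc, SylIn.coe_toSylowTop] using hk⟩

theorem isConj_of_cyc (hG : ∀ H : Subgroup G, H.index ≠ 2) (hS : SylIn 2 S ⊤) (h : IsCyclic S ∨ PGrp.IsMC S)
    (hx : orderOf x = 2) (hy : orderOf y = 2) : IsConj x y := by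
  obtain ⟨a, ha⟩ : ∃ a : G, (zpowers a).relIndex S ∣ 2 := by
    rcases h with h | ⟨a, x, n, h⟩
    · obtain ⟨a, rfl⟩ := BG.cyclicP.1 h
      exact ⟨a, by simp⟩
    · refine ⟨a, ?_⟩
      rw [← h.idx, ← BG.relIndex_map_subtype, MonoidHom.map_zpowers]; rfl
  obtain ⟨g, -, hg⟩ := transfer_dvd hG hS ha (hx ▸ pow_orderOf_eq_one x)
  obtain ⟨k, -, hk⟩ := transfer_dvd hG hS ha (hy ▸ pow_orderOf_eq_one y)
  have := eq_of_mem_zpowers hg hk (by rw [orderOf_conj', hx]) (by rw [orderOf_conj', hy])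
  exact (isConj_iff.2 ⟨g, this⟩).trans (isConj_iff.2 ⟨k, rfl⟩).symm

theorem mem_of_rank_two (hr : PRankLE 2 2 G) (hV : IsElementaryAbelian 2 V) (h4 : 2 ^ 2 ≤ Nat.card V)
    (ht : t ^ 2 = 1) (hc : t ∈ centralizer (V : Set G)) : t ∈ V := by
  by_contra hn
  obtain ⟨b1, b2⟩ := Sig.E8_sup hV h4 ht hc hn
  have := hr _ b1.1 b1.2
  omega

theorem isConj_of_rank_two (hG : ∀ H : Subgroup G, H.index ≠ 2) (hr : PRankLE 2 2 G) (hS : SylIn 2 S ⊤)
    (hz : z ∈ S ⊓ centralizer (S : Set G)) (oz : orderOf z = 2) (hh : h * z * h⁻¹ ∈ S) (hne : h * z * h⁻¹ ≠ z)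
    (ht : orderOf t = 2) : IsConj z t := by
  by_contra hcon
  have nMC : ¬ (IsCyclic S ∨ PGrp.IsMC S) := fun e => hcon (isConj_of_cyc hG hS e oz ht)
  have z2 : z ^ 2 = 1 := oz ▸ pow_orderOf_eq_one z
  have z1 : z ≠ 1 := by rintro rfl; simp at oz
  obtain ⟨V, hVS, hn, hV, h4⟩ : ∃ V ≤ S, S ≤ normalizer (V : Set G) ∧ IsElementaryAbelian 2 V ∧
      Nat.card V = 2 ^ 2 := by
    by_contra! h
    refine nMC ((PGrp.isCyclic_or_isMC hS.pg fun B hB hA e => ?_).imp id And.right)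
    exact h _ (map_subtype_le B) (normal_map_subtype hB) (isElementaryAbelian_map _ hA) (by rwa [card_map_subtype])
  have inV : ∀ t ∈ centralizer (V : Set G), t ^ 2 = 1 → t ∈ V := fun t a b => mem_of_rank_two hr hV h4.ge b a
  have zV : z ∈ V := inV z (centralizer_anti hVS hz.2) z2
  have hi := Sig.four_relIndex hS.pg hn hV h4
  obtain ⟨g, -, hg⟩ := transfer_dvd hG hS hi (ht ▸ pow_orderOf_eq_one t)
  have tV := inV _ hg (by rw [conj_pow, ← ht, pow_orderOf_eq_one]; simp)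
  set u := g * t * g⁻¹ with hu
  have nu : ¬ IsConj z u := fun e => hcon (e.trans (isConj_iff.2 ⟨g, rfl⟩).symm)
  have u1 : u ≠ 1 := by rw [hu, Ne, conj_eq_one_iff]; rintro rfl; simp at ht
  have uz : u ∉ zpowers z := fun e => ((Sig.mem_zp2 z2).1 e).elim u1 fun e => nu (e ▸ IsConj.refl _)
  have cas : ∀ w ∈ V, w = 1 ∨ w = z ∨ w = u ∨ w = z * u := fun w hw => Sig.four_cases hV h4 zV z1 tV uz hw
  have cz : ∀ k : G, IsConj z (k * z * k⁻¹) := fun k => isConj_iff.2 ⟨k, rfl⟩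
  have c1 : ∀ k : G, k * z * k⁻¹ ≠ 1 := fun k => by rwa [Ne, conj_eq_one_iff]
  have c2 : ∀ k : G, (k * z * k⁻¹) ^ 2 = 1 := fun k => by rw [conj_pow, z2]; simp
  by_cases hSV : S ≤ centralizer (V : Set G)
  · have e : h * z * h⁻¹ = z * u := by
      rcases cas _ (inV _ (hSV hh) (c2 h)) with e | e | e | e
      exacts [absurd e (c1 h), absurd e hne, absurd (e ▸ cz h) nu, e]
    obtain ⟨k, hk, hkS⟩ := exists_extremal hS hz.2 hS.pg (h := h) fun s hs =>
      mem_centralizer_singleton_iff.2 (hSV hs _ (e ▸ mul_mem zV tV)).symm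
    have hkN := mem_normalizer_of_cj_le hkS
    have e2 : k * z * k⁻¹ = z * u := by
      rcases cas _ (inV _ (hSV (conj_mem_of_mem_normalizer hkN hz.1)) (c2 k)) with e' | e' | e' | e'
      exacts [absurd e' (c1 k), absurd (by simpa using hk.trans e'.symm) hne, absurd (e' ▸ cz k) nu, e']
    have m1 : k ^ S.relIndex (normalizer (S : Set G)) ∈ S :=
      pow_index_mem (S.subgroupOf (normalizer (S : Set G))) ⟨k, hkN⟩
    obtain ⟨m, hm⟩ := Nat.not_even_iff_odd.1 fun e =>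
      (hS.mono le_normalizer le_top).not_dvd_relIndex (even_iff_two_dvd.1 e)
    have m2 : k ^ 2 ∈ centralizer ({z} : Set G) := by
      rw [e, ← e2] at hk
      rw [mem_centralizer_singleton_iff]
      conv_rhs => rw [← hk]
      rw [pow_two]; group
    have m3 : k ^ (2 * m + 1) ∈ centralizer ({z} : Set G) := mem_centralizer_singleton_iff.2 (hz.2 _ (hm ▸ m1))
    rw [pow_succ, pow_mul, mul_mem_cancel_left (pow_mem m2 m), mem_centralizer_singleton_iff] at m3
    exact hne (by rw [e, ← e2, m3]; simp)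
  · have out : ∀ k : G, k * z * k⁻¹ ∈ S → k * z * k⁻¹ ∈ centralizer (V : Set G) → k * z * k⁻¹ = z := fun k _ b => by
      rcases cas _ (inV _ b (c2 k)) with e | e | e | e
      · exact absurd e (c1 k)
      · exact e
      · exact absurd (e ▸ cz k) nu
      obtain ⟨s, hs, hsV⟩ := SetLike.not_le_iff_exists.1 hSV
      rcases Sig.four_conj hV h4 zV z1 tV uz (mem_centralizer_singleton_iff.2 (hz.2 s hs))
        (conj_mem_of_mem_normalizer (hn hs) tV) with e' | e'
      · refine absurd ?_ hsV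
        rw [← Sig.four_eq hV h4 zV z1 tV uz, centralizer_sup', centralizer_zpowers, centralizer_zpowers]
        exact ⟨mem_centralizer_singleton_iff.2 (hz.2 s hs), mem_centralizer_singleton_iff.2
          (mul_inv_eq_iff_eq_mul.1 e')⟩
      · exact absurd ((cz k).trans (isConj_iff.2 ⟨s, e'.trans e.symm⟩).symm) nu
    have i2 : (centralizer (V : Set G)).relIndex S = 2 :=
      ((Nat.dvd_prime Nat.prime_two).1 hi).resolve_left fun e => hSV (relIndex_eq_one.1 e)
    set y := h * z * h⁻¹ with hy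
    have yV : y ∉ centralizer (V : Set G) := fun e => hne (out h hh e)
    obtain ⟨k, hk, hkS⟩ := exists_extremal hS hz.2 (hS.pg.to_le (inf_le_left : S ⊓ centralizer {y} ≤ S))
      (h := h) inf_le_right
    have nsq : ∀ c ∈ S ⊓ centralizer ({y} : Set G), c ^ 2 ≠ z := fun c hc e => by
      have a := hkS (conj_mem_cj (g := k) hc)
      have b : k * z * k⁻¹ = (k * c * k⁻¹) * (k * c * k⁻¹) := by rw [← pow_two, conj_pow, e]
      have := out k (b ▸ mul_mem a a) (b ▸ (Invol.mul_mem_iff_of_relIndex_two i2 a a).2 Iff.rfl)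
      exact hne (by simpa using hk.trans this.symm)
    have K : ∀ c ∈ S ⊓ centralizer ({y} : Set G), c ∈ centralizer (V : Set G) → c ∈ zpowers z := fun c hc hc' => by
      have I : ∀ d ∈ S ⊓ centralizer ({y} : Set G), d ∈ centralizer (V : Set G) → d ^ 2 = 1 → d ∈ zpowers z :=
        fun d hd hd' d2 => by
          by_contra hn'
          refine yV ?_
          rw [← Sig.four_eq hV h4 zV z1 (inV d hd' d2) hn', centralizer_sup', centralizer_zpowers, centralizer_zpowers]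
          exact ⟨mem_centralizer_singleton_iff.2 (hz.2 y hh), mem_centralizer_singleton_iff.2
            (mem_centralizer_singleton_iff.1 hd.2).symm⟩
      obtain ⟨n, hn⟩ := exists_pow_of_isPGroup hS.pg hc.1
      induction n generalizing c with
      | zero => rw [pow_zero, pow_one] at hn; exact hn ▸ one_mem _
      | succ n ih =>
        have := ih (c ^ 2) (pow_mem hc 2) (pow_mem hc' 2) (by rw [← pow_mul, ← pow_succ', hn])
        exact I c hc hc' (((Sig.mem_zp2 z2).1 this).resolve_right (nsq c hc))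
    refine nMC (Or.inr (PGrp.isMC_of_card_centralizer hS.pg (fun e => hSV fun s hs v hv =>
      congrArg Subtype.val (e.is_comm.comm (⟨v, hVS hv⟩ : S) ⟨s, hs⟩)) ⟨y, hh⟩ ?_))
    have e1 : (centralizer ({⟨y, hh⟩} : Set S)).map S.subtype ≤ S ⊓ centralizer ({y} : Set G) := by
      rintro _ ⟨c, hc, rfl⟩
      exact ⟨c.2, mem_centralizer_singleton_iff.2 (congrArg Subtype.val (mem_centralizer_singleton_iff.1 hc))⟩
    have e2 := card_le_of_le (show centralizer (V : Set G) ⊓ (S ⊓ centralizer ({y} : Set G)) ≤ zpowers z from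
      fun c hc => K c hc.2 hc.1)
    have e3 := relIndex_le_of_le_right (H := centralizer (V : Set G))
      (inf_le_left : S ⊓ centralizer ({y} : Set G) ≤ S) (by omega)
    rw [Nat.card_zpowers, oz] at e2
    rw [i2, ← inf_relIndex_right] at e3
    rw [← card_map_subtype]
    refine (card_le_of_le e1).trans ?_
    rw [← Solv.card_mul_relIndex (inf_le_right : centralizer (V : Set G) ⊓ _ ≤ _)]
    exact Nat.mul_le_mul e2 e3

theorem CS.charTwo_or_se (h : CS G) (hO : pPrimeCore 2 G = ⊥) (hS : SylIn 2 S ⊤)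
    (hz : z ∈ S ⊓ centralizer (S : Set G)) (oz : orderOf z = 2)
    (hN : centralizer ({z} : Set G) ≤ normalizer (S : Set G)) (hc : ∀ t : G, orderOf t = 2 → IsConj z t) :
    (∃ M : Subgroup G, IsStronglyEmbedded M) ∨ IsCharacteristicTwoType G := by
  have z2 : z ^ 2 = 1 := oz ▸ pow_orderOf_eq_one z
  have z1 : z ≠ 1 := by rintro rfl; simp at oz
  set U := ppIn 2 (centralizer ({z} : Set G)) with hU
  have hSz : S ≤ centralizer ({z} : Set G) := fun s hs => mem_centralizer_singleton_iff.2 (hz.2 s hs)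
  have hUS : U ≤ centralizer (S : Set G) := commutator_eq_bot_iff_le_centralizer.1 (eq_bot_iff.2
    ((commutator_le_inf_of_normalizes (Sig.ppIn_le.trans hN) (hSz.trans (Sig.le_normalizer_ppIn le_normalizer))).trans
    (by rw [inf_comm, inf_eq_bot_of_isPGroup_of_coprime hS.pg Sig.coprime_ppIn])))
  have key : ∀ g : G, g * z * g⁻¹ ∈ S → g ∈ normalizer (U : Set G) := fun g hg => by
    have o : orderOf (g * z * g⁻¹) = 2 := by rw [orderOf_conj', oz]
    have a : U ≤ centralizer ({g * z * g⁻¹} : Set G) := fun u hu => mem_centralizer_singleton_iff.2 (hUS hu _ hg).symm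
    have pz : IsPGroup 2 (zpowers z) := hS.pg.to_le (zpowers_le.2 hz.1)
    have b := ppIn_inf_centralizer_le (H := centralizer ({z} : Set G)) (h.nc _ o) pz
      (zpowers_le.2 (mem_centralizer_singleton_iff.2 (hz.2 _ hg).symm)) (by rw [centralizer_zpowers]; exact inf_le_right)
    have c : U ≤ cj g U := by
      rw [hU, Sig.cj_ppIn, cj_centralizer_singleton]
      exact (le_inf le_rfl (le_inf a (by rw [centralizer_zpowers]; exact Sig.ppIn_le))).trans b
    exact mem_normalizer_iff_cj.2 (eq_of_le_of_card_ge c (card_cj g U).le).symm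
  have hSU : S ≤ normalizer (U : Set G) := hSz.trans (Sig.le_normalizer_ppIn le_normalizer)
  by_cases e : normalizer (U : Set G) = ⊤
  · have : U = ⊥ := by
      rw [eq_bot_iff, ← hO, ← Sig.ppIn_top]; exact Sig.le_ppIn le_top e.ge Sig.coprime_ppIn
    refine Or.inr (h.charTwo (even_iff_two_dvd.2 (oz ▸ orderOf_dvd_natCard z)) fun t ht => ?_)
    obtain ⟨g, rfl⟩ := isConj_iff.1 (hc t ht)
    rw [← cj_centralizer_singleton, ← Sig.cj_ppIn, cj_eq_bot_iff]; exact this
  refine Or.inl ⟨_, Invol.spe_two_iff.1 (se_iff.2 ⟨Ne.lt_top e, ⟨z, hSU hz.1, z1, z2⟩, fun x hx x1 x2 g _ hg => ?_⟩)⟩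
  have hS' := hS.mono hSU le_top
  have A : ∀ u ∈ normalizer (U : Set G), u ^ 2 = 1 → ∃ m ∈ normalizer (U : Set G), m * u * m⁻¹ ∈ S := fun u hu h2 => by
    obtain ⟨m, hm, e⟩ := hS'.exists_conj_le (zpowers_le.2 hu) (isPGroup_zpowers_of_pow (k := 1) (by simpa using h2))
    exact ⟨m, hm, e (conj_mem_cj (mem_zpowers u))⟩
  obtain ⟨k, rfl⟩ := isConj_iff.1 (hc x (orderOf_eq_prime_of_pow x1 x2))
  obtain ⟨m, hm, e1⟩ := A _ hx x2
  obtain ⟨n, hn, e2⟩ := A _ hg (by rw [conj_pow, x2]; simp)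
  have a := key (m * k) (by simpa [mul_assoc] using e1)
  have b := key (n * g * k) (by simpa [mul_assoc] using e2)
  rw [mul_mem_cancel_left hm] at a
  rwa [mul_mem_cancel_right a, mul_mem_cancel_left hn] at b

end Cfsg.Agent.Loc
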