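import Cfsg.Agent.Loc.Am4
import Cfsg.Agent.Transfer.POdd
import Cfsg.Prelude.Def_JComponents

/-! `J(T)`-components (Kurzweil–Stellmacher 12.2), part 1: groups `K = O²(K)` with `K / O₂(K) ≅ C₃`. -/

set_option linter.unusedSectionVars false

namespace Cfsg.Agent.Loc
open Subgroup Cfsg
open Cfsg.Agent.PLocal (mu cent eaMax)
open scoped commutatorElement

variable {G : Type*} [Group G] [Finite G] {K T A B D H L Q U U' V W X Y : Subgroup G} {a b e g t : G}

/-- The Thompson subgroup for the prime 2. -/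
abbrev J2 (T : Subgroup G) : Subgroup G := thompsonSubgroupOf 2 T

theorem comm_le_of_idx2 (hi : H.relIndex K = 2) (h1 : X ≤ normalizer (H : Set G)) (h2 : X ≤ normalizer (K : Set G)) :
    ⁅K, X⁆ ≤ H := commutator_le.2 fun x hx g hg => by
  rw [commutatorElement_def, mul_assoc, mul_assoc, ← mul_assoc g, Invol.mul_mem_iff_of_relIndex_two hi hx
    (conj_mem_of_mem_normalizer (h2 hg) (inv_mem hx)), ← mem_normalizer_iff.1 (h1 hg), inv_mem_iff]

theorem relIndex_le_two (h : ∀ a ∈ K, ∀ b ∈ K, a ∉ H → b ∉ H → a⁻¹ * b ∈ H) : H.relIndex K ≤ 2 := by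
  classical
  by_contra hlt
  have := Fintype.ofFinite (K ⧸ H.subgroupOf K)
  have h3 : 2 < Fintype.card (K ⧸ H.subgroupOf K) := by
    rw [← Nat.card_eq_fintype_card]; exact not_le.1 hlt
  obtain ⟨x, y, hx, hy, hxy⟩ : ∃ x y : K ⧸ H.subgroupOf K, x ≠ ((1 : K) : _) ∧ y ≠ ((1 : K) : _) ∧ x ≠ y := by
    obtain ⟨a, b, c, h1, h2, h3⟩ := Fintype.two_lt_card_iff.1 h3
    by_cases ha : a = ((1 : K) : _)
    · exact ⟨b, c, fun e => h1 (ha.trans e.symm), fun e => h2 (ha.trans e.symm), h3⟩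
    by_cases hb : b = ((1 : K) : _)
    · exact ⟨a, c, ha, fun e => h3 (hb.trans e.symm), h2⟩
    · exact ⟨a, b, ha, hb, h1⟩
  obtain ⟨x, rfl⟩ := QuotientGroup.mk_surjective x
  obtain ⟨y, rfl⟩ := QuotientGroup.mk_surjective y
  refine hxy (QuotientGroup.eq.2 (h x x.2 y y.2 (fun e => hx ?_) fun e => hy ?_)) <;>
    exact QuotientGroup.eq.2 (by simpa [mem_subgroupOf] using e)

theorem card_le_sq (hU : IsElementaryAbelian 2 U) (ht : t ∈ normalizer (U : Set G)) (h2 : t * t = 1) :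
    Nat.card U ≤ Nat.card (U ⊓ centralizer ({t} : Set G) : Subgroup G) ^ 2 := by
  have h1 := Transfer.relIndex_centralizer_le (K := U) (M := U ⊓ centralizer ({t} : Set G)) (x := t) fun u hu => by
    have h3 : t * u * t⁻¹ ∈ U := conj_mem_of_mem_normalizer ht hu
    have h4 := (isElementaryAbelian_iff.1 hU).1 h3 u hu
    have h5 : u⁻¹ = u := inv_eq_of_mul_eq_one_right (by rw [← pow_two]; exact (isElementaryAbelian_iff.1 hU).2 u hu)
    refine ⟨U.mul_mem h3 (U.inv_mem hu), mem_centralizer_singleton_iff.2 ?_⟩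
    rw [commutatorElement_def, h5, ← h4, inv_eq_of_mul_eq_one_right h2]
    calc _ = u * t * u * (t * t) := by group
      _ = t * t * u * t * u := by rw [h2]; group
      _ = t * (t * u * t⁻¹ * u) := by rw [inv_eq_of_mul_eq_one_right h2]; group
      _ = _ := by rw [← h4, inv_eq_of_mul_eq_one_right h2]
  rw [← Solv.card_inf_mul_relIndex (centralizer ({t} : Set G)) U, inf_comm, pow_two]
  exact Nat.mul_le_mul_left _ h1

theorem J_eq_of_sylIn (hT : SylIn 2 T L) (hX : X ≤ L) (hp : IsPGroup 2 X) (h : J2 T ≤ X) : J2 X = J2 T := by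
  obtain ⟨S, hS, hle⟩ := exists_sylIn_ge hX hp
  obtain ⟨g, -, rfl⟩ := hT.exists_conj hS
  have h1 : J2 T = J2 (cj g T) := eq_of_le_of_card_ge (PLocal.J_le_iff.2 fun A hA => PLocal.le_J
    (PLocal.mem_maxFam_of_le (PLocal.eaMax_sylIn_subset hT hA) hS.le ((PLocal.le_J hA).trans (h.trans hle))))
    (by rw [J2, ← PLocal.cj_J, card_cj])
  rw [h1]; exact PLocal.J_eq_of_le hle (h1.ge.trans h)

/-- The elements of the normalizer of `N` whose commutator with `a` lies in `N`. -/
def elKer (N : Subgroup G) (a : G) : Subgroup G where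
  carrier := {k | k ∈ normalizer (N : Set G) ∧ ⁅k, a⁆ ∈ N}
  one_mem' := ⟨one_mem _, by rw [commutatorElement_one_left]; exact one_mem _⟩
  mul_mem' := fun {x y} hx hy => ⟨mul_mem hx.1 hy.1, by
    have : ⁅x * y, a⁆ = x * ⁅y, a⁆ * x⁻¹ * ⁅x, a⁆ := by simp only [commutatorElement_def]; group
    rw [this]; exact mul_mem (conj_mem_of_mem_normalizer hx.1 hy.2) hx.2⟩
  inv_mem' := fun {x} hx => ⟨inv_mem hx.1, by
    have : ⁅x⁻¹, a⁆ = x⁻¹ * ⁅x, a⁆⁻¹ * x := by simp only [commutatorElement_def]; group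
    rw [this]; exact conj_inv_mem_of_mem_normalizer hx.1 (inv_mem hx.2)⟩

structure C3 (K : Subgroup G) : Prop where
  res : pResidualOf 2 K = K
  idx : (pCoreOf 2 K).relIndex K = 3

theorem wOf_le_OZ (K : Subgroup G) : wOf K ≤ OZ (pCoreOf 2 K) := commutator_le_left_of_le_normalizer
  ((le_normalizer_pCoreOf _ _).trans (normalizer_le_normalizer_omegaOne_center _ _))

theorem ea_wOf (K : Subgroup G) : IsElementaryAbelian 2 (wOf K) :=
  isElementaryAbelian_of_le (isElementaryAbelian_omegaOne_center _ _) (wOf_le_OZ K)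

theorem wOf_le_Q (K : Subgroup G) : wOf K ≤ pCoreOf 2 K := (wOf_le_OZ K).trans (omegaOne_center_le _ _)

theorem wOf_le (K : Subgroup G) : wOf K ≤ K := (wOf_le_Q K).trans (pCoreOf_le _ _)

theorem Q_le_cent_wOf (K : Subgroup G) : pCoreOf 2 K ≤ centralizer (wOf K : Set G) :=
  (le_centralizer_omegaOne_center _ _).trans (centralizer_anti (wOf_le_OZ K))

theorem cj_wOf (g : G) (K : Subgroup G) : cj g (wOf K) = wOf (cj g K) := by
  rw [wOf, wOf, cj_commutator, omegaCenterOf, omegaCenterOf, cj_omegaOne_center, cj_pCoreOf]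

theorem normalizer_le_wOf (K : Subgroup G) : normalizer (K : Set G) ≤ normalizer (wOf K : Set G) := fun g hg =>
  mem_normalizer_iff_cj.2 (by rw [cj_wOf, cj_eq_of_mem_normalizer hg])

namespace C3
variable (h : C3 K)
include h

theorem syl : SylIn 2 (pCoreOf 2 K) K :=
  sylIn_of_not_dvd_relIndex (pCoreOf_le _ _) (isPGroup_pCoreOf _ _) (by rw [h.idx]; norm_num)

theorem not_le : ¬ K ≤ pCoreOf 2 K := fun e => by simpa [relIndex_eq_one.2 e] using h.idx

theorem not_pg : ¬ IsPGroup 2 K := fun e => h.not_le (pCoreOf_eq_self e).ge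

theorem le_Q (hX : X ≤ K) (hp : IsPGroup 2 X) : X ≤ pCoreOf 2 K :=
  h.syl.le_of_normal (le_normalizer_pCoreOf _ _) hX hp

theorem sup_eq (hX : X ≤ K) (hn : ¬ X ≤ pCoreOf 2 K) : pCoreOf 2 K ⊔ X = K :=
  sup_eq_of_relIndex_prime Nat.prime_three h.idx (pCoreOf_le _ _) hX hn

theorem le_of_le_sup (hD : IsPGroup 2 D) (hn : D ≤ normalizer (X : Set G)) (hle : K ≤ X ⊔ D) : K ≤ X :=
  h.res.ge.trans (pResidualOf_le_of_le_sup hD hn hle)

theorem eq_of_normal (hX : X ≤ K) (hn : K ≤ normalizer (X : Set G)) (h1 : ¬ X ≤ pCoreOf 2 K) : X = K :=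
  le_antisymm hX (h.le_of_le_sup (isPGroup_pCoreOf _ _) ((pCoreOf_le _ _).trans hn)
    ((h.sup_eq hX h1).ge.trans (sup_comm _ _).le))

theorem conj (g : G) : C3 (cj g K) :=
  ⟨by rw [← cj_pResidualOf, h.res], by rw [← cj_pCoreOf, relIndex_cj, h.idx]⟩

theorem res_sup (hD : IsPGroup 2 D) (hn : D ≤ normalizer (K : Set G)) : pResidualOf 2 (K ⊔ D) = K :=
  le_antisymm (pResidualOf_le_of_le_sup hD hn le_rfl) (h.res.ge.trans (pResidualOf_mono le_sup_left))

theorem exists_three : ∃ e ∈ K, orderOf e = 3 :=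
  haveI := Fact.mk Nat.prime_three
  exists_orderOf_eq_of_dvd_card (h.idx ▸ relIndex_dvd_card _ _)

theorem not_mem_three (he : orderOf e = 3) : e ∉ pCoreOf 2 K := fun h1 => by
  obtain ⟨k, hk⟩ := exists_orderOf_of_isPGroup (isPGroup_pCoreOf 2 K) h1
  have := Nat.Prime.dvd_of_dvd_pow Nat.prime_three (hk ▸ he ▸ dvd_rfl : 3 ∣ 2 ^ k)
  omega

theorem sup_three (hK : e ∈ K) (he : orderOf e = 3) : pCoreOf 2 K ⊔ zpowers e = K :=
  h.sup_eq (zpowers_le.2 hK) fun h1 => h.not_mem_three he (h1 (mem_zpowers e))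

theorem comm_comm (hV : IsPGroup 2 V) (hn : K ≤ normalizer (V : Set G)) : ⁅⁅V, K⁆, K⁆ = ⁅V, K⁆ := by
  have := commutator_pResidualOf_eq (L := K) hV (h.res.le.trans hn)
  rwa [h.res] at this

theorem fix (hV : IsElementaryAbelian 2 V) (hn : K ≤ normalizer (V : Set G))
    (hc : pCoreOf 2 K ≤ centralizer (V : Set G)) (hK : e ∈ K) (he : orderOf e = 3) :
    ⁅V, K⁆ ⊓ centralizer ((zpowers e : Subgroup G) : Set G) = ⊥ := by
  have h1 : ⁅V, K⁆ ≤ ⁅V, zpowers e⁆ := by
    conv_lhs => rw [← h.sup_three hK he]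
    exact commutator_sup_right_le (le_normalizer_of_le_centralizer (hc.trans (centralizer_anti
      (commutator_le_left_of_le_normalizer (zpowers_le.2 (hn hK)))))) (normalizer_commutator_ge_right _ _)
      (commutator_le_of_le_centralizer' hc _) le_rfl
  refine eq_bot_iff.2 fun z hz => mem_bot.2 ?_
  have h2 := pow_card_eq_one_of_le_commutator (isElementaryAbelian_iff.1 hV).1 (zpowers_le.2 (hn hK)) (h1 hz.1) hz.2
  rwa [Nat.card_zpowers, he, pow_succ, (isElementaryAbelian_iff.1 hV).2 z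
    (commutator_le_left_of_le_normalizer hn hz.1), one_mul] at h2

theorem fixW (hK : e ∈ K) (he : orderOf e = 3) : wOf K ⊓ centralizer ((zpowers e : Subgroup G) : Set G) = ⊥ :=
  h.fix (isElementaryAbelian_omegaOne_center _ _) ((le_normalizer_pCoreOf _ _).trans
    (normalizer_le_normalizer_omegaOne_center _ _)) (le_centralizer_omegaOne_center _ _) hK he

theorem infW : wOf K ⊓ centralizer (K : Set G) = ⊥ := by
  obtain ⟨e, hK, he⟩ := h.exists_three
  exact le_bot_iff.1 ((inf_le_inf_left _ (centralizer_anti (zpowers_le.2 hK))).trans (h.fixW hK he).le)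

theorem card_mod (hU : U ≤ wOf K) (hn : K ≤ normalizer (U : Set G)) : Nat.card U % 3 = 1 := by
  haveI := Fact.mk Nat.prime_three
  obtain ⟨e, hK, he⟩ := h.exists_three
  have h1 := card_modEq_cent (q := 3) (N := U) (isPGroup_zpowers_of_orderOf (k := 1) (by simpa)) (zpowers_le.2 (hn hK))
  rwa [le_bot_iff.1 ((inf_le_inf_right _ hU).trans (h.fixW hK he).le), card_bot] at h1

theorem four_mul_le (hU : U < U') (hU' : U' ≤ wOf K) (hn : K ≤ normalizer (U : Set G))
    (hn' : K ≤ normalizer (U' : Set G)) : 4 * Nat.card U ≤ Nat.card U' := by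
  have h1 := h.card_mod (hU.le.trans hU') hn
  have h2 := h.card_mod hU' hn'
  have hp := (isPGroup_of_isElementaryAbelian (ea_wOf K)).to_le hU'
  obtain ⟨j, hj⟩ := IsPGroup.iff_card.1 hp
  obtain ⟨i, hi⟩ := IsPGroup.iff_card.1 (hp.to_le hU.le)
  have h3 := mul_card_le_of_lt hp hU
  rw [hi] at h1 h3 ⊢
  rw [hj] at h2 h3 ⊢
  rw [← pow_succ', Nat.pow_le_pow_iff_right (by norm_num)] at h3
  rcases h3.eq_or_lt with rfl | h3
  · rw [pow_succ] at h2; omega
  · exact (show 4 * 2 ^ i = 2 ^ (i + 2) by ring).le.trans (Nat.pow_le_pow_right (by norm_num) h3)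

theorem norm_cent (hB : ⁅B, K⁆ ≤ pCoreOf 2 K) :
    K ≤ normalizer ((wOf K ⊓ centralizer (B : Set G) : Subgroup G) : Set G) := by
  have h1 : wOf K ⊓ centralizer (B : Set G) = wOf K ⊓ centralizer ((B ⊔ pCoreOf 2 K : Subgroup G) : Set G) := by
    rw [centralizer_sup', ← inf_assoc, inf_right_comm, inf_eq_left.2 (le_centralizer_iff.1 (Q_le_cent_wOf K))]
  rw [h1]
  refine le_normalizer_inf (le_normalizer.trans (normalizer_le_wOf K)) (le_normalizer_centralizer
    (le_normalizer_of_cj_le fun k hk => ?_))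
  rw [cj_sup, cj_eq_of_mem_normalizer (le_normalizer_pCoreOf _ _ hk)]
  exact sup_le ((cj_le_comm_sup hk).trans (sup_le ((Subgroup.commutator_comm _ _).le.trans (hB.trans le_sup_right))
    le_sup_left)) le_sup_right

theorem inv_of_not_cent (hK : e ∈ K) (he : orderOf e = 3) (ha : a ∈ normalizer (K : Set G))
    (hn : a ∉ commKer (pCoreOf 2 K) K) : e * (a * e * a⁻¹) ∈ pCoreOf 2 K := by
  have nQ : a ∈ normalizer (pCoreOf 2 K : Set G) := normalizer_le_normalizer_pCoreOf _ _ ha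
  have e3 : e * e * e = 1 := by rw [← pow_three', ← he, pow_orderOf_eq_one]
  have h1 := h.not_mem_three he
  have i1 : e⁻¹ = e * e := inv_eq_of_mul_eq_one_left e3
  rcases three_cosets h.idx hK (inv_mem hK) (conj_mem_of_mem_normalizer ha hK) h1 (by rwa [inv_mem_iff])
    (by rwa [← mul_inv_rev, ← i1, inv_inv]) with h2 | h2 | h2
  · exact absurd ((mem_normalizer_iff.1 nQ e).2 h2) h1
  · refine absurd ⟨nQ, fun c hc => ?_⟩ hn
    have h3 : K ≤ elKer (pCoreOf 2 K) a := (h.sup_three hK he).ge.trans (sup_le (fun q hq => ⟨le_normalizer hq, by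
      rw [commutatorElement_def, mul_assoc, mul_assoc, ← mul_assoc a]
      exact mul_mem hq (conj_mem_of_mem_normalizer nQ (inv_mem hq))⟩) (zpowers_le.2 (inv_mem_iff.1
        ⟨inv_mem (le_normalizer_pCoreOf _ _ hK), by simpa [commutatorElement_def, mul_assoc] using h2⟩)))
    rw [← commutatorElement_inv]; exact inv_mem (h3 hc).2
  · rwa [inv_inv] at h2

theorem idx_le_two (hA : A ≤ normalizer (K : Set G)) : (commKer (pCoreOf 2 K) K).relIndex A ≤ 2 := by
  obtain ⟨e, hK, he⟩ := h.exists_three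
  refine relIndex_le_two fun a ha b hb h1 h2 => ?_
  by_contra h3
  have nQ := hA.trans (normalizer_le_normalizer_pCoreOf 2 K)
  have e1 := h.inv_of_not_cent hK he (hA ha) h1
  have e2 := h.inv_of_not_cent hK he (hA hb) h2
  have e3 := conj_mem_of_mem_normalizer (nQ ha) (h.inv_of_not_cent hK he (hA (mul_mem (inv_mem ha) hb)) h3)
  have nK := le_normalizer_pCoreOf 2 K
  have e4 := mul_mem (mul_mem (conj_mem_of_mem_normalizer (nK hK) e1) e2) (inv_mem e3)
  have e5 : e * e * e = 1 := by rw [← pow_three', ← he, pow_orderOf_eq_one]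
  refine h.not_mem_three he (inv_mem_iff.1 ?_)
  rw [inv_eq_of_mul_eq_one_left e5]
  convert e4 using 1
  group

theorem card_le_four (hA : A ∈ eaMax 2 T) (hn : A ≤ normalizer (K : Set G)) (hW : wOf K ≤ T)
    (hc : ¬ ⁅A, K⁆ ≤ pCoreOf 2 K) : Nat.card (wOf K) ≤ 4 := by
  obtain ⟨e, hK, he⟩ := h.exists_three
  have nQ := hn.trans (normalizer_le_normalizer_pCoreOf 2 K)
  have nW := hn.trans (normalizer_le_wOf K)
  obtain ⟨t, ht, htn⟩ := SetLike.not_le_iff_exists.1 fun e => hc (le_commKer_iff.1 e).2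
  have ea := isElementaryAbelian_iff.1 hA.2.1
  have t2 : t * t = 1 := by rw [← pow_two]; exact ea.2 t ht
  set W := wOf K with hWd
  set A₀ := A ⊓ commKer (pCoreOf 2 K) K with hA₀
  have i0 : Nat.card A ≤ Nat.card A₀ * 2 := by
    rw [← Solv.card_inf_mul_relIndex (commKer (pCoreOf 2 K) K) A, inf_comm]
    exact Nat.mul_le_mul_left _ (h.idx_le_two hn)
  have c0 : ⁅A₀, K⁆ ≤ pCoreOf 2 K := (le_commKer_iff.1 inf_le_right).2
  set W₀ := W ⊓ centralizer (A₀ : Set G) with hW₀
  have n0 : K ≤ normalizer (W₀ : Set G) := h.norm_cent c0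
  set Y := W ⊓ centralizer ({t} : Set G) with hY
  have best := (PLocal.bestOffender_of_mem_eaMax hA hW (ea_wOf K)).1
  have b1 : Nat.card (W ⊓ centralizer (A : Set G) : Subgroup G) ≤ Nat.card (W₀ ⊓ Y : Subgroup G) :=
    card_le_of_le (le_inf (inf_le_inf_left _ (centralizer_anti inf_le_left))
      (inf_le_inf_left _ (centralizer_le (Set.singleton_subset_iff.2 ht))))
  have b2 : Nat.card (W₀ ⊓ Y : Subgroup G) * Nat.card (W₀ ⊓ Y : Subgroup G) ≤ Nat.card W₀ := by
    have h1 := card_mul_card_le (W₀ ⊓ Y) (cj e (W₀ ⊓ Y))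
    have h2 : (W₀ ⊓ Y) ⊓ cj e (W₀ ⊓ Y) = ⊥ := by
      refine le_bot_iff.1 fun x hx => (h.fixW hK he).le ⟨hx.1.2.1, ?_⟩
      have c1 : t ∈ centralizer ({x} : Set G) := mem_centralizer_singleton_iff.2
        (mem_centralizer_singleton_iff.1 hx.1.2.2).symm
      have c2 : e * t * e⁻¹ ∈ centralizer ({x} : Set G) := by
        have := mem_centralizer_singleton_iff.1 (mem_cj.1 hx.2).2.2
        rw [mem_centralizer_singleton_iff]
        calc _ = e * (t * (e⁻¹ * x * e)) * e⁻¹ := by group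
          _ = _ := by rw [← this]; group
      have c3 : e * (t * e * t⁻¹) ∈ centralizer ({x} : Set G) := centralizer_le (Set.singleton_subset_iff.2 hx.1.2.1)
        (Q_le_cent_wOf K (h.inv_of_not_cent hK he (hn ht) fun e => htn e))
      have c4 : e * e ∈ centralizer ({x} : Set G) := by
        have := mul_mem (mul_mem (inv_mem c2) c3) c1
        rwa [show (e * t * e⁻¹)⁻¹ * (e * (t * e * t⁻¹)) * t = e * e by group] at this
      have c5 : e ∈ centralizer ({x} : Set G) := by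
        have := inv_mem c4
        rwa [inv_eq_of_mul_eq_one_right (by rw [← pow_three', ← he, pow_orderOf_eq_one] : e * e * e = 1)] at this
      rw [centralizer_zpowers]
      exact mem_centralizer_singleton_iff.2 (mem_centralizer_singleton_iff.1 c5).symm
    rw [h2, card_bot, mul_one, card_cj] at h1
    exact h1.trans (card_le_of_le (sup_le inf_le_left (cj_le_of_mem_normalizer (n0 hK) inf_le_left)))
  have b3 := best A₀ inf_le_left
  have p0 : 0 < Nat.card A₀ := Nat.card_pos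
  have b4 : Nat.card W₀ ≤ 2 * Nat.card (W₀ ⊓ Y : Subgroup G) := by
    refine Nat.le_of_mul_le_mul_left (b3.trans ?_) p0
    rw [← mul_assoc]; exact Nat.mul_le_mul i0 b1
  have b5 : Nat.card (W₀ ⊓ Y : Subgroup G) ≤ 2 := Nat.le_of_mul_le_mul_right (b2.trans b4) Nat.card_pos
  by_contra hlt
  have nKW : K ≤ normalizer (W : Set G) := le_normalizer.trans (normalizer_le_wOf K)
  have pW : IsPGroup 2 W := isPGroup_of_isElementaryAbelian (ea_wOf K)
  have pA : IsPGroup 2 A := isPGroup_of_isElementaryAbelian hA.2.1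
  have b6 : 4 ≤ Nat.card W₀ := by
    have := h.four_mul_le (bot_lt_iff_ne_bot.2 (inf_centralizer_ne_bot (pA.to_le inf_le_left) pW
      (inf_le_left.trans nW) fun e => hlt (by rw [e, card_bot]; norm_num))) inf_le_left (le_normalizer_bot _) n0
    rwa [card_bot] at this
  have b7 : 4 * Nat.card W₀ ≤ Nat.card W := h.four_mul_le (lt_of_le_of_ne inf_le_left fun e : W₀ = W => hlt (by rw [← e]; omega)) le_rfl n0 nKW
  have b8 : Nat.card W ≤ Nat.card Y ^ 2 := card_le_sq (ea_wOf K) (nW ht) t2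
  have nY : A ≤ normalizer (Y : Set G) := le_normalizer_inf nW (by
    rw [← centralizer_zpowers]
    exact le_normalizer_centralizer (le_normalizer_of_le_centralizer (ea.1.trans (centralizer_anti (zpowers_le.2 ht)))))
  obtain ⟨u, hu, hun, hc⟩ := exists_commutator_mem_of_lt (M := W₀ ⊓ Y) (pW.to_le inf_le_left) pA nY
    (le_normalizer_inf (le_normalizer_inf nW (le_normalizer_centralizer (le_normalizer_of_le_centralizer
      (ea.1.trans (centralizer_anti inf_le_left))))) nY) (le_normalizer_of_le_centralizer (inf_le_left.trans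
      ((isElementaryAbelian_iff.1 (ea_wOf K)).1.trans (centralizer_anti (inf_le_left.trans inf_le_left)))))
    fun e => by
      have : Nat.card Y ≤ 2 := (card_le_of_le e).trans b5
      have := Nat.pow_le_pow_left this 2
      omega
  set B := A₀ ⊓ centralizer ({u} : Set G) with hB
  have i1 : Nat.card A₀ ≤ Nat.card B * 2 := by
    rw [← Solv.card_inf_mul_relIndex (centralizer ({u} : Set G)) A₀, inf_comm]
    exact Nat.mul_le_mul_left _ ((Transfer.relIndex_centralizer_le fun g (hg : g ∈ A₀) => hc g hg.1).trans b5)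
  have b9 := h.four_mul_le (U := W₀) (U' := W ⊓ centralizer (B : Set G)) (lt_of_le_of_ne (inf_le_inf_left _
    (centralizer_anti inf_le_left)) fun e => hun ⟨e.ge ⟨hu.1, fun g hg => mem_centralizer_singleton_iff.1 hg.2⟩, hu⟩)
    inf_le_left n0 (h.norm_cent ((commutator_mono inf_le_left le_rfl).trans c0))
  have b10 := best B (inf_le_left.trans inf_le_left)
  have b11 := Nat.mul_le_mul (i0.trans (Nat.mul_le_mul_right 2 i1)) (b1.trans b5)
  have b12 := Nat.mul_le_mul_left (Nat.card B) ((Nat.mul_le_mul_left 4 b6).trans b9)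
  have : 0 < Nat.card B := Nat.card_pos
  omega

end C3

end Cfsg.Agent.Loc
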