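import Cfsg.Agent.Loc.WC

/-!
# The basic property `𝔐_G(S)` and the asymmetric case

`FM p S M` packages `M ∈ 𝔐_G(S)` in a group of parabolic characteristic `p` (MSS 2.2), existence of
members of `𝔐` (MSS 1.56), asymmetry (MSS 2.6) and `ℌ_G(O_p(M))` (MSS 2.11).
-/

namespace Cfsg.Agent.Loc
open Subgroup Cfsg
open Cfsg.Agent.Sig (SubnIn)
open scoped commutatorElement

variable {G : Type*} [Group G] {p : ℕ}

local notation "𝒴" => largestPReducedOf

theorem exists_maxCharP [Finite G] {L : Subgroup G} (h : L ∈ charPSubgroups p G) :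
    ∃ X ∈ maxCharPSubgroups p G, L ≤ X := by
  obtain ⟨X, ⟨h1, h2⟩, h3⟩ := exists_maximal_mem (S := {X | X ∈ charPSubgroups p G ∧ L ≤ X})
    ⟨L, h, le_rfl⟩
  exact ⟨X, ⟨h1, fun K a b => h3 K ⟨a, h2.trans b⟩ b⟩, h2⟩

/-- If every subgroup `X` with `T ≤ X ≤ M`, `M ≤ X C` is `M`, and `C ∩ M` is `p`-closed, then
`C ∩ M` maps into the Frattini subgroup of `M / O_p(M)`. -/
theorem map_le_frattini_of_minimal [Finite G] [Fact p.Prime] {T M C : Subgroup G} (hT : SylIn p T M)
    (hn : M ≤ normalizer (C : Set G)) (hc : PCl p (M ⊓ C))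
    (hmin : ∀ X, T ≤ X → X ≤ M → M ≤ X ⊔ C → X = M) :
    ((M ⊓ C).subgroupOf M).map (QuotientGroup.mk' (pCore p M)) ≤ frattini (M ⧸ pCore p M) := by
  rw [Solv.le_frattini_iff]
  intro Z hZ
  set f := QuotientGroup.mk' (pCore p M) with hf
  have hfs : Function.Surjective f := QuotientGroup.mk'_surjective _
  set X := (Z.comap f).map M.subtype with hX
  have hXM : X ≤ M := map_subtype_le _
  have hOX : pCoreOf p M ≤ X := map_mono fun x hx => by
    rw [mem_comap, show f x = 1 from (QuotientGroup.eq_one_iff x).2 hx]; exact one_mem _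
  by_contra hne
  have hsup : M ≤ (M ⊓ C) ⊔ X := by
    have h1 : IsCoatom (Z.comap f) := isCoatom_comap_of_surjective hfs hZ
    have h2 : (M ⊓ C).subgroupOf M ⊔ Z.comap f = ⊤ := by
      by_contra h
      exact hne (map_le_iff_le_comap.2 (le_sup_left.trans ((h1.le_iff_eq h).1 le_sup_right).le))
    have := congrArg (Subgroup.map M.subtype) h2
    rw [Subgroup.map_sup, map_subgroupOf_eq_of_le inf_le_left, Sig.top_map_subtype] at this
    exact this.ge
  have hMn : M ≤ normalizer ((M ⊓ C : Subgroup G) : Set G) := le_normalizer_inf le_normalizer hn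
  obtain ⟨R, hR⟩ := exists_sylIn p X
  have hR' : SylIn p R M := by
    refine sylIn_of_not_dvd_relIndex (hR.le.trans hXM) hR.pg ?_
    rw [← relIndex_mul_relIndex R X M hR.le hXM]
    refine (Fact.out : p.Prime).prime.not_dvd_mul hR.not_dvd_relIndex fun hd => ?_
    have e1 := Solv.card_sup_mul_card_inf (hXM.trans hMn)
    rw [le_antisymm (sup_le inf_le_left hXM) hsup, ← Solv.card_mul_relIndex hXM,
      ← Solv.card_mul_relIndex (inf_le_left : (M ⊓ C) ⊓ X ≤ M ⊓ C)] at e1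
    have e2 : X.relIndex M = ((M ⊓ C) ⊓ X).relIndex (M ⊓ C) := by
      have h1 : 0 < Nat.card X * Nat.card ((M ⊓ C) ⊓ X : Subgroup G) :=
        Nat.mul_pos Nat.card_pos Nat.card_pos
      refine Nat.eq_of_mul_eq_mul_left h1 ?_
      linarith
    rw [e2] at hd
    exact hc.sylIn.not_dvd_relIndex (hd.trans (relIndex_dvd_of_le_left _
      (le_inf (pCoreOf_le p _) ((pCoreOf_le_of_normal inf_le_left hMn).trans hOX))))
  obtain ⟨m, hm, e⟩ := hR'.exists_conj hT
  have h3 := hmin (cj m X) (e ▸ cj_mono m hR.le) (cj_le_of_mem hm hXM) (by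
    have := cj_mono m hsup
    rw [cj_eq_of_mem hm, cj_sup, cj_eq_of_mem_normalizer (hMn hm)] at this
    exact this.trans (sup_le (inf_le_right.trans le_sup_right) le_sup_left))
  rw [cj_eq_iff, cj_eq_of_mem (inv_mem hm)] at h3
  apply hne
  rw [map_le_iff_le_comap, ← subgroupOf_map_subtype' (Z.comap f), ← hX, h3, subgroupOf_self]
  exact le_top

/-- `L ≪ X` of MSS. -/
def LL (p : ℕ) (L X : Subgroup G) : Prop :=
  L ≤ (X ⊓ normalizer ((𝒴 p L : Subgroup G) : Set G)) ⊔ centralizer ((𝒴 p L : Subgroup G) : Set G)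

theorem LL.sup_eq [Finite G] [Fact p.Prime] {L X : Subgroup G} (h : LL p L X) :
    (X ⊓ (L ⊔ centralizer ((𝒴 p L : Subgroup G) : Set G))) ⊔
      centralizer ((𝒴 p L : Subgroup G) : Set G) = L ⊔ centralizer ((𝒴 p L : Subgroup G) : Set G) := by
  refine le_antisymm (sup_le inf_le_right le_sup_right) (sup_le (fun l hl => ?_) le_sup_right)
  obtain ⟨x, hx, c, hc, rfl⟩ := (mem_sup_of_le_normalizer_right
    (le_normalizer_centralizer inf_le_right)).1 (h hl)
  refine mul_mem (mem_sup_left ⟨hx.1, ?_⟩) (mem_sup_right hc)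
  have : x = x * c * c⁻¹ := by group
  rw [this]
  exact Subgroup.mul_mem _ (mem_sup_left hl) (mem_sup_right (inv_mem hc))

theorem LL.Y_le [Finite G] [Fact p.Prime] {T L X : Subgroup G} (h : LL p L X) (hT : SylIn p T ⊤)
    (hL : T ≤ L) (hX : T ≤ X) (hc : ChP p X) : 𝒴 p L ≤ 𝒴 p X := by
  have hY := pRed_Y (p := p) L
  exact hc.le_Y (hT.mono hX le_top) (le_inf hX (hL.trans le_sup_left)) inf_le_left
    ⟨(hY.le_pCoreOf.trans (hT.mono hL le_top).pCoreOf_le).trans (le_inf hX (hL.trans le_sup_left)),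
      inf_le_right.trans (sup_le hY.norm (centralizer_le_normalizer _)), hY.ea,
      hY.red.of_sup_eq hY.norm h.sup_eq⟩

theorem LL.trans [Finite G] [Fact p.Prime] {L X Z : Subgroup G} (h : LL p L X) (h' : LL p X Z)
    (hY : 𝒴 p L ≤ 𝒴 p X) : LL p L Z := by
  refine le_trans h (sup_le (fun x hx => ?_) le_sup_right)
  obtain ⟨z, hz, c, hc, rfl⟩ := (mem_sup_of_le_normalizer_right
    (le_normalizer_centralizer inf_le_right)).1 (h' hx.1)
  have hc' := centralizer_anti hY hc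
  refine mul_mem (mem_sup_left ⟨hz.1, ?_⟩) (mem_sup_right hc')
  have : z = z * c * c⁻¹ := by group
  rw [this]
  exact Subgroup.mul_mem _ hx.2 (inv_mem (centralizer_le_normalizer _ hc'))

theorem ll_of_le [Finite G] [Fact p.Prime] {L X : Subgroup G} (h : L ≤ X) : LL p L X :=
  (le_inf h (pRed_Y L).norm).trans le_sup_left

theorem exists_frakM [Finite G] [Fact p.Prime] (hG : ParP p G) {T L : Subgroup G} (hT : SylIn p T ⊤)
    (hTL : T ≤ L) (hL : L ∈ charPSubgroups p G) :
    ∃ M Ls : Subgroup G, T ≤ M ∧ IsInFrakM p M ∧ T ≤ Ls ∧ Ls ≤ M ∧ Ls ∈ charPSubgroups p G ∧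
      𝒴 p L = 𝒴 p Ls ∧ 𝒴 p L ≤ 𝒴 p M ∧
      L ⊔ centralizer ((𝒴 p L : Subgroup G) : Set G) =
        Ls ⊔ centralizer ((𝒴 p L : Subgroup G) : Set G) := by
  have hYne : ∀ X ∈ charPSubgroups p G, 𝒴 p X ≠ ⊥ := fun X hX =>
    (chP_of_mem_charPSubgroups hX).Y_ne_bot fun e =>
      (mem_charPSubgroups.1 hX).1 (eq_bot_iff.2 (e ▸ pCoreOf_le p X))
  obtain ⟨X₀, ⟨h01, h02, h03⟩, hmax⟩ := exists_max_measure
    (S := {X | T ≤ X ∧ X ∈ charPSubgroups p G ∧ LL p L X}) ⟨L, hTL, hL, ll_of_le le_rfl⟩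
    (fun X => Nat.card (𝒴 p X))
  have hY := pRed_Y (p := p) X₀
  have hL0 := h03.Y_le hT hTL h01 (chP_of_mem_charPSubgroups h02)
  have hmax' : ∀ X, T ≤ X → X ∈ charPSubgroups p G → LL p X₀ X → 𝒴 p X = 𝒴 p X₀ := by
    intro X a b c
    exact (eq_of_le_of_card_ge (c.Y_le hT h01 a (chP_of_mem_charPSubgroups b))
      (hmax X ⟨a, b, h03.trans c hL0⟩)).symm
  set Y := 𝒴 p X₀ with hYdef
  set D := normalizer (Y : Set G) with hD
  have hTD : T ≤ D := h01.trans hY.norm
  have hDm : D ∈ charPSubgroups p G := hG.mem hT hTD le_normalizer le_rfl hY.isPGroup (hYne _ h02)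
  have hYD : 𝒴 p D = Y := hmax' D hTD hDm (ll_of_le hY.norm)
  have hCD : centralizer (Y : Set G) ≤ D := centralizer_le_normalizer _
  have hTD' := hT.mono hTD le_top
  set T₀ := T ⊓ centralizer (Y : Set G) with hT₀
  obtain ⟨M, ⟨hM1, hM2, hM3⟩, hmin⟩ := exists_minimal_mem (S := {M | T ≤ M ∧
    M ≤ D ⊓ normalizer (T₀ : Set G) ∧ M ⊔ centralizer (Y : Set G) = D})
    ⟨_, hTD'.le_normalizer_inf_centralizer le_rfl, le_rfl,
      (hTD'.frattini_centralizer le_rfl).trans (sup_eq_left.2 hCD)⟩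
  have hTM := hT.mono hM1 le_top
  have hMD := hM2.trans inf_le_left
  obtain ⟨e1, e2, -⟩ := (chP_of_mem_charPSubgroups hDm).Y_normalizer hTD' hTM
    (T₀ := T₀) (by rw [hYD]) (by rw [hYD, hM3, sup_eq_left.2 hCD])
  rw [inf_eq_left.2 (hM2.trans inf_le_right)] at e1 e2
  rw [hYD] at e1
  have hMm : M ∈ charPSubgroups p G :=
    hG.mem hT hM1 (e1 ▸ (pRed_Y M).le) hMD hY.isPGroup (hYne _ h02)
  have hLL : ∀ X, M ≤ X → LL p X₀ X := fun X a =>
    hY.norm.trans (hM3.ge.trans (sup_le_sup_right (le_inf a hMD) _))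
  have key : ∀ X ∈ charPSubgroups p G, M ≤ X → X ≤ D := fun X a b => by
    have := (pRed_Y (p := p) X).norm
    rwa [hmax' X (hM1.trans b) a (hLL X b)] at this
  have hpcl : PCl p (M ⊓ centralizer (Y : Set G)) :=
    pCl_of_sylIn (hTM.inf_centralizer hMD) (inf_le_left.trans (hM2.trans inf_le_right))
  have hLM : LL p L M := h03.trans (hLL M le_rfl) hL0
  have hTM₁ : T ≤ M ⊓ (L ⊔ centralizer ((𝒴 p L : Subgroup G) : Set G)) :=
    le_inf hM1 (hTL.trans le_sup_left)
  obtain ⟨f1, -, f3⟩ := (chP_of_mem_charPSubgroups hL).Y_normalizer (hT.mono hTL le_top)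
    (hT.mono hTM₁ le_top) rfl hLM.sup_eq
  have hTLs := (hT.mono hTM₁ le_top).le_normalizer_inf_centralizer
    (inf_le_right.trans (sup_le (pRed_Y (p := p) L).norm (centralizer_le_normalizer _)))
  refine ⟨M, _, hM1, ⟨hMm, ?_, ?_, ?_, ?_, ?_⟩, hTLs, inf_le_left.trans inf_le_left,
    hG.mem hT hTLs (pRed_Y _).le (pRed_Y _).norm (pRed_Y _).isPGroup (f1.trans_ne (hYne L hL)), f1.symm,
    e1 ▸ hL0, f3.symm⟩
  · rw [e1, hM3]
    exact ⟨hDm, fun X a b => le_antisymm (key X a (hMD.trans b)) b⟩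
  · intro X a b
    rw [e1, hM3]
    exact (a.2 D hDm (key X a.1 b)).symm
  · rw [e1, hM3, hYD]
  · rw [e1]; exact isPClosed_iff.2 hpcl
  · rw [e1]
    refine map_le_frattini_of_minimal hTM (le_normalizer_centralizer hMD) hpcl fun X a b c =>
      hmin X ⟨a, b.trans hM2, le_antisymm (sup_le (b.trans hMD) hCD)
        (hM3.ge.trans (sup_le c le_sup_right))⟩ b

/-- `M ∈ 𝔐_G(S)` in a group of parabolic characteristic `p`. -/
structure FM (p : ℕ) (S M : Subgroup G) : Prop where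
  par : ParP p G
  syl : SylIn p S ⊤
  le : S ≤ M
  frak : IsInFrakM p M

theorem fm_of_isLarge [Finite G] [Fact p.Prime] (S : Sylow p G) {Q M : Subgroup G}
    (hp : IsPGroup p Q) (h1 : Q ≠ ⊥) (h : IsLarge Q) (hS : (S : Subgroup G) ≤ M)
    (hM : IsInFrakM p M) : FM p S M := ⟨parP_of_isLarge hp h1 h, sylIn_top S, hS, hM⟩

namespace FM
variable [Finite G] [Fact p.Prime] {S M : Subgroup G}

omit [Finite G] [Fact p.Prime] in
theorem O_ne_bot (h : FM p S M) : pCoreOf p M ≠ ⊥ := (mem_charPSubgroups.1 h.frak.1).1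

omit [Finite G] [Fact p.Prime] in
theorem centralizer_O_le (h : FM p S M) :
    centralizer ((pCoreOf p M : Subgroup G) : Set G) ≤ pCoreOf p M :=
  (mem_charPSubgroups.1 h.frak.1).2

omit [Finite G] [Fact p.Prime] in
theorem chP (h : FM p S M) : ChP p M := chP_of_mem_charPSubgroups h.frak.1

omit [Finite G] [Fact p.Prime] in
theorem sylM (h : FM p S M) : SylIn p S M := h.syl.mono h.le le_top

theorem Y_ne_bot (h : FM p S M) : 𝒴 p M ≠ ⊥ :=
  h.chP.Y_ne_bot fun e => h.O_ne_bot (eq_bot_iff.2 (e ▸ pCoreOf_le p M))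

theorem D_le (_ : FM p S M) : M ⊔ centralizer ((𝒴 p M : Subgroup G) : Set G) ≤
    normalizer ((𝒴 p M : Subgroup G) : Set G) :=
  sup_le (pRed_Y M).norm (centralizer_le_normalizer _)

theorem inf_centralizer_eq (h : FM p S M) :
    S ⊓ centralizer ((𝒴 p M : Subgroup G) : Set G) = pCoreOf p M := by
  refine le_antisymm ?_ (le_inf h.sylM.pCoreOf_le (pRed_Y M).red.pCoreOf_le_centralizer)
  exact (isPClosed_iff.1 h.frak.2.2.2.2.1 _ (inf_le_inf_right _ h.le)
    (h.syl.pg.to_le inf_le_left)).trans (pCoreOf_le_of_normal inf_le_left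
      (le_normalizer_inf le_normalizer (le_normalizer_centralizer (pRed_Y M).norm)))

theorem sylIn_O (h : FM p S M) :
    SylIn p (pCoreOf p M) (centralizer ((𝒴 p M : Subgroup G) : Set G)) := by
  rw [← h.inf_centralizer_eq]
  exact (h.syl.mono (h.le.trans (pRed_Y M).norm) le_top).inf_normal' (centralizer_le_normalizer _)
    (normalizer_le_normalizer_centralizer _)

theorem Y_eq (h : FM p S M) : 𝒴 p M =
    omegaOne p (pCoreOf p M ⊓ centralizer ((pCoreOf p M : Subgroup G) : Set G)) :=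
  h.chP.Y_eq h.sylM h.inf_centralizer_eq.symm

theorem Y_le_O (_ : FM p S M) : 𝒴 p M ≤ pCoreOf p M := (pRed_Y M).le_pCoreOf

theorem le_D (h : FM p S M) {X K : Subgroup G} (hX : M ≤ X) (hK : K ≤ X)
    (hn : X ≤ normalizer (K : Set G)) (hp : IsPGroup p K) (hne : K ≠ ⊥) :
    X ≤ M ⊔ centralizer ((𝒴 p M : Subgroup G) : Set G) := by
  obtain ⟨Z, hZ, hXZ⟩ := exists_maxCharP (h.par.mem h.syl (h.le.trans hX) hK hn hp hne)
  exact hXZ.trans (h.frak.2.2.1 Z hZ (hX.trans hXZ)).le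

theorem normalizer_le_D (h : FM p S M) {K : Subgroup G} (hn : M ≤ normalizer (K : Set G))
    (hp : IsPGroup p K) (hne : K ≠ ⊥) :
    normalizer (K : Set G) ≤ M ⊔ centralizer ((𝒴 p M : Subgroup G) : Set G) :=
  h.le_D hn le_normalizer le_rfl hp hne

theorem normalizer_Y_eq (h : FM p S M) : normalizer ((𝒴 p M : Subgroup G) : Set G) =
    M ⊔ centralizer ((𝒴 p M : Subgroup G) : Set G) :=
  le_antisymm (h.normalizer_le_D (pRed_Y M).norm (pRed_Y M).isPGroup h.Y_ne_bot) h.D_le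

theorem normalizer_O_le (h : FM p S M) : normalizer ((pCoreOf p M : Subgroup G) : Set G) ≤
    normalizer ((𝒴 p M : Subgroup G) : Set G) := by
  rw [h.Y_eq]; exact normalizer_le_normalizer_omegaOne_center p _

theorem wCl_D (h : FM p S M) :
    WCl p (pCoreOf p M) (M ⊔ centralizer ((𝒴 p M : Subgroup G) : Set G)) :=
  wCl_of_sylIn_normal h.sylIn_O le_sup_right (le_normalizer_centralizer h.D_le)

theorem le_O (h : FM p S M) {R : Subgroup G} (hp : IsPGroup p R)
    (h1 : R ≤ centralizer ((𝒴 p M : Subgroup G) : Set G))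
    (h2 : R ≤ normalizer ((pCoreOf p M : Subgroup G) : Set G)) : R ≤ pCoreOf p M :=
  h.sylIn_O.le_of_normalizes h1 hp h2

end FM

theorem cj_le_centralizer_of_asymmetric {A : Subgroup G} (h : ¬ IsSymmetricIn A) {a b : G}
    (h1 : cj a A ≤ normalizer ((cj b A : Subgroup G) : Set G))
    (h2 : cj b A ≤ normalizer ((cj a A : Subgroup G) : Set G)) :
    cj a A ≤ centralizer ((cj b A : Subgroup G) : Set G) := by
  rw [← commutator_eq_bot_iff_le_centralizer]
  by_contra hne
  have e : ∀ X : Subgroup G, cj b X = cj a (cj (a⁻¹ * b) X) := fun X => by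
    rw [cj_cj, mul_inv_cancel_left]
  refine h ⟨a⁻¹ * b, fun h3 => hne ?_, ?_⟩
  · rw [e, ← cj_commutator, h3, cj_bot]
  · have := commutator_le_inf_of_normalizes h1 h2
    rwa [e, ← cj_commutator, ← cj_inf, cj_le_cj_iff] at this

theorem FM.wCl [Finite G] [Fact p.Prime] {S M : Subgroup G} (h : FM p S M)
    (hasym : ¬ IsSymmetricIn (𝒴 p M)) : WCl p (pCoreOf p M) ⊤ := by
  refine wCl_of_normalizes (isPGroup_pCoreOf p M) le_top fun g _ hg1 hg2 => ?_
  set O := pCoreOf p M with hO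
  set Y := 𝒴 p M with hY
  let Adj : G → G → Prop := fun a b => cj a O ≤ normalizer ((cj b O : Subgroup G) : Set G) ∧
    cj b O ≤ normalizer ((cj a O : Subgroup G) : Set G)
  have hadj : ∀ n a b, Adj a b → Adj (n * a) (n * b) := by
    intro n a b hab
    simp only [Adj, ← cj_cj, ← cj_normalizer, cj_le_cj_iff] at hab ⊢
    exact hab
  have hNY : ∀ a, normalizer ((cj a O : Subgroup G) : Set G) ≤
      normalizer ((cj a Y : Subgroup G) : Set G) := fun a => by
    rw [← cj_normalizer, ← cj_normalizer]; exact cj_mono a h.normalizer_O_le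
  have hstep : ∀ a b, cj a Y ≤ normalizer ((cj b O : Subgroup G) : Set G) →
      cj b Y ≤ normalizer ((cj a O : Subgroup G) : Set G) → cj a Y ≤ cj b O := by
    intro a b h1 h2
    have h3 := cj_le_centralizer_of_asymmetric hasym (h1.trans (hNY b)) (h2.trans (hNY a))
    refine (h.sylIn_O.conj b).le_of_normalizes (by rwa [cj_centralizer])
      (isPGroup_cj a (pRed_Y M).isPGroup) h1
  have hpath : ∀ k (f : ℕ → G), (∀ i < k, Adj (f i) (f (i + 1))) →
      cj (f 0) Y ≤ cj (f k) O ∧ cj (f k) Y ≤ cj (f 0) O := by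
    intro k
    induction k with
    | zero => intro f _; exact ⟨cj_mono _ h.Y_le_O, cj_mono _ h.Y_le_O⟩
    | succ k ih =>
      intro f hf
      have h1 := (ih f fun i hi => hf i (by omega)).1.trans (hf k (by omega)).1
      have h2 := (ih (fun i => f (i + 1)) fun i hi => hf (i + 1) (by omega)).2.trans
        (hf 0 (by omega)).2
      exact ⟨hstep _ _ h1 h2, hstep _ _ h2 h1⟩
  let R : Set G := {a | ∃ k, ∃ f : ℕ → G, cj (f 0) O = O ∧ f k = a ∧ ∀ i < k, Adj (f i) (f (i + 1))}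
  let W : Subgroup G := ⨆ a : R, cj (a : G) Y
  have hWO : W ≤ O := iSup_le fun ⟨a, k, f, h0, hk, hf⟩ => by
    have := (hpath k f hf).2
    rwa [h0, hk] at this
  have hYW : Y ≤ W := by
    have := le_iSup (fun a : R => cj (a : G) Y) ⟨1, 0, fun _ => 1, cj_one O, rfl, by simp⟩
    rwa [cj_one] at this
  have hW : ∀ X : Subgroup G, (∀ n ∈ X, ∀ a ∈ R, n * a ∈ R) → X ≤ normalizer (W : Set G) := by
    intro X hX
    refine le_normalizer_of_cj_le fun n hn => ?_
    rw [cj_iSup]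
    refine iSup_le fun a => ?_
    rw [cj_cj]
    exact le_iSup (fun a : R => cj (a : G) Y) ⟨_, hX n hn a a.2⟩
  have h1 : normalizer (O : Set G) ≤ normalizer (W : Set G) := by
    refine hW _ fun n hn a ⟨k, f, h0, hk, hf⟩ => ⟨k, fun i => n * f i, ?_, congrArg (n * ·) hk,
      fun i hi => hadj n _ _ (hf i hi)⟩
    rw [← cj_cj, h0, cj_eq_of_mem_normalizer hn]
  have h2 : normalizer ((cj g O : Subgroup G) : Set G) ≤ normalizer (W : Set G) := by
    refine hW _ fun n hn a ⟨k, f, h0, hk, hf⟩ => ⟨k + 2, fun i => match i with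
      | 0 => 1
      | 1 => g
      | i + 2 => n * f i, cj_one O, by simp only [hk], fun i hi => ?_⟩
    match i with
    | 0 => exact ⟨by simpa only [cj_one] using hg1, by simpa only [cj_one] using hg2⟩
    | 1 =>
      have e := cj_eq_of_mem_normalizer hn
      show Adj g (n * f 0)
      simp only [Adj, ← cj_cj, h0]
      rw [← e, ← cj_normalizer, ← cj_normalizer n, cj_le_cj_iff, cj_le_cj_iff]
      exact ⟨hg2, hg1⟩
    | i + 2 => exact hadj n _ _ (hf i (by omega))
  have hWp : IsPGroup p W := (isPGroup_pCoreOf p M).to_le hWO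
  have hW1 : W ≠ ⊥ := fun e => h.Y_ne_bot (eq_bot_iff.2 (e ▸ hYW))
  have hMO : M ≤ normalizer (O : Set G) := le_normalizer_pCoreOf p M
  have h3 := h.normalizer_le_D (hMO.trans h1) hWp hW1
  have h4 : normalizer (W : Set G) ≤ cj g (M ⊔ centralizer (Y : Set G)) := by
    rw [le_cj_iff, cj_normalizer]
    refine h.normalizer_le_D ?_ (isPGroup_cj _ hWp) (mt cj_eq_bot_iff.1 hW1)
    rw [← cj_normalizer, ← cj_le_iff]
    refine (cj_mono g hMO).trans ?_
    rwa [cj_normalizer]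
  have h5 : cj g⁻¹ (M ⊔ centralizer (Y : Set G)) ≤ M ⊔ centralizer (Y : Set G) := by
    refine h.le_D (K := cj g⁻¹ Y) ?_ (cj_mono _ ((pRed_Y M).le.trans le_sup_left)) ?_
      (isPGroup_cj _ (pRed_Y M).isPGroup) (mt cj_eq_bot_iff.1 h.Y_ne_bot)
    · rw [← cj_le_iff]
      refine le_trans ?_ (h2.trans h3)
      rw [← cj_normalizer]; exact cj_mono g hMO
    · rw [← cj_normalizer]; exact cj_mono _ h.D_le
  have h6 : g ∈ normalizer (Y : Set G) := by
    have := normalizer_le_normalizer_Y (p := p) _ (mem_normalizer_of_cj_le h5)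
    rw [← h.frak.2.2.2.1] at this
    exact inv_mem_iff.1 this
  exact h.wCl_D.eq g (h.normalizer_Y_eq.le h6) (isPGroup_sup (isPGroup_pCoreOf p M)
    (isPGroup_cj g (isPGroup_pCoreOf p M)) hg1)

/-! ### `ℌ_G(O_p(M))` -/

section frakH
variable [Finite G] [Fact p.Prime] {M H : Subgroup G}

theorem frakH_eq_of_subnIn (hH : IsInFrakH p M H) {X : Subgroup G} (h1 : pCoreOf p M ≤ X)
    (h2 : SubnIn X H) : X = H := by
  by_contra hne
  exact hH.2.2.1 ((hH.2.2.2 X h1 (lt_of_le_of_ne h2.le hne)).trans (pCoreOf_le_of_subnIn h2))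

theorem frakH_sup (hH : IsInFrakH p M H) : pResidualOf p H ⊔ pCoreOf p M = H :=
  frakH_eq_of_subnIn hH le_sup_right
    (subnIn_of_pResidualOf_le le_sup_left (sup_le (pResidualOf_le p H) hH.2.1))

theorem frakH_iSup (hH : IsInFrakH p M H) : ⨆ g : H, cj (g : G) (pCoreOf p M) = H :=
  frakH_eq_of_subnIn hH (le_iSup_cj _ _) (SubnIn.of_normal (iSup_cj_le hH.2.1 le_normalizer)
    (le_normalizer_iSup_cj _ _))

theorem frakH_Y_le (hH : IsInFrakH p M H) : 𝒴 p M ≤ H := (pRed_Y M).le_pCoreOf.trans hH.2.1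

theorem frakH_commutator (hH : IsInFrakH p M H) :
    ⁅pResidualOf p H, 𝒴 p M⁆ = pResidualOf p H := by
  have hR := le_normalizer_pResidualOf p H
  have hYH := frakH_Y_le hH
  have hOY : pCoreOf p M ≤ normalizer ((𝒴 p M : Subgroup G) : Set G) :=
    (pCoreOf_le p M).trans (pRed_Y M).norm
  have hle := commutator_le_left_of_le_normalizer (hYH.trans hR)
  have hn : H ≤ normalizer ((⁅pResidualOf p H, 𝒴 p M⁆ : Subgroup G) : Set G) :=
    (frakH_sup hH).ge.trans (sup_le (normalizer_commutator_ge_left _ _)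
      (le_normalizer_commutator (hH.2.1.trans hR) hOY))
  refine le_antisymm hle (pResidualOf_le_of_le_sup (isPGroup_pCoreOf p M) (hH.2.1.trans hn) ?_)
  by_contra hne
  have hle2 := hle.trans (pResidualOf_le p H)
  have h1 := hH.2.2.2 _ le_sup_right (lt_of_le_not_ge (sup_le hle2 hH.2.1) hne)
  refine hH.2.2.1 (((le_inf h1 le_sup_left).trans (pCoreOf_inf_le (K := 𝒴 p M ⊔
    ⁅pResidualOf p H, 𝒴 p M⁆) (sup_le ((pRed_Y M).le_pCoreOf.trans le_sup_right) le_sup_left))).trans
      (pCoreOf_le_of_normal (sup_le hYH hle2) ?_))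
  exact (frakH_sup hH).ge.trans (sup_le (le_normalizer_sup_commutator _ _)
    (le_normalizer_sup hOY (hH.2.1.trans hn)))

theorem frakH_iSup_Y (hH : IsInFrakH p M H) :
    pResidualOf p H ⊔ 𝒴 p M = ⨆ g : H, cj (g : G) (𝒴 p M) := by
  apply le_antisymm
  · refine sup_le ?_ (le_iSup_cj _ _)
    rw [← frakH_commutator hH, iSup_cj_eq_sup_commutator]
    exact (commutator_mono (pResidualOf_le p H) le_rfl).trans le_sup_right
  · refine iSup_cj_le le_sup_right ((frakH_sup hH).ge.trans (sup_le (le_sup_left.trans le_normalizer)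
      (le_normalizer_sup (hH.2.1.trans (le_normalizer_pResidualOf p H))
        ((pCoreOf_le p M).trans (pRed_Y M).norm))))

theorem frakH_commutator_le (hH : IsInFrakH p M H) {N : Subgroup G} (h1 : N ≤ H)
    (h2 : H ≤ normalizer (N : Set G)) (h3 : ¬ pResidualOf p H ≤ N) :
    ⁅N, pResidualOf p H⁆ ≤ pCoreOf p H := by
  have h4 : N ⊔ pCoreOf p M < H := lt_of_le_not_ge (sup_le h1 hH.2.1) fun h =>
    h3 (pResidualOf_le_of_le_sup (isPGroup_pCoreOf p M) (hH.2.1.trans h2) h)
  have h5 := hH.2.2.2 _ le_sup_right h4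
  have h6 : ⁅N, 𝒴 p M⁆ ≤ pCoreOf p H :=
    ((le_inf ((commutator_mono le_sup_left h5).trans (commutator_le_right_of_le_normalizer
      (le_normalizer_pCoreOf p _))) (commutator_le_left_of_le_normalizer
        ((frakH_Y_le hH).trans h2))).trans (pCoreOf_inf_le le_sup_left)).trans
      (pCoreOf_le_of_normal h1 h2)
  refine (commutator_mono le_rfl (le_sup_left.trans (frakH_iSup_Y hH).le)).trans ?_
  rw [Subgroup.commutator_comm]
  refine commutator_iSup_left_le (fun g => (cj_le_of_mem g.2 (frakH_Y_le hH)).trans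
    (le_normalizer_pCoreOf p H)) fun g => ?_
  have := cj_le_of_mem_normalizer (le_normalizer_pCoreOf p H g.2) h6
  rwa [cj_commutator, cj_eq_of_mem_normalizer (h2 g.2), Subgroup.commutator_comm] at this

theorem frakH_pIrr (hH : IsInFrakH p M H) : PIrr p H := by
  refine ⟨fun h => hH.2.2.1 (h _ (frakH_Y_le hH) (pRed_Y M).isPGroup), fun N h1 h2 h3 => ?_⟩
  by_contra h4
  have h5 := frakH_commutator_le hH h1 h2 h4
  obtain ⟨T, hT⟩ := exists_sylIn p H
  have hO := le_normalizer_pCoreOf p H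
  refine h3 (pCl_of_sylIn_le (hT.inf_normal' h1 h2) ((le_inf (le_sup_left.trans
    (le_pCoreOf (sup_le (inf_le_right.trans h1) (pCoreOf_le p H)) ?_
      (isPGroup_sup (hT.pg.to_le inf_le_left) (isPGroup_pCoreOf p H)
        ((inf_le_right.trans h1).trans hO)))) inf_le_right).trans (pCoreOf_inf_le h1)))
  refine hT.pResidualOf_sup.ge.trans (sup_le (le_normalizer_of_commutator_le'
    (commutator_sup_left_le (le_sup_left.trans le_normalizer) (le_sup_right.trans le_normalizer)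
      (((commutator_mono inf_le_right le_rfl).trans h5).trans le_sup_right)
      ((commutator_le_left_of_le_normalizer ((pResidualOf_le p H).trans hO)).trans le_sup_right)))
    (le_normalizer_sup (le_normalizer_inf le_normalizer (hT.le.trans h2)) (hT.le.trans hO)))

end frakH

end Cfsg.Agent.Loc
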