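import Cfsg.Agent.Block.Pairs
import Cfsg.Agent.Block.Count2
import Cfsg.Agent.PLocal.PSolv
import Cfsg.Agent.Loc.Cpl
import Cfsg.Agent.S1946

/-! Glauberman's characterisation of the Suzuki groups, group-theoretic part: `N(P)` controls fusion of
elements of `P` and centralisers of elements of order `p` are `p`-nilpotent (`GH`). -/

set_option linter.unusedSectionVars false

namespace Cfsg.Agent.Loc
open Subgroup Cfsg Cfsg.Agent.Transfer Cfsg.Agent.Block

variable {G : Type*} [Group G] [Finite G] {p : ℕ} [hp : Fact p.Prime] {P : Sylow p G} {x y z n : G}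

/-- `Ω₁(Z(P))` -/
def Zs (P : Sylow p G) : Subgroup G where
  carrier := {z | z ∈ (P : Subgroup G) ∧ z ^ p = 1 ∧ ∀ y ∈ (P : Subgroup G), Commute z y}
  one_mem' := ⟨one_mem _, one_pow _, fun _ _ => Commute.one_left _⟩
  mul_mem' := fun {a b} ha hb => ⟨mul_mem ha.1 hb.1, by rw [(ha.2.2 b hb.1).mul_pow, ha.2.1, hb.2.1, mul_one],
    fun y hy => (ha.2.2 y hy).mul_left (hb.2.2 y hy)⟩
  inv_mem' := fun {a} ha => ⟨inv_mem ha.1, by rw [inv_pow, ha.2.1, inv_one], fun y hy => (ha.2.2 y hy).inv_left⟩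

theorem Zs_le : Zs P ≤ (P : Subgroup G) := fun _ h => h.1

theorem conj_mem_syl (hn : n ∈ normalizer ((P : Subgroup G) : Set G)) (hx : x ∈ (P : Subgroup G)) :
    n * x * n⁻¹ ∈ (P : Subgroup G) := (mem_normalizer_iff.1 hn x).1 hx

theorem Zs_conj (hn : n ∈ normalizer ((P : Subgroup G) : Set G)) (hz : z ∈ Zs P) : n * z * n⁻¹ ∈ Zs P := by
  refine ⟨conj_mem_syl hn hz.1, by rw [conj_pow, hz.2.1]; group, fun y hy => ?_⟩
  have h := (hz.2.2 _ (conj_mem_syl (inv_mem hn) hy)).map (MulAut.conj n)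
  simp only [MulAut.conj_apply, inv_inv] at h
  convert h using 1; group

theorem Zs_order (hz : z ∈ Zs P) (h1 : z ≠ 1) : orderOf z = p := orderOf_eq_prime hz.2.1 h1

theorem exists_pow_order (hx : ∃ k, orderOf x = p ^ k) (h1 : x ≠ 1) : ∃ m : ℕ, orderOf (x ^ m) = p := by
  obtain ⟨k, hk⟩ := hx
  rcases k with _ | k
  · exact absurd (orderOf_eq_one_iff.1 (by simpa using hk)) h1
  refine ⟨p ^ k, ?_⟩
  rw [orderOf_pow' _ (pow_pos hp.out.pos k).ne', hk, Nat.gcd_eq_right (pow_dvd_pow p k.le_succ), pow_succ,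
    Nat.mul_div_cancel_left _ (pow_pos hp.out.pos k)]

theorem exists_Zs_mem (L : Subgroup G) [L.Normal] (h : L ⊓ (P : Subgroup G) ≠ ⊥) : ∃ z ∈ Zs P, z ∈ L ∧ z ≠ 1 := by
  obtain ⟨u, hu, hu1⟩ : ∃ u ∈ (L ⊓ (P : Subgroup G)) ⊓ centralizer ((P : Subgroup G) : Set G), u ≠ 1 := by
    by_contra! H
    refine inf_centralizer_ne_bot P.isPGroup' (P.isPGroup'.to_le inf_le_right) ?_ h ((eq_bot_iff_forall _).2 H)
    exact (le_inf (le_top.trans (normalizer_eq_top L).ge) le_normalizer).trans inf_normalizer_le_normalizer_inf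
  obtain ⟨m, hm⟩ := exists_pow_order (orderOf_eq_pow_of_mem P.isPGroup' hu.1.2) hu1
  exact ⟨u ^ m, ⟨pow_mem (mem_inf.1 (mem_inf.1 hu).1).2 _, hm ▸ pow_orderOf_eq_one _, fun y hy =>
    Commute.pow_left (mem_centralizer_iff.1 hu.2 y hy).symm _⟩, pow_mem (mem_inf.1 (mem_inf.1 hu).1).1 _,
    ne_one_of_orderOf_eq hm⟩

/-- in a `p`-nilpotent subgroup, a `p'`-element commutes with `y` if the commutator is a `p`-element. -/
theorem comm_of_nil {C : Subgroup G} (hC : HasNormalPComplement p C) (hn : n ∈ C) (hy : y ∈ C)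
    (ho : ¬ p ∣ orderOf n) (hk : ∃ k, orderOf (y * n * y⁻¹ * n⁻¹) = p ^ k) : Commute n y := by
  have h1 := hasNormalPComplement_iff_mul_coprime.1 hC (⟨y, hy⟩ * ⟨n, hn⟩ * ⟨y, hy⟩⁻¹) ⟨n, hn⟩⁻¹
    (by rw [orderOf_conj', ← orderOf_coe]; exact ((hp.out.coprime_iff_not_dvd).2 ho).symm)
    (by rw [orderOf_inv, ← orderOf_coe]; exact ((hp.out.coprime_iff_not_dvd).2 ho).symm)
  rw [← orderOf_coe] at h1
  have h2 := eq_one_of_orderOf_pow_of_not_dvd hk ((hp.out.coprime_iff_not_dvd).1 h1.symm)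
  rw [mul_inv_eq_one, mul_inv_eq_iff_eq_mul] at h2
  exact h2.symm

theorem exists_conj_syl {R : Subgroup G} (hR : IsPGroup p R) (P : Sylow p G) :
    ∃ g : G, ∀ r ∈ R, g * r * g⁻¹ ∈ (P : Subgroup G) := by
  obtain ⟨Q, hQ⟩ := hR.exists_le_sylow
  obtain ⟨g, rfl⟩ := MulAction.exists_smul_eq G Q P
  exact ⟨g, fun r hr => ⟨r, hQ hr, rfl⟩⟩

structure GH (P : Sylow p G) : Prop where
  fus : ∀ x ∈ (P : Subgroup G), ∀ y ∈ (P : Subgroup G), (∃ g : G, g * x * g⁻¹ = y) →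
    ∃ n ∈ normalizer ((P : Subgroup G) : Set G), n * x * n⁻¹ = y
  nil : ∀ x ∈ (P : Subgroup G), orderOf x = p → HasNormalPComplement p (centralizer ({x} : Set G))

namespace GH
variable (h : GH P)
include h

theorem nil' (hx : x ∈ (P : Subgroup G)) (h1 : x ≠ 1) : HasNormalPComplement p (centralizer ({x} : Set G)) := by
  obtain ⟨m, hm⟩ := exists_pow_order (orderOf_eq_pow_of_mem P.isPGroup' hx) h1
  refine hasNormalPComplement_of_le (h.nil _ (pow_mem hx m) hm) fun g hg => ?_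
  exact mem_centralizer_singleton_iff.2 (Commute.pow_right (mem_centralizer_singleton_iff.1 hg) m)

theorem nil'' (hx : ∃ k, orderOf x = p ^ k) (h1 : x ≠ 1) : HasNormalPComplement p (centralizer ({x} : Set G)) := by
  obtain ⟨g, hg⟩ := exists_conj_syl (Block.isPGroup_zpowers_of_orderOf hx) P
  have h2 := h.nil' (hg x (mem_zpowers x)) (by simpa using h1)
  refine hasNormalPComplement_of_injective h2 (((MulAut.conj g).toMonoidHom.comp (Subgroup.subtype _)).codRestrict _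
    fun c => mem_centralizer_singleton_iff.2 ?_) fun a b e => ?_
  · exact (show Commute (c : G) x from mem_centralizer_singleton_iff.1 c.2).map (MulAut.conj g)
  · exact Subtype.ext ((MulAut.conj g).injective (congrArg Subtype.val e))

theorem comm_step (hn : n ∈ normalizer ((P : Subgroup G) : Set G)) (ho : ¬ p ∣ orderOf n)
    (hx : x ∈ (P : Subgroup G)) (h1 : x ≠ 1) (hc : Commute n x) (hy : y ∈ (P : Subgroup G)) (hyx : Commute y x) :
    Commute n y :=
  comm_of_nil (h.nil' hx h1) (mem_centralizer_singleton_iff.2 hc) (mem_centralizer_singleton_iff.2 hyx) ho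
    (orderOf_eq_pow_of_mem P.isPGroup' (by
      rw [show y * n * y⁻¹ * n⁻¹ = y * (n * y⁻¹ * n⁻¹) by group]
      exact mul_mem hy (conj_mem_syl hn (inv_mem hy))))

/-- `p'`-elements of `N(P)` act trivially or fixed-point-freely on `P`. -/
theorem fpf (hn : n ∈ normalizer ((P : Subgroup G) : Set G)) (ho : ¬ p ∣ orderOf n)
    (hx : x ∈ (P : Subgroup G)) (h1 : x ≠ 1) (hc : Commute n x) (hy : y ∈ (P : Subgroup G)) : Commute n y := by
  obtain ⟨z, hz, -, hz1⟩ := exists_Zs_mem (P := P) ⊤ (by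
    rw [top_inf_eq]; exact fun e => h1 (mem_bot.1 (e ▸ hx)))
  exact h.comm_step hn ho hz.1 hz1 (h.comm_step hn ho hx h1 hc hz.1 (hz.2.2 x hx)) hy (hz.2.2 y hy).symm

omit h in
theorem decomp (hn : n ∈ normalizer ((P : Subgroup G) : Set G)) : ∃ u ∈ (P : Subgroup G), IsPPart p n u := by
  obtain ⟨u, hu⟩ := exists_isPPart p n
  refine ⟨u, ?_, hu⟩
  have h1 : zpowers u ≤ normalizer ((P : Subgroup G) : Set G) := zpowers_le.2 (IsPPart.mem hu hn)
  have h2 := (Block.isPGroup_zpowers_of_orderOf hu.orderOf_eq).inf_normalizer_sylow P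
  exact (((le_inf le_rfl h1).trans h2.le).trans inf_le_right) (mem_zpowers u)

theorem semireg (hn : n ∈ normalizer ((P : Subgroup G) : Set G)) (hz : z ∈ Zs P) (h1 : z ≠ 1) (hc : Commute n z)
    (hy : y ∈ Zs P) : Commute n y := by
  obtain ⟨u, huP, hu⟩ := decomp hn
  have h2 := h.fpf (mul_mem (inv_mem (le_normalizer huP)) hn) (IsPPart.not_dvd hu) hz.1 h1
    ((hz.2.2 u huP).symm.inv_left.mul_left hc) hy.1
  simpa using (hy.2.2 u huP).symm.mul_left h2

theorem closed (hz : z ∈ Zs P) (hy : y ∈ (P : Subgroup G)) (hc : IsConj z y) : y ∈ Zs P := by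
  obtain ⟨n, hn, rfl⟩ := h.fus z hz.1 y hy (isConj_iff.1 hc)
  exact Zs_conj hn hz

theorem extremal (hx : x ∈ (P : Subgroup G)) :
    p ^ (Nat.card (centralizer ({x} : Set G))).factorization p ≤ Nat.card ↥(centralizer ({x} : Set G) ⊓ P) := by
  obtain ⟨R⟩ : Nonempty (Sylow p (centralizer ({x} : Set G))) := inferInstance
  have hxR : (⟨x, self_mem_centralizer x⟩ : centralizer ({x} : Set G)) ∈ (R : Subgroup _) := by
    have hk : ∃ k, orderOf (⟨x, self_mem_centralizer x⟩ : centralizer ({x} : Set G)) = p ^ k := by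
      rw [← orderOf_coe]; exact orderOf_eq_pow_of_mem P.isPGroup' hx
    have h2 := (Block.isPGroup_zpowers_of_orderOf hk).inf_normalizer_sylow R
    rw [inf_eq_left.2 ((zpowers_le.2 (self_mem_center_centralizer x)).trans (center_le_normalizer _))] at h2
    exact (h2.le.trans inf_le_right) (mem_zpowers _)
  obtain ⟨g, hg⟩ := exists_conj_syl (R.isPGroup'.map (Subgroup.subtype _)) P
  obtain ⟨n, hn, e⟩ := h.fus _ (hg x ⟨_, hxR, rfl⟩) x hx ⟨g⁻¹, by group⟩
  rw [← R.card_eq_multiplicity]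
  refine Nat.card_le_card_of_injective (fun r => ⟨n * (g * r.1.1 * g⁻¹) * n⁻¹, mem_centralizer_singleton_iff.2 ?_,
    conj_mem_syl hn (hg _ ⟨_, r.2, rfl⟩)⟩) fun a b e' => ?_
  · have h3 := ((show Commute r.1.1 x from mem_centralizer_singleton_iff.1 r.1.2).map (MulAut.conj g)).map
      (MulAut.conj n)
    simp only [MulAut.conj_apply, e] at h3
    exact h3
  · have h3 := congrArg Subtype.val e'
    simp only [mul_left_inj, mul_right_inj] at h3
    exact Subtype.ext (Subtype.ext h3)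

/-- the number of conjugates in `P` of an element of `Ω₁(Z(P))#` -/
noncomputable def ee (P : Sylow p G) : ℕ :=
  (centralizer (Zs P : Set G)).relIndex (normalizer ((P : Subgroup G) : Set G))

theorem cls_eq (hx : x ∈ (P : Subgroup G)) :
    {y | y ∈ (P : Subgroup G) ∧ IsConj x y} = BMod.cls (normalizer ((P : Subgroup G) : Set G)) x := by
  ext y
  refine ⟨fun hy => h.fus x hx y hy.1 (isConj_iff.1 hy.2), ?_⟩
  rintro ⟨n, hn, rfl⟩
  exact ⟨conj_mem_syl hn hx, isConj_iff.2 ⟨n, rfl⟩⟩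

theorem count_Z (hz : z ∈ Zs P) (h1 : z ≠ 1) : {y | y ∈ (P : Subgroup G) ∧ IsConj z y}.ncard = ee P := by
  have := Fintype.ofFinite G
  rw [h.cls_eq hz.1, ncard_cls (le_normalizer hz.1), ee, ← inf_relIndex_right, ← inf_relIndex_right (centralizer _)]
  congr 1
  ext n
  rw [mem_inf, mem_inf, mem_centralizer_singleton_iff, mem_centralizer_iff]
  exact and_congr_left fun hn => ⟨fun hc y hy => (h.semireg hn hz h1 hc hy).symm, fun hc => (hc z hz).symm⟩

theorem count_P (hx : x ∈ (P : Subgroup G)) (h1 : x ≠ 1) :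
    p ^ (Nat.card (centralizer ({x} : Set G))).factorization p * {y | y ∈ (P : Subgroup G) ∧ IsConj x y}.ncard ≤
      ee P * Nat.card (P : Subgroup G) := by
  have := Fintype.ofFinite G
  set N := normalizer ((P : Subgroup G) : Set G) with hN
  obtain ⟨K, hK, hm⟩ := exists_regular_centralizer P ⊤
  obtain ⟨z, hz, -, hz1⟩ := exists_Zs_mem (P := P) ⊤ (by
    rw [top_inf_eq]; exact fun e => h1 (mem_bot.1 (e ▸ hx)))
  have a1 : Nat.card ↥(centralizer (Zs P : Set G) ⊓ N) ≤ Nat.card (P : Subgroup G) * Nat.card K := by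
    rw [← Nat.card_prod]
    have : ∀ n : ↥(centralizer (Zs P : Set G) ⊓ N), ∃ a : ↥(P : Subgroup G) × K, (a.1 : G) * a.2 = n := fun n => by
      obtain ⟨u, huP, hu⟩ := decomp n.2.2
      refine ⟨(⟨u, huP⟩, ⟨u⁻¹ * n, (hm _).2 ⟨mem_centralizer_iff.2 fun y hy => ?_, trivial, (IsPPart.not_dvd hu)⟩⟩), by simp⟩
      exact (h.fpf (mul_mem (inv_mem (le_normalizer huP)) n.2.2) (IsPPart.not_dvd hu) hz.1 hz1
        ((hz.2.2 u huP).symm.inv_left.mul_left (mem_centralizer_iff.1 n.2.1 z hz).symm) hy).symm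
    choose f hf using this
    exact Nat.card_le_card_of_injective f fun a b e => Subtype.ext (by rw [← hf, ← hf, e])
  have a2 : Nat.card ↥(centralizer ({x} : Set G) ⊓ P) * Nat.card K ≤ Nat.card ↥(centralizer ({x} : Set G) ⊓ N) := by
    rw [← Nat.card_prod]
    refine Nat.card_le_card_of_injective (fun a => ⟨a.1 * a.2, mul_mem (mem_inf.2 ⟨a.1.2.1, le_normalizer a.1.2.2⟩)
      (mem_inf.2 ⟨mem_centralizer_singleton_iff.2 (mem_centralizer_iff.1 ((hm _).1 a.2.2).1 x hx).symm,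
        centralizer_le_normalizer _ ((hm _).1 a.2.2).1⟩)⟩) fun a b e => ?_
    have e1 : (b.1 : G)⁻¹ * a.1 = b.2 * (a.2 : G)⁻¹ := by
      have := congrArg Subtype.val e
      rw [inv_mul_eq_iff_eq_mul, ← mul_assoc, eq_mul_inv_iff_mul_eq]; exact this
    have e2 : (b.1 : G)⁻¹ * a.1 = 1 := eq_one_of_orderOf_pow_of_not_dvd
      (orderOf_eq_pow_of_mem P.isPGroup' (mul_mem (inv_mem (mem_inf.1 b.1.2).2) (mem_inf.1 a.1.2).2))
      (e1 ▸ ((hm _).1 (mul_mem b.2.2 (inv_mem a.2.2))).2.2)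
    rw [e2, eq_comm, mul_inv_eq_one] at e1
    exact Prod.ext (Subtype.ext (inv_mul_eq_one.1 e2).symm) (Subtype.ext e1.symm)
  have a3 : ∀ C : Subgroup G, C.relIndex N * Nat.card ↥(C ⊓ N) = Nat.card N := fun C => by
    rw [← inf_relIndex_right, mul_comm, ← Nat.card_congr (subgroupOfEquivOfLe (inf_le_right (a := C))).toEquiv]
    exact card_mul_index _
  rw [h.cls_eq hx, ncard_cls (le_normalizer hx)]
  refine Nat.le_of_mul_le_mul_right ?_ (Nat.card_pos (α := K))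
  calc _ ≤ Nat.card ↥(centralizer ({x} : Set G) ⊓ P) * (centralizer ({x} : Set G)).relIndex N * Nat.card K := by
        gcongr; exact h.extremal hx
    _ = (centralizer ({x} : Set G)).relIndex N * (Nat.card ↥(centralizer ({x} : Set G) ⊓ P) * Nat.card K) := by ring
    _ ≤ (centralizer ({x} : Set G)).relIndex N * Nat.card ↥(centralizer ({x} : Set G) ⊓ N) := by gcongr
    _ = ee P * Nat.card ↥(centralizer (Zs P : Set G) ⊓ N) := by rw [a3, ee, a3]
    _ ≤ ee P * (Nat.card (P : Subgroup G) * Nat.card K) := by gcongr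
    _ = _ := by ring

theorem back {R : Subgroup G} (hR : IsPGroup p R) : ∃ g : G, (∀ r ∈ R, g * r * g⁻¹ ∈ (P : Subgroup G)) ∧
    ∀ r ∈ R, ∀ z ∈ Zs P, IsConj z r → g * r * g⁻¹ ∈ Zs P := by
  obtain ⟨g, hg⟩ := exists_conj_syl hR P
  exact ⟨g, hg, fun r hr z hz hc => h.closed hz (hg r hr) (hc.trans (isConj_iff.2 ⟨g, rfl⟩))⟩

theorem central {R : Subgroup G} (hR : IsPGroup p R) (hz : z ∈ Zs P) (hc : IsConj z x) (hx : x ∈ R) (hy : y ∈ R) :
    Commute x y := by
  obtain ⟨g, hg, hg'⟩ := h.back hR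
  simpa [mul_assoc] using ((hg' x hx z hz hc).2.2 _ (hg y hy)).map (MulAut.conj g⁻¹)

theorem pair {z' : G} (hz : z ∈ Zs P) (hz' : z' ∈ Zs P) (hx : IsConj z x) (hy : IsConj z' y)
    (hs : IsPSolvable p (closure ({x, y} : Set G))) : ∃ a ∈ Zs P, ∃ b ∈ Zs P, IsConj x a ∧ IsConj y b ∧
      ∀ (k : ℕ) (u : G), IsPPart p (x * y ^ k) u → IsConj u (a * b ^ k) := by
  set H := closure ({x, y} : Set G)
  have xH : x ∈ H := subset_closure (by simp)
  have yH : y ∈ H := subset_closure (by simp)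
  have ord : ∀ {w v : G}, w ∈ Zs P → IsConj w v → ∃ k, orderOf v = p ^ k := fun hw hc =>
    IsConj.orderOf_eq' hc ▸ orderOf_eq_pow_of_mem P.isPGroup' hw.1
  have key : ∀ {w v : G} (hv : v ∈ H), w ∈ Zs P → IsConj w v → (⟨v, hv⟩ : H) ∈ pPrimePCore p H := by
    intro w v hv hw hc
    obtain ⟨S, hS⟩ := (Block.isPGroup_zpowers_of_orderOf (x := (⟨v, hv⟩ : H))
      (by rw [← orderOf_coe]; exact ord hw hc)).exists_le_sylow
    refine PLocal.center_sylow_le_pPrimePCore (PLocal.isPConstrained_of_pSolv hs) S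
      (mem_inf.2 ⟨hS (mem_zpowers _), mem_centralizer_iff.2 fun s hs => Subtype.ext ?_⟩)
    exact (h.central (S.isPGroup'.map H.subtype) hw hc ⟨_, hS (mem_zpowers _), rfl⟩ ⟨_, hs, rfl⟩).symm
  have top : pPrimePCore p H = ⊤ := by
    rw [← map_subtype_inj, ← MonoidHom.range_eq_map, range_subtype]
    refine le_antisymm (map_subtype_le _) (closure_le _ |>.2 ?_)
    rintro _ (rfl | rfl)
    exacts [⟨_, key xH hz hx, rfl⟩, ⟨_, key yH hz' hy, rfl⟩]
  set O := pPrimeCore p H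
  have hq : IsPGroup p (H ⧸ O) := by
    have h1 : pCore p (H ⧸ O) = ⊤ := by
      rw [PLocal.pPrimePCore_eq_comap (QuotientGroup.mk'_surjective O) (QuotientGroup.ker_mk' O)] at top
      exact comap_injective (QuotientGroup.mk'_surjective O) (top.trans (comap_top _).symm)
    exact (h1 ▸ isPGroup_pCore p (H ⧸ O)).of_equiv topEquiv
  obtain ⟨R, hR⟩ := (Block.isPGroup_zpowers_of_orderOf (x := (⟨x, xH⟩ : H))
      (by rw [← orderOf_coe]; exact ord hz hx)).exists_le_sylow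
  have hc := isComplement'_sylow_of_coprime O coprime_card_pPrimeCore hq R
  have mv : ∀ u : H, (∃ k, orderOf u = p ^ k) → ∃ r ∈ (R : Subgroup H), IsConj u r ∧
      QuotientGroup.mk' O r = QuotientGroup.mk' O u := fun u hu => by
    obtain ⟨g, hg⟩ := exists_conj_syl (Block.isPGroup_zpowers_of_orderOf hu) R
    obtain ⟨⟨w, s⟩, e, -⟩ := hc.existsUnique g⁻¹
    have e' : g = (s : H)⁻¹ * (w : H)⁻¹ := by rw [← mul_inv_rev]; exact inv_eq_iff_eq_inv.1 e.symm
    refine ⟨(w : H)⁻¹ * u * w, ?_, isConj_iff.2 ⟨(w : H)⁻¹, by rw [inv_inv]⟩, ?_⟩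
    · have := mul_mem (mul_mem s.2 (hg u (mem_zpowers u))) (inv_mem s.2)
      rw [e'] at this
      convert this using 1; group
    · have : QuotientGroup.mk' O w = 1 := (QuotientGroup.eq_one_iff _).2 w.2
      simp only [map_mul, map_inv, this, inv_one, one_mul, mul_one]
  obtain ⟨r, hr, hr1, hr2⟩ := mv ⟨y, yH⟩ (by rw [← orderOf_coe]; exact ord hz' hy)
  obtain ⟨g, hg, hg'⟩ := h.back (R.isPGroup'.map H.subtype)
  have yr : IsConj y r := H.subtype.map_isConj hr1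
  refine ⟨_, hg' x ⟨_, hR (mem_zpowers _), rfl⟩ z hz hx, _, hg' r ⟨_, hr, rfl⟩ z' hz' (hy.trans yr),
    isConj_iff.2 ⟨g, rfl⟩, yr.trans (isConj_iff.2 ⟨g, rfl⟩), fun k u hu => ?_⟩
  have uH : u ∈ H := IsPPart.mem hu (mul_mem xH (pow_mem yH k))
  have hu' : IsPPart p (⟨x, xH⟩ * ⟨y, yH⟩ ^ k : H) ⟨u, uH⟩ := IsPPart.of_coe hu
  obtain ⟨s, hs', hs1, hs2⟩ := mv ⟨u, uH⟩ (IsPPart.orderOf_eq hu')
  have e1 : QuotientGroup.mk' O ⟨u, uH⟩ = QuotientGroup.mk' O (⟨x, xH⟩ * ⟨y, yH⟩ ^ k) :=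
    IsPPart.unique (IsPPart.map (QuotientGroup.mk' O) hu') (isPPart_self ((IsPGroup.iff_orderOf.1 hq) _))
  have e2 : s = ⟨x, xH⟩ * r ^ k := by
    have h1 : s⁻¹ * (⟨x, xH⟩ * r ^ k) ∈ O := by
      rw [← QuotientGroup.ker_mk' O, MonoidHom.mem_ker, map_mul, map_inv, hs2, e1, map_mul, map_mul, map_pow, map_pow,
        hr2, inv_mul_cancel]
    have h2 := hc.disjoint.le_bot (mem_inf.2 ⟨h1, mul_mem (inv_mem hs') (mul_mem (hR (mem_zpowers _)) (pow_mem hr k))⟩)
    exact inv_mul_eq_one.1 (mem_bot.1 h2)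
  refine (show IsConj u s from H.subtype.map_isConj hs1).trans (isConj_iff.2 ⟨g, ?_⟩)
  rw [e2, conj_pow, conj_mul]; rfl

theorem nil_or : HasNormalPComplement p G ∨ ∃ n ∈ normalizer ((P : Subgroup G) : Set G), ¬ p ∣ orderOf n ∧
    ∀ x ∈ (P : Subgroup G), Commute n x → x = 1 := by
  by_contra! H
  refine H.1 ((S1946.result P).2 fun a ha _ g hg => ?_)
  obtain ⟨n, hn, e⟩ := h.fus a ha _ hg ⟨g, rfl⟩
  obtain ⟨u, huP, hu⟩ := decomp hn
  have hn' := mul_mem (inv_mem (le_normalizer huP)) hn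
  obtain ⟨x, hx, hc, h1⟩ := H.2 _ hn' (IsPPart.not_dvd hu)
  refine ⟨u, huP, ?_⟩
  rw [← e, show n * a * n⁻¹ = u * (u⁻¹ * n * a) * n⁻¹ by group, (h.fpf hn' (IsPPart.not_dvd hu) hx h1 hc ha).eq]
  group

theorem le_of_normal (hG : normalClosure ((P : Subgroup G) : Set G) = ⊤)
    (hn : n ∈ normalizer ((P : Subgroup G) : Set G)) (ho : ¬ p ∣ orderOf n)
    (hf : ∀ x ∈ (P : Subgroup G), Commute n x → x = 1) (L : Subgroup G) [L.Normal] (hL : L ⊓ (P : Subgroup G) ≠ ⊥) :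
    L = ⊤ := by
  obtain ⟨z, hz, hzL, hz1⟩ := exists_Zs_mem L hL
  set C := centralizer ((Zs P ⊓ L : Subgroup G) : Set G)
  have hPC : (P : Subgroup G) ≤ C := fun y hy => mem_centralizer_iff.2 fun w hw => hw.1.2.2 y hy
  have hV : (L ⊔ C).Normal := ⟨fun v hv g => by
    obtain ⟨l, hl, k, hk, rfl⟩ := ((sylIn_top P).inf_normal' (N := L) le_top (normalizer_eq_top L).ge).frattini
      (g := g) ((normalizer_eq_top L).ge trivial)
    have hkC : ∀ c ∈ C, k * c * k⁻¹ ∈ C := fun c hc => mem_centralizer_iff.2 fun w hw => by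
      have h1 : k⁻¹ * w * k⁻¹⁻¹ ∈ (P : Subgroup G) ⊓ L := (mem_normalizer_iff.1 (inv_mem hk) w).1 ⟨hw.1.1, hw.2⟩
      have h2 := (show Commute (k⁻¹ * w * k⁻¹⁻¹) c from mem_centralizer_iff.1 hc _
        ⟨h.closed hw.1 h1.1 (isConj_iff.2 ⟨k⁻¹, rfl⟩), h1.2⟩).map (MulAut.conj k)
      simpa [mul_assoc] using h2.eq
    obtain ⟨a, ha, c, hc, rfl⟩ := mem_sup_of_normal_left.1 hv
    rw [show l * k * (a * c) * (l * k)⁻¹ = l * (k * a * k⁻¹) * (k * c * k⁻¹) * l⁻¹ by group]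
    exact mul_mem (mul_mem (mul_mem (mem_sup_left hl) (mem_sup_left (Normal.conj_mem ‹_› a ha k)))
      (mem_sup_right (hkC c hc))) (mem_sup_left (inv_mem hl))⟩
  have hT : L ⊔ C = ⊤ := top_le_iff.1 (hG ▸ normalClosure_le_normal (hPC.trans le_sup_right))
  have hC : HasNormalPComplement p C := hasNormalPComplement_of_le (h.nil' hz.1 hz1) fun c hc =>
    mem_centralizer_singleton_iff.2 (mem_centralizer_iff.1 hc z ⟨hz, hzL⟩).symm
  have hQ : HasNormalPComplement p (⊤ : Subgroup (G ⧸ L)) := hasNormalPComplement_top_iff.2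
    (hasNormalPComplement_of_surjective hC ((QuotientGroup.mk' L).comp C.subtype) fun q => by
      obtain ⟨g, rfl⟩ := QuotientGroup.mk'_surjective L q
      obtain ⟨a, ha, c, hc, rfl⟩ := mem_sup_of_normal_left.1 (hT.ge (mem_top g))
      exact ⟨⟨c, hc⟩, by simp [(QuotientGroup.eq_one_iff a).2 ha]⟩)
  have hm : ∀ x ∈ (P : Subgroup G), x * n * x⁻¹ * n⁻¹ ∈ (P : Subgroup G) := fun x hx => by
    rw [show x * n * x⁻¹ * n⁻¹ = x * (n * x⁻¹ * n⁻¹) by group]
    exact mul_mem hx (conj_mem_syl hn (inv_mem hx))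
  have hs : Function.Surjective fun x : (P : Subgroup G) => (⟨_, hm x x.2⟩ : (P : Subgroup G)) :=
    Finite.surjective_of_injective fun a b e => by
      have e1 : (a : G) * n * (a : G)⁻¹ = b * n * (b : G)⁻¹ := mul_right_cancel (congrArg Subtype.val e)
      have e2 := hf _ (mul_mem (inv_mem b.2) a.2) (show n * ((b : G)⁻¹ * a) = (b : G)⁻¹ * a * n by
        calc _ = (b : G)⁻¹ * (b * n * (b : G)⁻¹) * a := by group
          _ = _ := by rw [← e1]; group)
      exact Subtype.ext (inv_mul_eq_one.1 e2).symm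
  refine top_le_iff.1 (hG ▸ normalClosure_le_normal fun y hy => ?_)
  obtain ⟨x, e⟩ := hs ⟨y, hy⟩
  have e1 : (x : G) * n * (x : G)⁻¹ * n⁻¹ = y := congrArg Subtype.val e
  have h3 := comm_of_nil hQ (mem_top (QuotientGroup.mk' L n)) (mem_top (QuotientGroup.mk' L x))
    (fun hd => ho (hd.trans (orderOf_map_dvd _ _))) (by
      rw [← map_mul, ← map_inv, ← map_mul, ← map_inv, ← map_mul, e1]
      exact orderOf_eq_pow_of_mem (P.isPGroup'.map _) ⟨y, hy, rfl⟩)
  rw [SetLike.mem_coe, ← QuotientGroup.eq_one_iff, ← e1, ← QuotientGroup.mk'_apply]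
  simp only [map_mul, map_inv, ← h3.eq]; group

omit h in
theorem cong_step {C R K : Subgroup G} [K.Normal] (hC : HasNormalPComplement p C) (hR : SylIn p R C) (hK : R ≤ K)
    {c : G} (hc : c ∈ C) : ∃ d ∈ centralizer (R : Set G), c * d⁻¹ ∈ K := by
  obtain ⟨k, hk, m, hm, rfl⟩ := (hR.mono (le_inf hR.le hK) inf_le_left).frattini (g := c)
    (inf_normalizer_le_normalizer_inf ⟨le_normalizer hc, (normalizer_eq_top K).ge trivial⟩)
  have mC : m ∈ C := by simpa using mul_mem (inv_mem (mem_inf.1 hk).1) hc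
  obtain ⟨u, hu⟩ := exists_isPPart p m
  have uR : u ∈ R := hR.le_of_normalizes (zpowers_le.2 (IsPPart.mem hu mC))
    (Block.isPGroup_zpowers_of_orderOf hu.orderOf_eq) (zpowers_le.2 (IsPPart.mem hu hm)) (mem_zpowers u)
  have hm' := mul_mem (inv_mem (le_normalizer uR)) hm
  refine ⟨u⁻¹ * m, mem_centralizer_iff.2 fun y hy => (comm_of_nil hC (mul_mem (inv_mem (hR.le uR)) mC) (hR.le hy)
    (IsPPart.not_dvd hu) (orderOf_eq_pow_of_mem hR.pg ?_)).symm, ?_⟩
  · rw [show y * (u⁻¹ * m) * y⁻¹ * (u⁻¹ * m)⁻¹ = y * (u⁻¹ * m * y⁻¹ * (u⁻¹ * m)⁻¹) by group]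
    exact mul_mem hy ((mem_normalizer_iff.1 hm' _).1 (inv_mem hy))
  · simpa using mul_mem (mem_inf.1 hk).2 (hK uR)

theorem sub {K : Subgroup G} [K.Normal] (hK : (P : Subgroup G) ≤ K) : GH (P.subtype hK) := by
  refine ⟨fun x hx y hy ⟨k, hk⟩ => ?_, fun x hx ho => ?_⟩
  · by_cases h1 : (x : G) = 1
    · exact ⟨1, one_mem _, by rw [← hk, show x = 1 from Subtype.ext h1]; group⟩
    obtain ⟨n, hn, e⟩ := h.fus x hx y hy ⟨k, congrArg Subtype.val hk⟩
    obtain ⟨z, hz, -, hz1⟩ := exists_Zs_mem (P := P) ⊤ (by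
      rw [top_inf_eq]; exact fun e => h1 (mem_bot.1 (e ▸ (hx : (x : G) ∈ (P : Subgroup G)))))
    obtain ⟨R, hR⟩ := exists_sylIn p (centralizer ({(x : G)} : Set G))
    obtain ⟨w, hw, hw'⟩ := cong_step (h.nil' hx h1) (sylIn_of_card_le hR (Q := centralizer {(x : G)} ⊓ P) inf_le_left
      (P.isPGroup'.to_le inf_le_right) (hR.card_eq_pow ▸ h.extremal hx)) (inf_le_right.trans hK)
      (c := n⁻¹ * k) (mem_centralizer_singleton_iff.2 (by
        have e1 : (k : G) * x * (k : G)⁻¹ = n * x * n⁻¹ := (congrArg Subtype.val hk).trans e.symm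
        calc n⁻¹ * k * (x : G) = n⁻¹ * (k * x * (k : G)⁻¹) * k := by group
          _ = x * (n⁻¹ * k) := by rw [e1]; group))
    obtain ⟨d, hd, hd'⟩ := cong_step (h.nil' hz.1 hz1) (sylIn_of_sylow_le P fun y hy =>
      mem_centralizer_singleton_iff.2 (hz.2.2 y hy).symm) hK (c := w) (mem_centralizer_singleton_iff.2
        (mem_centralizer_iff.1 hw z ⟨mem_centralizer_singleton_iff.2 (hz.2.2 x hx), hz.1⟩).symm)
    have m1 : n * d ∈ K := by
      have := inv_mem (mul_mem (inv_mem k.2) (Normal.conj_mem ‹K.Normal› _ (mul_mem hw' hd') n))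
      convert this using 1; group
    refine ⟨⟨n * d, m1⟩, mem_normalizer_iff.2 fun a => ?_, Subtype.ext ?_⟩
    · exact mem_normalizer_iff.1 (mul_mem hn (centralizer_le_normalizer _ hd)) a
    · show n * d * x * (n * d)⁻¹ = y
      rw [← e, mul_assoc n, ← mem_centralizer_iff.1 hd x hx]; group
  · refine hasNormalPComplement_of_injective (h.nil x hx (by rw [← ho, orderOf_coe]))
      ((K.subtype.comp (Subgroup.subtype _)).codRestrict _ fun c => mem_centralizer_singleton_iff.2 ?_) fun a b e => ?_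
    · exact congrArg Subtype.val (mem_centralizer_singleton_iff.1 c.2)
    · exact Subtype.ext (Subtype.ext (congrArg (fun c : centralizer ({(x : G)} : Set G) => (c : G)) e))

end GH

end Cfsg.Agent.Loc
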