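import Cfsg.Agent.Loc.GSz
import Cfsg.Agent.Char.Misc

/-! Numerical and restriction lemmas for Glauberman's characterization of the Suzuki groups. -/
set_option autoImplicit false
namespace Cfsg.Agent.Loc
open Finset Cfsg Cfsg.Agent.Char Cfsg.Agent.Block

theorem gsz_num {ι : Type*} (B : Finset ι) (o : ι) (ho : o ∈ B) (a d : ι → ℕ) (ζ e q r : ℕ) (σ : ι → ℝ)
    (hσ : ∀ i, σ i = ζ * a i - d i) (hd : ∀ i, 0 < d i) (hao : a o = 1) (hdo : d o = 1)
    (h1 : ∑ i ∈ B, σ i ^ 2 = (ζ - 1) * (e * q)) (h0 : ∑ i ∈ B, σ i * d i = 0)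
    (h3 : (ζ - 1 : ℝ) * (ζ - 1 - r) * (e * q) ≤ ∑ i ∈ B, σ i ^ 3 / d i)
    (hb : ∀ i ∈ B, i ≠ o → a i + e ≤ d i ∧ ζ * a i ^ 2 ≤ d i ^ 2) (he : 2 ≤ e) (hq : ζ ≤ q)
    (hc : (4 ≤ ζ ∧ r ≤ 1) ∨ (9 ≤ ζ ∧ r ≤ e ∧ 2 * r + 1 ≤ ζ) ∨ (ζ = 3 ∧ r ≤ 1 ∧ (9 ≤ q ∨ (q = 3 ∧ e = 2)))) :
    False := by
  classical
  have so : σ o = ζ - 1 := by rw [hσ, hao, hdo]; simp
  rw [← add_sum_erase _ _ ho, so] at h1 h0 h3
  rw [hdo, Nat.cast_one] at h0 h3
  rw [div_one] at h3
  have dp : ∀ i, (0 : ℝ) < d i := fun i => by exact_mod_cast hd i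
  have key : ∀ c : ℝ, (∀ i ∈ B.erase o, σ i ≤ c * d i) → ∀ i ∈ B.erase o, σ i ^ 3 / d i ≤ c * σ i ^ 2 :=
    fun c hc i hi => by
      rw [div_le_iff₀ (dp i)]
      nlinarith [hc i hi, sq_nonneg (σ i)]
  have he' : (2 : ℝ) ≤ e := by exact_mod_cast he
  have hq' : (ζ : ℝ) ≤ q := by exact_mod_cast hq
  by_cases h33 : ζ = 3 ∧ q = 3 ∧ e = 2
  · obtain ⟨rfl, rfl, rfl⟩ := h33
    have hr : (r : ℝ) ≤ 1 := by exact_mod_cast (show r ≤ 1 by omega)
    have h1' : ∑ i ∈ B.erase o, σ i ^ 2 = 8 := by push_cast at h1; linarith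
    have hh : ∀ i ∈ B.erase o, σ i ≤ 1 / 2 * d i := fun i hi => by
      have b1 := (hb i (mem_of_mem_erase hi) (ne_of_mem_erase hi)).1
      have b2 : σ i ^ 2 ≤ 8 := h1' ▸ single_le_sum (f := fun i => σ i ^ 2) (fun i _ => sq_nonneg _) hi
      have b3 : 3 * a i ≤ d i + 2 := by
        by_contra hn
        have : (d i : ℝ) + 3 ≤ 3 * a i := by exact_mod_cast (show d i + 3 ≤ 3 * a i by omega)
        rw [hσ] at b2; push_cast at b2; nlinarith
      have b4 : (2 * a i : ℝ) ≤ d i := by exact_mod_cast (show 2 * a i ≤ d i by omega)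
      rw [hσ]; push_cast; linarith
    obtain ⟨j, hj, hj0⟩ : ∃ j ∈ B.erase o, σ j < 0 := by
      by_contra! hn
      have : 0 ≤ ∑ i ∈ B.erase o, σ i * d i := sum_nonneg fun i hi => mul_nonneg (hn i hi) (dp i).le
      push_cast at h0; linarith
    have : ∑ i ∈ B.erase o, σ i ^ 3 / d i < ∑ i ∈ B.erase o, 1 / 2 * σ i ^ 2 := by
      refine sum_lt_sum (key _ hh) ⟨j, hj, ?_⟩
      have : σ j ^ 3 / d j < 0 := div_neg_of_neg_of_pos (Odd.pow_neg (by decide) hj0) (dp j)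
      nlinarith [sq_nonneg (σ j)]
    rw [← mul_sum, h1'] at this
    push_cast at h3; linarith
  set s := Real.sqrt ζ with hs
  have s2 : s ^ 2 = ζ := Real.sq_sqrt (Nat.cast_nonneg _)
  have s0 : 0 ≤ s := Real.sqrt_nonneg _
  have hh : ∀ i ∈ B.erase o, σ i ≤ (s - 1) * d i := fun i hi => by
    have b1 : (ζ : ℝ) * a i ^ 2 ≤ d i ^ 2 := by exact_mod_cast (hb i (mem_of_mem_erase hi) (ne_of_mem_erase hi)).2
    have b2 : s * a i ≤ d i := le_of_sq_le_sq (by rwa [mul_pow, s2]) (dp i).le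
    rw [hσ, ← s2]; nlinarith
  have h4 := (sum_le_sum (key _ hh))
  rw [← mul_sum] at h4
  have z3 : 3 ≤ ζ := by omega
  have z3' : (3 : ℝ) ≤ ζ := by exact_mod_cast z3
  have h5 : (ζ - 1 : ℝ) * ((ζ - s - r) * (e * q)) ≤ (ζ - 1) * ((ζ - 1) * (ζ - s)) := by
    rw [show ∑ i ∈ B.erase o, σ i ^ 2 = (ζ - 1) * (e * q) - (ζ - 1) ^ 2 by linarith] at h4
    linarith
  have h6 := le_of_mul_le_mul_left h5 (by linarith)
  have fin : (ζ - s : ℝ) ≤ e * (ζ - s - r) → 1 < s → False := fun h7 h8 => by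
    have : 0 < ζ - s := by nlinarith
    have h9 : 0 < ζ - s - r := by nlinarith
    nlinarith [mul_le_mul_of_nonneg_left hq' (mul_nonneg (by linarith : (0 : ℝ) ≤ e) h9.le)]
  rcases hc with ⟨c1, c2⟩ | ⟨c1, c2, c3⟩ | ⟨rfl, c2, c3⟩
  · have c1' : (4 : ℝ) ≤ ζ := by exact_mod_cast c1
    have c2' : (r : ℝ) ≤ 1 := by exact_mod_cast c2
    have : 2 ≤ s := by nlinarith
    refine fin ?_ (by linarith)
    have : 2 ≤ ζ - s := by nlinarith
    nlinarith
  · have c1' : (9 : ℝ) ≤ ζ := by exact_mod_cast c1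
    have c2' : (r : ℝ) ≤ e := by exact_mod_cast c2
    have c3' : (2 * r + 1 : ℝ) ≤ ζ := by exact_mod_cast c3
    have : 3 ≤ s := by nlinarith
    refine fin ?_ (by linarith)
    have : 6 ≤ ζ - s := by nlinarith
    rcases he.eq_or_lt with rfl | h
    · push_cast at *; linarith
    · have h' : (3 : ℝ) ≤ e := by exact_mod_cast h
      have : 3 * (r : ℝ) ≤ 2 * (ζ - s) := by nlinarith
      nlinarith
  · have c3' : (9 : ℝ) ≤ q := by exact_mod_cast (show 9 ≤ q by omega)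
    have c2' : (r : ℝ) ≤ 1 := by exact_mod_cast c2
    push_cast at *
    have : s ≤ 7 / 4 := by nlinarith
    have : 5 / 3 ≤ s := by nlinarith
    have : 18 ≤ (e : ℝ) * q := by nlinarith
    nlinarith

theorem gsz_restr {Q ι : Type*} [Group Q] [Fintype Q] [Fintype ι] {f : Q → ℂ} (hf : IsCharacter Q f)
    (Z : Subgroup Q) [Fintype Z] (hZ : Z ≤ Subgroup.center Q) (φ : ι → MulAut Q) (hinv : ∀ i x, f (φ i x) = f x)
    (hφ : ∀ i, ∀ z ∈ Z, φ i z ∈ Z) (hsep : ∀ i j, i ≠ j → ∀ w ∈ Z, φ i w = φ j w → w = 1)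
    (hnt : ∃ z ∈ Z, f z ≠ f 1) : ∃ a : ℕ, ∑ z : Z, f z = Nat.card Z * a ∧ a + Fintype.card ι ≤ charDegree f ∧
      (Nat.card Z * a ^ 2 + Fintype.card ι * Nat.card Q : ℝ) ≤ ∑ x, ‖f x‖ ^ 2 := by
  classical
  have hN : Z.Normal := ⟨fun z hz g => by rwa [Subgroup.mem_center_iff.1 (hZ hz) g, mul_inv_cancel_right]⟩
  obtain ⟨m, hm, hfm⟩ := hf.exists_nat_coeff
  have fa : ∀ x, f x = ∑ θ : IrrCharacter Q, m θ * θ.1 x := fun x => by
    conv_lhs => rw [hfm]
    simp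
  set A := univ.filter (fun θ : IrrCharacter Q => ∀ n ∈ Z, θ.1 n = θ.1 1) with hA
  obtain ⟨θ0, h0, hm0⟩ : ∃ θ : IrrCharacter Q, θ ∉ A ∧ m θ ≠ 0 := by
    by_contra! hn
    obtain ⟨z, hz, h⟩ := hnt
    refine h ?_
    rw [fa, fa]
    refine sum_congr rfl fun θ _ => ?_
    by_cases hθ : θ ∈ A
    · rw [(mem_filter.1 hθ).2 z hz]
    · simp [hn θ hθ]
  let F : ι → IrrCharacter Q := fun i => ⟨fun x => θ0.1 (φ i x), θ0.2.comp_equiv (φ i)⟩
  have sur : ∀ g : Z → Z, Function.Injective g → ∀ z ∈ Z, ∃ w, (g w : Q) = z := fun g hg z hz => by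
    obtain ⟨w, hw⟩ := Finite.surjective_of_injective hg ⟨z, hz⟩
    exact ⟨w, congrArg Subtype.val hw⟩
  have FA : ∀ i, F i ∉ A := fun i hi => h0 (mem_filter.2 ⟨mem_univ _, fun z hz => by
    obtain ⟨w, hw⟩ := sur (fun w => ⟨φ i w, hφ i _ w.2⟩)
      (fun a b e => Subtype.ext ((φ i).injective (congrArg Subtype.val e))) z hz
    have := (mem_filter.1 hi).2 w w.2
    simp only [F, map_one] at this
    rw [← hw, this]⟩)
  have Fm : ∀ i, m (F i) = m θ0 := fun i => by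
    have := classInner_comp_mulEquiv f θ0.1 (φ i)
    simp only [hinv] at this
    exact_mod_cast (hm (F i)).symm.trans (this.trans (hm θ0))
  have Fi : Function.Injective F := fun i j e => by
    by_contra hij
    refine h0 (mem_filter.2 ⟨mem_univ _, fun z hz => ?_⟩)
    have cm : ∀ {u : Q}, u ∈ Z → ∀ v, v * u = u * v := fun hu => Subgroup.mem_center_iff.1 (hZ hu)
    obtain ⟨w, hw⟩ := sur (fun w => ⟨φ i w * (φ j w)⁻¹, mul_mem (hφ i _ w.2) (inv_mem (hφ j _ w.2))⟩)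
      (fun a b e => by
        have e := congrArg Subtype.val e
        dsimp only at e
        refine Subtype.ext (eq_of_mul_inv_eq_one (hsep i j hij _ (mul_mem a.2 (inv_mem b.2)) ?_))
        rw [map_mul, map_mul, map_inv, map_inv, eq_mul_of_mul_inv_eq e, mul_assoc (φ i b), ← cm (hφ i _ b.2),
          mul_inv_cancel_right, cm (hφ j _ a.2)]) z hz
    have e1 : θ0.1 (φ i w) = θ0.1 (φ j w) := congrFun (congrArg Subtype.val e) w
    have e2 : θ0.1 (φ j w) ≠ 0 := by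
      rw [← norm_ne_zero_iff, θ0.2.isCharacter.mem_charCenter.1 (θ0.2.center_le_charCenter (hZ (hφ j _ w.2))),
        norm_ne_zero_iff]
      exact θ0.2.apply_one_ne_zero
    rw [show φ i w = z * φ j w by rw [← hw]; simp, apply_central_mul θ0 (hZ hz), mul_eq_right₀ e2,
      div_eq_one_iff_eq θ0.2.apply_one_ne_zero] at e1
    exact e1
  have big : ∀ g : IrrCharacter Q → ℕ, (∀ θ, m θ ≠ 0 → 0 < g θ) → ∑ θ ∈ A, g θ + Fintype.card ι ≤ ∑ θ, g θ :=
    fun g hg => by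
      rw [← sum_add_sum_compl A, ← card_univ, ← card_image_of_injective _ Fi, card_eq_sum_ones]
      refine Nat.add_le_add_left ((sum_le_sum fun θ hθ => ?_).trans (sum_le_sum_of_subset fun θ hθ => ?_)) _ <;>
        obtain ⟨i, -, rfl⟩ := mem_image.1 hθ
      exacts [hg _ (Fm i ▸ hm0), mem_compl.2 (FA i)]
  refine ⟨∑ θ ∈ A, m θ * charDegree θ.1, ?_, ?_, ?_⟩
  · simp only [fa]
    rw [sum_comm, Nat.cast_sum, mul_sum, hA, sum_filter]
    refine sum_congr rfl fun θ _ => ?_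
    rw [← mul_sum]
    split_ifs with h
    · simp [h, θ.2.apply_one_eq_charDegree]; ring
    · push Not at h
      have := θ.2.sum_mul_eq_zero_of_normal Z h 1
      simp only [one_mul] at this
      rw [this, mul_zero]
  · have : charDegree f = ∑ θ : IrrCharacter Q, m θ * charDegree θ.1 := charDegree_eq_of_apply_one (by
      rw [fa]; push_cast; simp only [fun θ : IrrCharacter Q => θ.2.apply_one_eq_charDegree])
    rw [this]
    exact big _ fun θ h => Nat.mul_pos (Nat.pos_of_ne_zero h) θ.2.charDegree_pos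
  · have e1 : ∑ x, ‖f x‖ ^ 2 = Nat.card Q * (∑ θ, m θ ^ 2 : ℕ) := by
      have := classInner_self_re f
      rw [hf.isClassFunction.classInner_eq_sum_irr] at this
      simp only [hm, map_natCast, ← sq] at this
      rw [eq_inv_mul_iff_mul_eq₀ (by exact_mod_cast Nat.card_pos.ne')] at this
      rw [← this]
      norm_cast
    have e2 : ∑ θ ∈ A, charDegree θ.1 ^ 2 = Z.index := by
      have := sum_irr_filter_ker_degree_sq Z
      rw [sum_congr rfl fun (θ : IrrCharacter Q) _ => congrArg (· ^ 2) θ.2.apply_one_eq_charDegree] at this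
      norm_cast at this
      convert this
    have e3 := sum_mul_sq_le_sq_mul_sq A m fun θ => charDegree θ.1
    have e4 := big (fun θ => m θ ^ 2) fun θ h => pow_pos (Nat.pos_of_ne_zero h) 2
    rw [e1, ← Z.card_mul_index]
    rw [e2] at e3
    norm_cast
    nlinarith [Nat.mul_le_mul_left (Nat.card Z) e3, Nat.mul_le_mul_left (Nat.card Z * Z.index) e4]

end Cfsg.Agent.Loc
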