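import Cfsg.Agent.Loc.GSz2
import Cfsg.Agent.Block.Q8

/-! Glauberman's principal block count (odd primes) for the characterization of the Suzuki groups. -/
set_option autoImplicit false
namespace Cfsg.Agent.Loc
open Finset Subgroup Cfsg Cfsg.Agent.Char Cfsg.Agent.Block Cfsg.Agent.Transfer
open scoped ComplexConjugate
variable {G : Type*} [Group G] [Fintype G] {p : ℕ} [hp : Fact p.Prime] {P : Sylow p G} {x y z n : G}

open _root_.Classical in
/-- the nonidentity elements of a subgroup -/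
noncomputable def nz (H : Subgroup G) : Finset G := univ.filter fun x => x ∈ H ∧ x ≠ 1

theorem mem_nz {H : Subgroup G} : x ∈ nz H ↔ x ∈ H ∧ x ≠ 1 := by simp [nz]

theorem sum_nz (H : Subgroup G) [Fintype H] {A : Type*} [AddCommMonoid A] (f : G → A) :
    ∑ x : H, f x = f 1 + ∑ x ∈ nz H, f x := by
  classical
  rw [← sum_subtype (insert 1 (nz H)) (p := fun x => x ∈ H) fun x => by
    by_cases h : x = 1 <;> simp [mem_nz, h], sum_insert (by simp [mem_nz])]

theorem card_nz (H : Subgroup G) : (nz H).card + 1 = Nat.card H := by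
  have := Fintype.ofFinite H
  simpa [add_comm] using (sum_nz H fun _ => (1 : ℕ)).symm

theorem pow_fact_Zs (hz : z ∈ Zs P) :
    p ^ (Nat.card (centralizer ({z} : Set G))).factorization p = Nat.card (P : Subgroup G) := by
  rw [P.card_eq_multiplicity]
  congr 1
  refine le_antisymm (Nat.factorization_le_factorization_of_dvd_right (card_subgroup_dvd_card _) Nat.card_pos.ne'
    Nat.card_pos.ne') ((hp.out.pow_dvd_iff_le_factorization Nat.card_pos.ne').1 ?_)
  rw [← P.card_eq_multiplicity]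
  exact card_dvd_of_le fun y hy => mem_centralizer_singleton_iff.2 (hz.2.2 y hy).symm

namespace GH
variable {M : Ideal AlgInt} [PMod p M] (h : GH P)
include h

open _root_.Classical in
theorem col_val (hx : x ∈ nz (P : Subgroup G)) {g u : G} (hu : IsPPart p g u) :
    col (principalBlock M G) x g =
      if IsConj x u then ((p ^ (Nat.card (centralizer ({x} : Set G))).factorization p : ℕ) : ℂ) else 0 := by
  rw [mem_nz] at hx
  have hk := orderOf_eq_pow_of_mem P.isPGroup' hx.1
  split_ifs with hc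
  · rw [← col_principal_self (M := M) hk (h.nil' hx.1 hx.2), col_apply, col_apply]
    refine sum_congr rfl fun χ _ => ?_
    split_ifs with hχ
    · rw [apply_eq_of_principal_of_complement hχ hu (h.nil'' (IsPPart.orderOf_eq hu) fun e => hx.2 (by simpa [e] using hc)),
        χ.2.isClassFunction.apply_eq_of_isConj hc]
    · rfl
  · exact col_eq_zero (IsPBlock.isBlockUnion isPBlock_principalBlock) (isPPart_self hk) hu hc

theorem bessel {χ : IrrCharacter G} (hχ : χ ∈ principalBlock M G) :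
    ∑ x ∈ nz (P : Subgroup G), ‖χ.1 x‖ ^ 2 ≤ ee P * Nat.card (P : Subgroup G) := by
  classical
  set S := nz (P : Subgroup G)
  set F := ∑ x ∈ S, ‖χ.1 x‖ ^ 2 with hF
  let v : IrrCharacter G → ℂ := fun ψ => ∑ x ∈ S, conj (χ.1 x) * ψ.1 x
  have e1 : v χ = F := by simp [v, hF, Complex.conj_mul']
  have e2 : ((∑ ψ, if ψ ∈ principalBlock M G then ‖v ψ‖ ^ 2 else 0 : ℝ) : ℂ) =
      (∑ y ∈ S, ‖χ.1 y‖ ^ 2 * (p ^ (Nat.card (centralizer ({y} : Set G))).factorization p *
        {x | x ∈ (P : Subgroup G) ∧ IsConj y x}.ncard : ℕ) : ℝ) := by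
    calc _ = ∑ y ∈ S, ∑ x ∈ S, conj (χ.1 x) * χ.1 y * col (principalBlock M G) y x := by
          simp only [col_apply, mul_sum]
          rw [sum_congr rfl fun y _ => sum_comm, sum_comm]
          push_cast
          refine sum_congr rfl fun ψ _ => ?_
          split_ifs
          · push_cast
            rw [← Complex.mul_conj', map_sum, sum_mul_sum, sum_comm]
            refine sum_congr rfl fun y _ => sum_congr rfl fun x _ => ?_
            rw [ψ.2.apply_inv, map_mul, Complex.conj_conj]; ring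
          · simp
      _ = _ := by
          push_cast
          refine sum_congr rfl fun y hy => ?_
          rw [sum_congr rfl fun x hx => by
            rw [h.col_val hy (isPPart_self (orderOf_eq_pow_of_mem P.isPGroup' (mem_nz.1 hx).1)), mul_ite, mul_zero],
            ← sum_filter, sum_congr rfl fun x hx => by
              rw [← χ.2.isClassFunction.apply_eq_of_isConj (mem_filter.1 hx).2], sum_const, Complex.conj_mul',
            ← Set.ncard_coe_finset]
          rw [show ((S.filter fun x => IsConj y x : Finset G) : Set G) = {x | x ∈ (P : Subgroup G) ∧ IsConj y x} by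
            ext x
            simp only [coe_filter, S, mem_nz, Set.mem_setOf_eq]
            exact ⟨fun a => ⟨a.1.1, a.2⟩, fun a => ⟨⟨a.1, fun e => (mem_nz.1 hy).2 (by simpa [e] using a.2)⟩, a.2⟩⟩]
          push_cast; ring
  have e3 : F ^ 2 ≤ F * (ee P * Nat.card (P : Subgroup G)) := by
    calc F ^ 2 = if χ ∈ principalBlock M G then ‖v χ‖ ^ 2 else 0 := by rw [if_pos hχ, e1]; simp
      _ ≤ ∑ ψ, if ψ ∈ principalBlock M G then ‖v ψ‖ ^ 2 else 0 :=
        single_le_sum (f := fun ψ => if ψ ∈ principalBlock M G then ‖v ψ‖ ^ 2 else 0)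
          (fun ψ _ => by positivity) (mem_univ χ)
      _ ≤ _ := by
        rw [Complex.ofReal_injective e2, hF, sum_mul]
        refine sum_le_sum fun y hy => mul_le_mul_of_nonneg_left ?_ (by positivity)
        exact_mod_cast h.count_P (mem_nz.1 hy).1 (mem_nz.1 hy).2
  have : (0 : ℝ) ≤ ee P * Nat.card (P : Subgroup G) := by positivity
  nlinarith

theorem restr (hZ : normalClosure (Zs P : Set G) = ⊤) (χ : IrrCharacter G) :
    ∃ a : ℕ, ∑ z ∈ nz (Zs P), χ.1 z = Nat.card (Zs P) * a - charDegree χ.1 ∧ (χ = irrOne G → a = 1) ∧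
      (χ ∈ principalBlock M G → χ ≠ irrOne G →
        a + ee P ≤ charDegree χ.1 ∧ Nat.card (Zs P) * a ^ 2 ≤ charDegree χ.1 ^ 2) := by
  classical
  by_cases h1 : χ = irrOne G
  · refine ⟨1, ?_, fun _ => rfl, fun _ h2 => absurd h1 h2⟩
    rw [← χ.2.apply_one_eq_charDegree, ← card_nz, h1]; simp
  set N := normalizer ((P : Subgroup G) : Set G)
  let ι := N ⧸ (centralizer (Zs P : Set G)).subgroupOf N
  have := Fintype.ofFinite ι
  obtain ⟨a, a1, a2, a3⟩ := gsz_restr (ι := ι) (χ.2.isCharacter.restrict (P : Subgroup G)) ((Zs P).subgroupOf P)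
    (fun z hz => mem_center_iff.2 fun y => Subtype.ext (hz.2.2 y y.2).symm)
    (fun i => (P : Subgroup G).normalizerMonoidHom i.out)
    (fun i x => χ.2.isClassFunction _ _) (fun i z hz => Zs_conj i.out.2 hz) (fun i j hij w hw e => by
      by_contra hw1
      refine hij ?_
      rw [← i.out_eq', ← j.out_eq', eq_comm, QuotientGroup.eq, mem_subgroupOf, mem_centralizer_iff]
      have e' : (i.out : G) * w * (i.out : G)⁻¹ = (j.out : G) * w * (j.out : G)⁻¹ := congrArg Subtype.val e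
      refine fun y hy => (h.semireg (j.out⁻¹ * i.out).2 hw (fun e => hw1 (Subtype.ext e)) ?_ hy).symm
      change (j.out : G)⁻¹ * i.out * w = w * ((j.out : G)⁻¹ * i.out)
      rw [mul_assoc, eq_mul_of_mul_inv_eq e']; group) (by
      by_contra! hn
      have hk : normalClosure (Zs P : Set G) ≤ charKer χ.1 := by
        have := χ.2.isClassFunction.normal_charKer
        exact normalClosure_le_normal fun z hz => χ.2.isCharacter.mem_charKer.2 (hn ⟨z, hz.1⟩ hz)
      have := χ.2.sum_eq_zero fun e => h1 (Subtype.ext e)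
      rw [sum_congr rfl fun g _ => χ.2.isCharacter.mem_charKer.1 (hk (hZ ▸ mem_top g))] at this
      simp [χ.2.apply_one_ne_zero] at this)
  have ec : Fintype.card ι = ee P := by rw [← Nat.card_eq_fintype_card]; rfl
  have cz := Nat.card_congr (subgroupOfEquivOfLe (Zs_le (P := P))).toEquiv
  rw [ec] at a2 a3
  rw [cz] at a1 a3
  refine ⟨a, ?_, fun e => absurd e h1, fun hχ _ => ⟨a2, ?_⟩⟩
  · rw [← a1, ← χ.2.apply_one_eq_charDegree, eq_sub_iff_add_eq', ← sum_nz]
    exact ((subgroupOfEquivOfLe (Zs_le (P := P))).toEquiv.sum_comp fun z => χ.1 z).symm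
  · rw [sum_nz (P : Subgroup G) fun x => ‖χ.1 x‖ ^ 2, χ.2.isCharacter.norm_apply_one] at a3
    have := h.bessel hχ
    exact_mod_cast (show (Nat.card (Zs P) * a ^ 2 : ℝ) ≤ charDegree χ.1 ^ 2 by linarith)

open _root_.Classical in
theorem theta {g u w : G} (hu : IsPPart p g u) (hw : w ∈ Zs P) (hc : IsConj u w) :
    ∑ z ∈ nz (Zs P), col (principalBlock M G) z g =
      if p ∣ orderOf g then ((ee P * Nat.card (P : Subgroup G) : ℕ) : ℂ) else 0 := by
  rw [sum_congr rfl fun z hz => by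
    rw [h.col_val (mem_nz.2 ⟨(mem_nz.1 hz).1.1, (mem_nz.1 hz).2⟩) hu, pow_fact_Zs (mem_nz.1 hz).1],
    ← sum_filter, sum_const, nsmul_eq_mul]
  split_ifs with hg
  · have w1 : w ≠ 1 := fun e => (IsPPart.eq_one_iff hu).1 (by simpa [e] using hc) hg
    rw [← h.count_Z hw w1, ← Set.ncard_coe_finset, Nat.cast_mul]
    congr 3
    ext x
    simp only [coe_filter, mem_nz, Set.mem_setOf_eq]
    exact ⟨fun a => ⟨a.1.1.1, (a.2.trans hc).symm⟩, fun a =>
      ⟨⟨h.closed hw a.1 a.2, fun e => w1 (by simpa [e] using a.2)⟩, (hc.trans a.2).symm⟩⟩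
  · rw [(IsPPart.eq_one_iff hu).2 hg, filter_eq_empty_iff.2 fun z hz e => (mem_nz.1 hz).2 (by simpa using e)]
    simp

open _root_.Classical in
theorem exists_r (hp2 : p ≠ 2) (he : 2 ≤ ee P)
    (hc : ∀ x y : G, orderOf x = p → orderOf y = p → IsPSolvable p (closure ({x, y} : Set G))) :
    ∃ r : ℕ, (∀ a ∈ nz (Zs P), ∀ y : G, ((nz (Zs P)).filter fun b => ¬ p ∣ orderOf (a * (y * b * y⁻¹))).card ≤ r) ∧
      ((4 ≤ Nat.card (Zs P) ∧ r ≤ 1) ∨ (9 ≤ Nat.card (Zs P) ∧ r ≤ ee P ∧ 2 * r + 1 ≤ Nat.card (Zs P)) ∨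
        (Nat.card (Zs P) = 3 ∧ r ≤ 1 ∧ (9 ≤ Nat.card (P : Subgroup G) ∨ (Nat.card (P : Subgroup G) = 3 ∧ ee P = 2)))) := by
  have key : ∀ a ∈ nz (Zs P), ∀ y : G, ∀ b ∈ (nz (Zs P)).filter fun b => ¬ p ∣ orderOf (a * (y * b * y⁻¹)),
      IsConj a⁻¹ b ∧ ∀ k : ℕ, b ^ k ∈ ((nz (Zs P)).filter fun b => ¬ p ∣ orderOf (a * (y * b * y⁻¹))) → b ^ k = b := by
    intro a ha y b hb
    rw [mem_filter, mem_nz] at hb
    rw [mem_nz] at ha
    have cb : IsConj b (y * b * y⁻¹) := isConj_iff.2 ⟨y, rfl⟩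
    obtain ⟨a', -, b', -, c1, c2, c3⟩ := h.pair ha.1 hb.1.1 (IsConj.refl a) cb
      (hc _ _ (Zs_order ha.1 ha.2) (IsConj.orderOf_eq' cb ▸ Zs_order hb.1.1 hb.1.2))
    have e1 : a' * b' = 1 := by simpa [eq_comm] using c3 1 1 (isPPart_one_iff.2 (by simpa using hb.2))
    obtain ⟨g, hg⟩ := isConj_iff.1 (cb.trans c2)
    refine ⟨?_, fun k hk => ?_⟩
    · obtain ⟨c, rfl⟩ := isConj_iff.1 c1
      refine (isConj_iff.2 ⟨c, ?_⟩ : IsConj a⁻¹ b').trans (cb.trans c2).symm
      rw [eq_inv_of_mul_eq_one_right e1]; group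
    · have e2 : a' * b' ^ k = 1 := by
        simpa [eq_comm] using c3 k 1 (isPPart_one_iff.2 (by simpa [conj_pow] using (mem_filter.1 hk).2))
      have := mul_left_cancel (e2.trans e1.symm)
      rwa [← hg, conj_pow, mul_left_inj, mul_right_inj] at this
  have p3 : 3 ≤ p := by have := hp.out.two_le; omega
  obtain ⟨k, hk⟩ := (P.isPGroup'.to_le (Zs_le (P := P))).exists_card_eq
  obtain ⟨z, hz⟩ : (nz (Zs P)).Nonempty := by
    by_contra hn
    have : centralizer (Zs P : Set G) = ⊤ := eq_top_iff.2 fun g _ y hy => by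
      obtain rfl : y = 1 := by_contra fun e => hn ⟨y, mem_nz.2 ⟨hy, e⟩⟩
      simp
    simp [ee, this] at he
  have ez : ee P + 1 ≤ Nat.card (Zs P) := by
    rw [← card_nz, ← h.count_Z (mem_nz.1 hz).1 (mem_nz.1 hz).2, ← Set.ncard_coe_finset]
    exact Nat.succ_le_succ (Set.ncard_le_ncard fun x hx => mem_nz.2
      ⟨h.closed (mem_nz.1 hz).1 hx.1 hx.2, fun e => (mem_nz.1 hz).2 (by simpa [e] using hx.2)⟩)
  rcases k with _ | _ | k
  · rw [pow_zero] at hk; omega
  · rw [zero_add, pow_one] at hk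
    refine ⟨1, fun a ha y => card_le_one.2 fun b hb c hc => ?_, ?_⟩
    · have hb' := mem_nz.1 (mem_filter.1 hb).1
      have : zpowers b = Zs P := eq_of_le_of_card_ge (zpowers_le.2 hb'.1)
        (by rw [Nat.card_zpowers, Zs_order hb'.1 hb'.2, hk])
      obtain ⟨j, rfl⟩ := mem_powers_iff_mem_zpowers.2 (this ▸ (mem_nz.1 (mem_filter.1 hc).1).1 : c ∈ zpowers b)
      exact ((key a ha y b hb).2 j hc).symm
    · rcases p3.eq_or_lt with rfl | h3
      · obtain ⟨j, hj⟩ := P.isPGroup'.exists_card_eq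
        have := card_le_of_le (Zs_le (P := P))
        refine Or.inr (Or.inr ⟨hk, le_rfl, ?_⟩)
        rcases j with _ | _ | j <;> omega
      · exact Or.inl ⟨by omega, le_rfl⟩
  · have h9 : 9 ≤ Nat.card (Zs P) := by
      rw [hk, pow_succ, pow_succ]
      nlinarith [pow_pos hp.out.pos k, Nat.mul_le_mul p3 p3]
    refine ⟨min (ee P) ((nz (Zs P)).card / 2), fun a ha y => le_min ?_ ?_, Or.inr (Or.inl ⟨h9, min_le_left _ _, ?_⟩)⟩
    · rw [← h.count_Z (inv_mem (mem_nz.1 ha).1) (inv_ne_one.2 (mem_nz.1 ha).2), ← Set.ncard_coe_finset]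
      exact Set.ncard_le_ncard fun b hb => ⟨(mem_nz.1 (mem_filter.1 hb).1).1.1, (key a ha y b hb).1⟩
    · have sq : ∀ b ∈ Zs P, b ^ 2 = 1 → b = 1 := fun b hb e => by_contra fun b1 =>
        hp2 ((Nat.prime_dvd_prime_iff_eq hp.out Nat.prime_two).1 (Zs_order hb b1 ▸ orderOf_dvd_of_pow_eq_one e))
      set R := (nz (Zs P)).filter fun b => ¬ p ∣ orderOf (a * (y * b * y⁻¹))
      have hR : ∀ b ∈ R, b ∈ Zs P ∧ b ≠ 1 := fun b hb => mem_nz.1 (mem_filter.1 hb).1
      rw [Nat.le_div_iff_mul_le two_pos, mul_two]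
      nth_rw 2 [← card_image_of_injOn (f := fun b => b ^ 2) fun b hb c hc e => ?_]
      · rw [← card_union_of_disjoint (disjoint_right.2 fun c hc hc' => ?_)]
        · refine card_le_card (union_subset (filter_subset _ _) fun c hc => ?_)
          obtain ⟨b, hb, rfl⟩ := mem_image.1 hc
          exact mem_nz.2 ⟨pow_mem (hR b hb).1 2, fun e => (hR b hb).2 (sq b (hR b hb).1 e)⟩
        · obtain ⟨b, hb, rfl⟩ := mem_image.1 hc
          exact (hR b hb).2 (by simpa [pow_two] using (key a ha y b hb).2 2 hc')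
      · refine eq_of_mul_inv_eq_one (sq _ (mul_mem (hR b hb).1 (inv_mem (hR c hc).1)) ?_)
        rw [((hR b hb).1.2.2 c (hR c hc).1.1).inv_right.mul_pow, inv_pow, mul_inv_eq_one]
        exact e
    · have := card_nz (Zs P); omega

omit [Fintype G] in
/-- Glauberman's principal block count, for odd `p`. -/
theorem odd_false [Finite G] (hp2 : p ≠ 2) (he : 2 ≤ ee P) (hZ : normalClosure (Zs P : Set G) = ⊤)
    (hc : ∀ x y : G, orderOf x = p → orderOf y = p → IsPSolvable p (closure ({x, y} : Set G))) : False := by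
  classical
  have := Fintype.ofFinite G
  obtain ⟨M, hM⟩ := exists_pMod p
  obtain ⟨r, hr, hcase⟩ := h.exists_r hp2 he hc
  choose a ha hao hb using h.restr (M := M) hZ
  set B := principalBlock M G
  set S := nz (Zs P)
  let σ : IrrCharacter G → ℝ := fun χ => Nat.card (Zs P) * a χ - charDegree χ.1
  have hσ : ∀ χ : IrrCharacter G, ∑ z ∈ S, χ.1 z = σ χ := fun χ => by simp [ha, σ]
  have th : ∀ g, ∑ z ∈ S, col B z g = ∑ χ with χ ∈ B, χ.1 g * σ χ := fun g => by
    simp only [col_apply]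
    rw [sum_comm, sum_filter]
    refine sum_congr rfl fun χ _ => ?_
    split_ifs
    · simp only [χ.2.apply_inv]
      rw [← mul_sum, ← map_sum, hσ, Complex.conj_ofReal]
    · simp
  have cS : (S.card : ℝ) = Nat.card (Zs P) - 1 := by rw [← card_nz]; simp [S]
  refine gsz_num (univ.filter (· ∈ B)) (irrOne G) (mem_filter.2 ⟨mem_univ _, irrOne_mem_principalBlock⟩) a
    (fun χ => charDegree χ.1) _ (ee P) (Nat.card (P : Subgroup G)) r σ (fun _ => rfl) (fun χ => χ.2.charDegree_pos)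
    (hao _ rfl) (charDegree_eq_of_apply_one (by simp)) ?_ ?_ ?_ (fun χ hχ => hb χ (mem_filter.1 hχ).2) he
    (card_le_of_le Zs_le) hcase
  · have : ∑ z ∈ S, ∑ χ with χ ∈ B, χ.1 z * σ χ = ∑ z ∈ S, ((ee P * Nat.card (P : Subgroup G) : ℕ) : ℂ) :=
      sum_congr rfl fun z hz => by
        have hz := mem_nz.1 hz
        rw [← th, h.theta (isPPart_self ⟨1, by rw [Zs_order hz.1 hz.2, pow_one]⟩) hz.1 (IsConj.refl z),
          if_pos (by rw [Zs_order hz.1 hz.2])]
    rw [sum_comm, sum_const, nsmul_eq_mul] at this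
    simp only [← sum_mul, hσ, ← sq] at this
    rw [← cS]
    exact_mod_cast this
  · have := h.theta (M := M) (isPPart_self (p := p) (x := (1 : G)) ⟨0, by simp⟩) (one_mem _) (IsConj.refl 1)
    rw [th, if_neg (by simpa using hp.out.ne_one),
      sum_congr rfl fun (χ : IrrCharacter G) _ => by rw [χ.2.apply_one_eq_charDegree, mul_comm]] at this
    exact_mod_cast this
  · have e1 : ∑ x ∈ S, ∑ y : G, ∑ b ∈ S, ∑ χ with χ ∈ B, χ.1 (x * (y * b * y⁻¹)) * σ χ =
        Nat.card G * ∑ χ with χ ∈ B, (σ χ : ℂ) ^ 3 / charDegree χ.1 := by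
      rw [sum_congr rfl fun x _ => sum_comm, sum_congr rfl fun x _ => sum_congr rfl fun b _ => sum_comm,
        sum_congr rfl fun x _ => sum_comm, sum_comm, mul_sum]
      refine sum_congr rfl fun χ _ => ?_
      simp only [← sum_mul, χ.2.sum_mul_conj_eq, ← sum_div, ← mul_sum, hσ]
      rw [χ.2.apply_one_eq_charDegree]; ring
    have e2 : ∀ x ∈ S, ∀ y : G, ∑ b ∈ S, ∑ χ with χ ∈ B, χ.1 (x * (y * b * y⁻¹)) * σ χ =
        (((S.card - (S.filter fun b => ¬ p ∣ orderOf (x * (y * b * y⁻¹))).card) *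
          (ee P * Nat.card (P : Subgroup G)) : ℝ) : ℂ) := fun x hx y => by
      rw [← card_filter_add_card_filter_not (s := S) (fun b => p ∣ orderOf (x * (y * b * y⁻¹))),
        sum_congr (g := fun b => if p ∣ orderOf (x * (y * b * y⁻¹)) then ((ee P * Nat.card (P : Subgroup G) : ℕ) : ℂ)
          else 0) rfl fun b hb => ?_, ← sum_filter, sum_const, nsmul_eq_mul]
      · push_cast; ring
      have hx := mem_nz.1 hx
      have hb := mem_nz.1 hb
      have cb : IsConj b (y * b * y⁻¹) := isConj_iff.2 ⟨y, rfl⟩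
      obtain ⟨a', ha', b', hb', -, -, c3⟩ := h.pair hx.1 hb.1 (IsConj.refl x) cb
        (hc _ _ (Zs_order hx.1 hx.2) (IsConj.orderOf_eq' cb ▸ Zs_order hb.1 hb.2))
      obtain ⟨u, hu⟩ := exists_isPPart p (x * (y * b * y⁻¹))
      rw [← th, h.theta hu (mul_mem ha' hb') (by simpa using c3 1 u (by simpa using hu))]
    rw [sum_congr rfl fun x hx => sum_congr rfl fun y _ => e2 x hx y] at e1
    have e3 : ∑ x ∈ S, ∑ y : G, ((S.card - (S.filter fun b => ¬ p ∣ orderOf (x * (y * b * y⁻¹))).card) *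
          (ee P * Nat.card (P : Subgroup G)) : ℝ) = Nat.card G * ∑ χ with χ ∈ B, σ χ ^ 3 / charDegree χ.1 := by
      exact_mod_cast e1
    refine le_of_mul_le_mul_left ?_ (show (0 : ℝ) < Nat.card G by exact_mod_cast Nat.card_pos)
    rw [← e3, ← cS]
    refine le_trans (le_of_eq ?_) (sum_le_sum fun x hx => sum_le_sum fun y _ =>
      mul_le_mul_of_nonneg_right (sub_le_sub_left (Nat.cast_le.2 (hr x hx y)) _) (by positivity))
    simp; ring

end GH
end Cfsg.Agent.Loc
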