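import Cfsg.Agent.Loc.GSz3

/-! Reduction to a simple group in Glauberman's characterization of the Suzuki groups. -/
set_option autoImplicit false
namespace Cfsg.Agent.Loc
open Subgroup Cfsg Cfsg.Agent.Block Cfsg.Agent.Transfer
variable {G : Type*} [Group G] [Finite G] {p : ℕ} [hp : Fact p.Prime] {P : Sylow p G}

theorem normalClosure_subtype_top :
    normalClosure ((P.subtype (le_normalClosure (H := (P : Subgroup G))) :
      Subgroup (normalClosure ((P : Subgroup G) : Set G))) : Set (normalClosure ((P : Subgroup G) : Set G))) = ⊤ := by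
  rw [← map_subtype_inj, ← MonoidHom.range_eq_map, range_subtype]
  refine le_antisymm (map_subtype_le _) ((closure_le _).2 fun y hy => ?_)
  obtain ⟨x, hx, hc⟩ := Group.mem_conjugatesOfSet_iff.1 hy
  have hy' : y ∈ normalClosure ((P : Subgroup G) : Set G) := conjugatesOfSet_subset_normalClosure hy
  obtain ⟨g, hg⟩ := exists_conj_syl (Block.isPGroup_zpowers_of_orderOf (x := (⟨y, hy'⟩ : normalClosure _)) (by
    rw [← orderOf_coe]; exact IsConj.orderOf_eq' hc ▸ orderOf_eq_pow_of_mem P.isPGroup' hx))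
    (P.subtype (le_normalClosure (H := (P : Subgroup G))))
  refine ⟨⟨y, hy'⟩, ?_, rfl⟩
  simpa [mul_assoc] using normalClosure_normal.conj_mem _ (subset_normalClosure (hg _ (mem_zpowers _))) g⁻¹

theorem GH.red (h : GH P) (hcore : pPrimeCore p G = ⊥) (hnn : ¬ (P : Subgroup G).Normal) :
    ∃ (K : Subgroup G) (_ : K.Normal) (hK : (P : Subgroup G) ≤ K), IsSimpleGroup K ∧ ¬ IsPGroup p K ∧
      2 ≤ GH.ee (P.subtype hK) ∧ Zs (P.subtype hK) ≠ ⊥ ∧
      ∃ n ∈ normalizer ((P.subtype hK : Subgroup K) : Set K), ¬ p ∣ orderOf n ∧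
        ∀ x ∈ (P.subtype hK : Subgroup K), Commute n x → x = 1 := by
  set K := normalClosure ((P : Subgroup G) : Set G)
  have hK : (P : Subgroup G) ≤ K := le_normalClosure
  have hc : pPrimeCore p K = ⊥ := by
    rw [← map_subtype_inj, Solv.map_subtype_pPrimeCore, hcore, bot_inf_eq, Subgroup.map_bot]
  have hnp : ¬ IsPGroup p K := fun hq => hnn (by
    rw [← (P.is_maximal' hq hK)]; infer_instance)
  have hne : ∀ (L : Subgroup K) [L.Normal], L ≠ ⊥ → L ⊓ (P.subtype hK : Subgroup K) ≠ ⊥ := fun L _ hL e =>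
    hL (Solv.eq_bot_of_pPrimeCore_eq_bot hc ((inf_sylow_eq_bot_iff L _).1 e))
  have hnt : Nontrivial K := by
    by_contra hn
    rw [not_nontrivial_iff_subsingleton] at hn
    exact hnp (IsPGroup.of_card (n := 0) (by simp))
  obtain h1 | ⟨n, hn, ho, hf⟩ := (h.sub hK).nil_or
  · rw [hasNormalPComplement_iff_pPrimeCore_sup (P.subtype hK), hc, bot_sup_eq] at h1
    exact absurd ((h1 ▸ (P.subtype hK).isPGroup').of_equiv topEquiv) hnp
  obtain ⟨z, hz, -, hz1⟩ := exists_Zs_mem (P := P.subtype hK) ⊤ (hne ⊤ top_ne_bot)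
  refine ⟨K, inferInstance, hK, ⟨fun L hL => or_iff_not_imp_left.2 fun hb =>
    (h.sub hK).le_of_normal normalClosure_subtype_top hn ho hf L (hne L hb)⟩, hnp, ?_,
    fun e => hz1 (mem_bot.1 (e ▸ hz)), n, hn, ho, hf⟩
  have h0 : GH.ee (P.subtype hK) ≠ 0 := index_ne_zero_of_finite
  have h1 : GH.ee (P.subtype hK) ≠ 1 := fun e =>
    hz1 (hf z hz.1 (mem_centralizer_iff.1 (relIndex_eq_one.1 e hn) z hz).symm)
  omega

theorem pairs_sub (K : Subgroup G)
    (hc : ∀ x y : G, orderOf x = p → orderOf y = p → IsPSolvable p (closure ({x, y} : Set G))) (x y : K)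
    (hx : orderOf x = p) (hy : orderOf y = p) : IsPSolvable p (closure ({x, y} : Set K)) := by
  refine (PLocal.pSolv_congr ((closure ({x, y} : Set K)).equivMapOfInjective K.subtype K.subtype_injective)).2 ?_
  rw [MonoidHom.map_closure, Set.image_pair]
  exact hc _ _ ((orderOf_coe x).trans hx) ((orderOf_coe y).trans hy)

theorem GH.normal_of_odd (h : GH P) (hp2 : p ≠ 2) (hcore : pPrimeCore p G = ⊥)
    (hc : ∀ x y : G, orderOf x = p → orderOf y = p → IsPSolvable p (closure ({x, y} : Set G))) :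
    (P : Subgroup G).Normal := by
  by_contra hnn
  obtain ⟨K, _, hK, hs, -, he, hz, -⟩ := h.red hcore hnn
  refine (h.sub hK).odd_false hp2 he ((hs.eq_bot_or_eq_top_of_normal _ inferInstance).resolve_left fun e => hz ?_)
    (pairs_sub K hc)
  exact le_bot_iff.1 (e ▸ le_normalClosure)

end Cfsg.Agent.Loc
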