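import Cfsg.Agent.Loc.JC1

/-! `J(T)`-components, part 2: the components attached to the transvections on a 2-reduced module. -/

set_option linter.unusedSectionVars false

namespace Cfsg.Agent.Loc
open Subgroup Cfsg
open Cfsg.Agent.Sig (SubnIn ppIn)
open Cfsg.Agent.PLocal (mu cent eaMax)
open Cfsg.Agent.Transfer (Hol)
open scoped commutatorElement

variable {G : Type*} [Group G] [Finite G] {K K' T A B D H L U V W X Y : Subgroup G} {g t t' x y z : G}

namespace FFS
variable (h : FFS 2 V H) (hB : B ≤ H) (hm : MinOff 2 V B)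
include h hB hm

theorem Eo_inf : Eo 2 H B ⊓ ppIn 2 H = ⁅ppIn 2 H, B⁆ := by
  rw [sup_inf_of_le_left (normalizer_commutator_ge_right _ _) (FFS.QF hB), h.infF hB hm, sup_bot_eq]

theorem cardQ : Nat.card (⁅ppIn 2 H, B⁆ : Subgroup G) = 3 := (h.main hB hm).cQ

theorem idxQ : (⁅ppIn 2 H, B⁆).relIndex (Eo 2 H B) = 2 := by
  have h1 := Solv.card_mul_relIndex (h.main hB hm).le
  rw [(h.main hB hm).cE, h.cardQ hB hm] at h1
  omega

theorem commQB : ⁅⁅ppIn 2 H, B⁆, B⁆ = ⁅ppIn 2 H, B⁆ :=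
  Solv.commutator_commutator_eq (FFS.nF hB) (by rw [h.card_minOff hB hm]; exact Sig.coprime_ppIn.symm)

theorem nQ_of (h1 : X ≤ H) (h2 : X ≤ normalizer ((Eo 2 H B : Subgroup G) : Set G)) :
    X ≤ normalizer ((⁅ppIn 2 H, B⁆ : Subgroup G) : Set G) := by
  rw [← h.Eo_inf hB hm]; exact le_normalizer_inf h2 (FFS.nF h1)

theorem sylB : SylIn 2 B (Eo 2 H B) := sylIn_of_not_dvd_relIndex le_sup_right (h.pg_minOff hB hm) (by
  have h1 : Nat.card B * B.relIndex (Eo 2 H B) = Nat.card (Eo 2 H B) := Solv.card_mul_relIndex le_sup_right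
  rw [(h.main hB hm).cE, h.card_minOff hB hm] at h1
  omega)

end FFS

theorem bar_zpowers (hx : x ∈ normalizer (V : Set G)) : bar V (zpowers x) = zpowers (act V ⟨x, hx⟩) := by
  rw [← MonoidHom.map_zpowers, bar]
  congr 1
  exact map_injective (normalizer (V : Set G)).subtype_injective (by
    rw [map_subgroupOf_eq_of_le (zpowers_le.2 hx), MonoidHom.map_zpowers]; rfl)

theorem exists_bar_zpowers {B : Subgroup (Hol V)} (hB : B ≤ bar V A) (hc : Nat.card B = 2) :
    ∃ t ∈ A, bar V (zpowers t) = B := by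
  obtain ⟨b, hb, h1⟩ := (B.bot_or_exists_ne_one).resolve_left (ne_bot_of_card hc)
  obtain ⟨x, hx, rfl⟩ := hB hb
  exact ⟨x, hx, (bar_zpowers x.2).trans (eq_zpowers_of_card hc hb h1).symm⟩

structure LS (V L : Subgroup G) : Prop extends UF 2 V L where
  VL : V ≤ L
  hC : ∀ D ≤ L, IsPGroup 2 D → ⁅L ⊓ centralizer (V : Set G), D⁆ ≤ pCoreOf 2 L
  hQ : ∀ D ≤ L, D ≤ centralizer (V : Set G) → IsPGroup 2 D → D ≤ pCoreOf 2 L

theorem ls_of (hT : SylIn 2 T L) (ch : ChP 2 L) (sol : IsPSolvable 2 L)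
    (hz : L ⊓ centralizer (OZ T : Set G) ≤ normalizer (T : Set G)) : LS (sylowCenterClosure 2 L) L := by
  have e : sylowCenterClosure 2 L = ⨆ g : L, cj (g : G) (OZ T) := le_antisymm
    (hT.sylowCenterClosure_le (le_iSup_cj _ _) (le_normalizer_iSup_cj _ _))
    (iSup_cj_le hT.le_sylowCenterClosure (le_normalizer_sylowCenterClosure _ _))
  have r : PRed 2 L (sylowCenterClosure 2 L) := e ▸ ch.pRed_iSup_cj hT le_rfl hT.le (pRed_omegaOne_center _ _)
  set V := sylowCenterClosure 2 L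
  have nC : L ≤ normalizer ((L ⊓ centralizer (V : Set G) : Subgroup G) : Set G) :=
    le_normalizer_inf le_normalizer (le_normalizer_centralizer r.norm)
  have h1 : ∀ S, SylIn 2 S L → L ⊓ centralizer (V : Set G) ≤ normalizer (S : Set G) := fun S hS => by
    obtain ⟨g, hg, rfl⟩ := hT.exists_conj hS
    rw [← cj_eq_of_mem_normalizer (nC hg), ← cj_normalizer]
    exact cj_mono g ((inf_le_inf_left _ (centralizer_anti hT.le_sylowCenterClosure)).trans hz)
  have h2 : ∀ D ≤ L, D ≤ centralizer (V : Set G) → IsPGroup 2 D → D ≤ pCoreOf 2 L := fun D hD hc hp =>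
    (le_inf (hT.le_of_normalizes hD hp ((le_inf hD hc).trans (h1 T hT))) (le_inf hD hc)).trans ((le_pCoreOf inf_le_right
      (le_normalizer_inf (h1 T hT) le_normalizer) (hT.pg.to_le inf_le_left)).trans (pCoreOf_le_of_normal inf_le_left nC))
  refine ⟨⟨r.ea, r.norm, r.red, sol⟩, r.le, fun D hD hp => ?_, h2⟩
  obtain ⟨S, hS, hle⟩ := exists_sylIn_ge hD hp
  have h3 := (commutator_mono le_rfl hle).trans (commutator_le_inf_of_normalizes (h1 S hS) (hS.le.trans nC))
  exact h2 _ (h3.trans (inf_le_left.trans inf_le_left)) (h3.trans (inf_le_left.trans inf_le_right))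
    (hS.pg.to_le (h3.trans inf_le_right))

structure Cp (V L K : Subgroup G) (t : G) : Prop where
  tL : t ∈ L
  t2 : t * t = 1
  min : MinOff 2 (til V V) (bar V (zpowers t))
  le : K ≤ L
  c3 : C3 K
  comm : ⁅K, zpowers t⁆ = K
  nQ : pCoreOf 2 L ≤ normalizer (K : Set G)
  eq : bar V K = ⁅ppIn 2 (bar V L), bar V (zpowers t)⁆

theorem Cp.tl (k : Cp V L K t) : zpowers t ≤ L := zpowers_le.2 k.tL
theorem Cp.bl (k : Cp V L K t) : bar V (zpowers t) ≤ bar V L := bar_mono k.tl
theorem Cp.pg (k : Cp V L K t) : IsPGroup 2 (zpowers t) :=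
  isPGroup_zpowers_of_pow (k := 1) (by rw [pow_one, pow_two, k.t2])
theorem Cp.tn (k : Cp V L K t) : zpowers t ≤ normalizer (K : Set G) := le_normalizer_of_commutator_le' k.comm.le

namespace LS
variable (h : LS V L)
include h

theorem QC : pCoreOf 2 L ≤ centralizer (V : Set G) := h.red.pCoreOf_le_centralizer

theorem VQ : V ≤ pCoreOf 2 L := le_pCoreOf h.VL h.norm (isPGroup_of_isElementaryAbelian h.ea)

theorem nC : L ≤ normalizer ((L ⊓ centralizer (V : Set G) : Subgroup G) : Set G) :=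
  le_normalizer_inf le_normalizer (le_normalizer_centralizer h.norm)

theorem V_le_J (hT : SylIn 2 T L) : V ≤ J2 T := by
  obtain ⟨A, hA⟩ := PLocal.eaMax_nonempty 2 T
  exact le_sup_right.trans (PLocal.le_J (h.mem_eaMax hA (hA.1.trans hT.le) (h.VQ.trans hT.pCoreOf_le)))

theorem best (hA : A ∈ eaMax 2 L) : IsBestOffenderOn 2 (til V V) (bar V A) :=
  best_bar (hA.1.trans h.norm) (PLocal.bestOffender_of_mem_eaMax hA h.VL h.ea)

theorem mem_Q_of_inv (hz : z ∈ L) (hc : z ∈ centralizer (V : Set G)) (ht : t ∈ L) (hp : IsPGroup 2 (zpowers t))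
    (hi : t * z * t⁻¹ = z⁻¹) : z ∈ pCoreOf 2 L := by
  have h1 := h.hC _ (zpowers_le.2 ht) hp (commutator_mem_commutator ⟨hz, hc⟩ (mem_zpowers t))
  rw [commutatorElement_def, mul_assoc, mul_assoc, ← mul_assoc t, ← conj_inv, hi, inv_inv, ← pow_two] at h1
  obtain ⟨k, hk⟩ := exists_pow_of_isPGroup (isPGroup_pCoreOf _ _) h1
  exact h.hQ _ (zpowers_le.2 hz) (zpowers_le.2 hc) (isPGroup_zpowers_of_pow (k := k + 1) (by
    rw [pow_succ', pow_mul, hk])) (mem_zpowers z)

theorem le_of_bar_le (hX : X ≤ L) (hY : Y ≤ L) (hle : bar V X ≤ bar V Y) : X ≤ Y ⊔ (L ⊓ centralizer (V : Set G)) := by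
  have h1 := le_inf ((bar_le_bar_iff (hX.trans h.norm) (hY.trans h.norm)).1 hle) hX
  rwa [sup_comm, sup_inf_of_le_right (le_normalizer_centralizer (hY.trans h.norm)) hY, sup_comm, inf_comm] at h1

theorem conj (k : Cp V L K t) (hg : g ∈ L) : Cp V L (cj g K) (g * t * g⁻¹) := by
  have e1 : bar V (zpowers (g * t * g⁻¹)) = cj (act V ⟨g, h.norm hg⟩) (bar V (zpowers t)) := by
    rw [← cj_zpowers]; exact bar_cj ⟨g, h.norm hg⟩ _
  have hg' := act_mem_bar hg (h.norm hg)
  refine ⟨mul_mem (mul_mem hg k.tL) (inv_mem hg), by rw [conj_mul, k.t2]; simp, ?_, cj_le_of_mem hg k.le, k.c3.conj g,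
    by rw [← cj_zpowers, ← cj_commutator, k.comm], ?_, ?_⟩
  · rw [e1]; exact k.min.conj (bar_le_normalizer_top L hg')
  · rw [← cj_eq_of_mem_normalizer (le_normalizer_pCoreOf _ _ hg), ← cj_normalizer]; exact cj_mono g k.nQ
  · rw [e1, ← cj_eq_of_mem_normalizer (FFS.nF le_rfl hg'), ← cj_commutator, ← k.eq]
    exact bar_cj ⟨g, h.norm hg⟩ _

section cp
variable (k : Cp V L K t)
include k

theorem Eo_eq : Eo 2 (bar V L) (bar V (zpowers t)) = bar V K ⊔ bar V (zpowers t) := by rw [k.eq]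

theorem card_bar : Nat.card (bar V K) = 3 := k.eq ▸ h.ffs.cardQ k.bl k.min

theorem Q_le : pCoreOf 2 K ≤ pCoreOf 2 L := by
  have h1 := (pCoreOf_le 2 K).trans k.le
  refine h.hQ _ h1 ((bar_eq_bot_iff (h1.trans h.norm)).1 (eq_bot_of_isPGroup_of_coprime
    (isPGroup_bar (isPGroup_pCoreOf _ _)) (Nat.Coprime.coprime_dvd_left (card_dvd_of_le (bar_mono (pCoreOf_le _ _))) ?_)))
    (isPGroup_pCoreOf _ _)
  rw [h.card_bar k]; norm_num

theorem til_W : til V ⁅V, K⁆ = ⁅til V V, Eo 2 (bar V L) (bar V (zpowers t))⁆ := by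
  rw [til_comm le_rfl (k.le.trans h.norm), k.eq, (h.ffs.main k.bl k.min).commQ]

theorem W_le : ⁅V, K⁆ ≤ V := commutator_le_left_of_le_normalizer (k.le.trans h.norm)

theorem card_W : Nat.card (⁅V, K⁆ : Subgroup G) = 4 := by
  rw [← card_til (h.W_le k), h.til_W k, (h.ffs.main k.bl k.min).cW]; rfl

theorem W_le_wOf : ⁅V, K⁆ ≤ wOf K := by
  have h1 : ⁅V, K⁆ ≤ K := commutator_le_right_of_le_normalizer (h.VQ.trans k.nQ)
  rw [← k.c3.comm_comm (isPGroup_of_isElementaryAbelian h.ea) (k.le.trans h.norm)]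
  exact commutator_mono (le_OZ (k.c3.le_Q h1 ((isPGroup_of_isElementaryAbelian h.ea).to_le (h.W_le k)))
    ((h.W_le k).trans (le_centralizer_iff.1 ((h.Q_le k).trans h.QC)))
    fun x hx => (isElementaryAbelian_iff.1 h.ea).2 x (h.W_le k hx)) le_rfl

theorem comm_C : ⁅L ⊓ centralizer (V : Set G), K⁆ ≤ pCoreOf 2 L := by
  have h1 : zpowers t ≤ commKer (pCoreOf 2 L) (L ⊓ centralizer (V : Set G)) := le_commKer_iff.2
    ⟨k.tl.trans (le_normalizer_pCoreOf _ _), (Subgroup.commutator_comm _ _).le.trans (h.hC _ k.tl k.pg)⟩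
  rw [Subgroup.commutator_comm]
  exact (le_commKer_iff.1 (k.comm.ge.trans ((commutator_mono le_rfl h1).trans (commutator_le_right_of_le_normalizer
    (k.le.trans (le_normalizer_commKer (le_normalizer_pCoreOf _ _) h.nC)))))).2

theorem comm_le (hX : X ≤ K ⊔ (L ⊓ centralizer (V : Set G))) (hD : D ≤ L) (hp : IsPGroup 2 D)
    (hn : D ≤ normalizer (K : Set G)) : ⁅X, D⁆ ≤ K ⊔ pCoreOf 2 L := by
  refine (commutator_mono hX le_rfl).trans (commutator_sup_left_le (le_normalizer_of_le le_sup_left) ?_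
    ((commutator_le_left_of_le_normalizer hn).trans le_sup_left) ((h.hC D hD hp).trans le_sup_right))
  refine le_normalizer_of_cj_le fun c hc => ?_
  rw [cj_sup, cj_eq_of_mem_normalizer (le_normalizer_pCoreOf _ _ hc.1)]
  exact sup_le ((cj_le_comm_sup hc).trans (sup_le ((h.comm_C k).trans le_sup_right) le_sup_left)) le_sup_right

theorem le_of_comm (c : C3 X) (hX : bar V X ≤ bar V K) (hXL : X ≤ L) (hD : D ≤ L) (hp : IsPGroup 2 D)
    (hn : D ≤ normalizer (K : Set G)) (hc : X ≤ ⁅X, D⁆) : X ≤ K :=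
  c.le_of_le_sup (isPGroup_pCoreOf _ _) k.nQ (hc.trans (h.comm_le k (h.le_of_bar_le hXL k.le hX) hD hp hn))

theorem mem_normalizer (hy : y ∈ L)
    (hn : act V ⟨y, h.norm hy⟩ ∈ normalizer ((Eo 2 (bar V L) (bar V (zpowers t)) : Subgroup _) : Set (Hol V))) :
    y ∈ normalizer (K : Set G) := by
  have s := h.ffs.sylB k.bl k.min
  obtain ⟨x, hx, e⟩ := s.exists_conj (s.conj_of_mem_normalizer hn)
  have hx' := hx
  rw [h.Eo_eq k, mem_sup_of_le_normalizer_left (bar_le_normalizer k.tn)] at hx'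
  obtain ⟨_, ⟨a, ha, rfl⟩, b, hb, rfl⟩ := hx'
  rw [← cj_cj, cj_eq_of_mem hb] at e
  have haK : (a : G) ∈ K := ha
  suffices hc : (a : G)⁻¹ * y ∈ normalizer (K : Set G) by
    simpa using mul_mem (le_normalizer haK) hc
  set c := (a : G)⁻¹ * y with hc
  have hcL : c ∈ L := mul_mem (inv_mem (k.le haK)) hy
  have e1 : act V ⟨c, h.norm hcL⟩ = (act V a)⁻¹ * act V ⟨y, h.norm hy⟩ := by rw [← map_inv, ← map_mul]; rfl
  have k' := h.conj k hcL
  have e2 : bar V (zpowers (c * t * c⁻¹)) = bar V (zpowers t) := by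
    rw [← cj_zpowers, show bar V (cj c (zpowers t)) = _ from bar_cj ⟨c, h.norm hcL⟩ _, e1, ← cj_cj, ← e, cj_inv_cj]
  refine mem_normalizer_of_cj_le (h.le_of_comm k k'.c3 (by rw [k'.eq, e2, k.eq]) k'.le k'.tl k'.pg ?_ k'.comm.ge)
  obtain ⟨s, hs, z, hz, e3⟩ := (mem_sup_of_le_normalizer_right (k.tl.trans h.nC)).1
    (h.le_of_bar_le k'.tl k.tl e2.le (mem_zpowers _))
  rw [zpowers_le, ← e3]
  refine mul_mem (k.tn hs) (k.nQ ?_)
  have e4 := k'.t2
  rw [← e3] at e4
  rcases (Invol.mem_zpowers_invol k.t2).1 hs with rfl | rfl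
  · exact h.hQ _ (zpowers_le.2 hz.1) (zpowers_le.2 hz.2) (isPGroup_zpowers_of_pow (k := 1) (by
      simpa [pow_two] using e4)) (mem_zpowers z)
  · refine h.mem_Q_of_inv hz.1 hz.2 k.tL k.pg (eq_inv_of_mul_eq_one_left ?_)
    rw [inv_eq_of_mul_eq_one_right k.t2, mul_assoc, e4]

theorem le_normalizer (hX : X ≤ L)
    (hn : bar V X ≤ normalizer ((Eo 2 (bar V L) (bar V (zpowers t)) : Subgroup _) : Set (Hol V))) :
    X ≤ normalizer (K : Set G) := fun _ hx => h.mem_normalizer k (hX hx) (hn (act_mem_bar hx _))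

theorem J_le_normalizer : J2 L ≤ normalizer (K : Set G) := PLocal.J_le_iff.2 fun _ hA =>
  h.le_normalizer k hA.1 (h.ffs.best_le_norm k.bl k.min (bar_mono hA.1) (h.best hA))

theorem subnIn : SubnIn K L := by
  have h1 : bar V (pre V (ppIn 2 (bar V L)) ⊓ L) = _ := bar_pre_inf h.norm Sig.ppIn_le
  refine SubnIn.step (L := pre V (ppIn 2 (bar V L)) ⊓ L) (le_inf ((le_pre_iff (k.le.trans h.norm)).2
    (k.eq.le.trans (FFS.QF k.bl))) k.le) (h.le_normalizer k inf_le_right ?_) (SubnIn.of_normal inf_le_right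
      (le_normalizer_inf (le_normalizer_pre h.norm (FFS.nF le_rfl)) Subgroup.le_normalizer))
  rw [h1, Eo, sup_comm]; exact le_normalizer_sup_commutator _ _

theorem eq_of_Eo (k' : Cp V L K' t')
    (e : Eo 2 (bar V L) (bar V (zpowers t)) = Eo 2 (bar V L) (bar V (zpowers t'))) : K = K' := by
  have e1 : bar V K = bar V K' := by rw [k.eq, k'.eq, ← h.ffs.Eo_inf k.bl k.min, e, h.ffs.Eo_inf k'.bl k'.min]
  exact le_antisymm (h.le_of_comm k' k.c3 e1.le k.le k.tl k.pg (h.le_normalizer k' k.tl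
    (le_normalizer_of_le (e ▸ le_sup_right))) k.comm.ge) (h.le_of_comm k k'.c3 e1.ge k'.le k'.tl k'.pg
      (h.le_normalizer k k'.tl (le_normalizer_of_le (e ▸ le_sup_right))) k'.comm.ge)

theorem dich (k' : Cp V L K' t') : K = K' ∨ ⁅V, K⁆ ≤ centralizer ((K' ⊔ zpowers t' : Subgroup G) : Set G) := by
  refine (h.ffs.dich k.bl k.min k'.bl k'.min).imp (h.eq_of_Eo k k') fun e => ?_
  have h1 := (sup_le k'.le k'.tl).trans h.norm
  rw [← til_le_cent_iff (h.W_le k) h1, h.til_W k, bar_sup (k'.le.trans h.norm) (k'.tl.trans h.norm), ← h.Eo_eq k']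
  exact e.1

theorem infW : ⁅V, K⁆ ⊓ centralizer (K : Set G) = ⊥ :=
  le_bot_iff.1 ((inf_le_inf_right _ (h.W_le_wOf k)).trans k.c3.infW.le)

theorem eq_of_inf (k' : Cp V L K' t') (e : ⁅V, K⁆ ⊓ ⁅V, K'⁆ ≠ ⊥) : K = K' :=
  (h.dich k k').resolve_right fun h1 => e (le_bot_iff.1 ((le_inf inf_le_right (inf_le_left.trans
    (h1.trans (centralizer_anti le_sup_left)))).trans (h.infW k').le))

theorem t_le (k' : Cp V L K t') : bar V (zpowers t) ≤ bar V (K ⊔ zpowers t') := by
  rw [bar_sup (k'.le.trans h.norm) (k'.tl.trans h.norm), ← h.Eo_eq k']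
  refine le_sup_right.trans ((h.ffs.dich k.bl k.min k'.bl k'.min).resolve_right fun e => ?_).le
  have a := h.ffs.main k'.bl k'.min
  have h1 := e.1
  rw [← h.til_W k, h.til_W k'] at h1
  exact a.W_ne_bot ((inf_eq_left.2 h1).symm.trans a.infE)

end cp

theorem exists_cp (ht : t ∈ L) (t2 : t * t = 1) (hm : MinOff 2 (til V V) (bar V (zpowers t))) : ∃ K, Cp V L K t := by
  have tl := zpowers_le.2 ht
  have bl : bar V (zpowers t) ≤ bar V L := bar_mono tl
  have pg : IsPGroup 2 (zpowers t) := isPGroup_zpowers_of_pow (k := 1) (by rw [pow_one, pow_two, t2])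
  set R := ⁅ppIn 2 (bar V L), bar V (zpowers t)⁆ with hR
  have cR : Nat.card R = 3 := h.ffs.cardQ bl hm
  have RL : R ≤ bar V L := (FFS.QF bl).trans Sig.ppIn_le
  haveI := Fact.mk Nat.prime_three
  obtain ⟨e, he, hne⟩ : ∃ e ∈ pre V R ⊓ L, ⁅e, t⁆ ∉ centralizer (V : Set G) := by
    by_contra hcon
    push Not at hcon
    have h1 := (bar_eq_bot_iff (((commutator_mono inf_le_right tl).trans (commutator_le_left_of_le_normalizer
      Subgroup.le_normalizer)).trans h.norm)).2 (commutator_zpowers_right_le (le_normalizer_centralizer h.norm ht) hcon)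
    rw [bar_commutator (inf_le_right.trans h.norm) (tl.trans h.norm), bar_pre_inf h.norm RL, h.ffs.commQB bl hm] at h1
    exact ne_bot_of_card cR h1
  set x := ⁅e, t⁆ with hx
  have xL : x ∈ L := commutator_le_left_of_le_normalizer Subgroup.le_normalizer (commutator_mem_commutator he.2 ht)
  have xl := zpowers_le.2 xL
  have xi : t * x * t⁻¹ = x⁻¹ := by
    rw [hx, commutatorElement_inv, commutatorElement_def, commutatorElement_def, inv_eq_of_mul_eq_one_right t2]
    calc _ = t * e * t * e⁻¹ * (t * t) := by group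
      _ = _ := by rw [t2, mul_one]
  have bx : bar V (zpowers x) = R := by
    refine (eq_bot_or_eq_of_card cR ?_).resolve_left fun e => hne ((bar_eq_bot_iff (xl.trans h.norm)).1 e (mem_zpowers x))
    refine (bar_mono (zpowers_le.2 (commutator_mem_commutator he (mem_zpowers t)))).trans ?_
    rw [bar_commutator (inf_le_right.trans h.norm) (tl.trans h.norm), bar_pre_inf h.norm RL, h.ffs.commQB bl hm]
  set Q := pCoreOf 2 L with hQ
  have nQ : L ≤ normalizer (Q : Set G) := le_normalizer_pCoreOf _ _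
  have i1 : Q.relIndex (zpowers x ⊔ Q) = 3 := by
    rw [Solv.relIndex_sup_of_le_normalizer (xl.trans nQ), ← cR, ← bx, Loc.card_bar (xl.trans h.norm),
      ← inf_relIndex_right Q, ← inf_relIndex_right (centralizer (V : Set G))]
    congr 1
    refine le_antisymm (inf_le_inf_right _ h.QC) (le_inf (fun z hz => ?_) inf_le_right)
    obtain ⟨hc, n, rfl⟩ := hz
    exact h.mem_Q_of_inv (zpow_mem xL n) hc ht pg (by simp only [← conj_zpow, xi, inv_zpow])
  set P := zpowers x ⊔ Q with hP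
  have PL : P ≤ L := sup_le xl (pCoreOf_le _ _)
  have sQ : SylIn 2 Q P := sylIn_of_not_dvd_relIndex le_sup_right (isPGroup_pCoreOf _ _) (by rw [i1]; norm_num)
  have eP := sQ.pResidualOf_sup
  set K := pResidualOf 2 P with hK
  have KP : K ≤ P := pResidualOf_le _ _
  have nK : P ≤ normalizer (K : Set G) := le_normalizer_pResidualOf _ _
  have bK : bar V K = R := by
    have e1 := congrArg (bar V) eP
    have e2 : bar V Q = ⊥ := (bar_eq_bot_iff ((pCoreOf_le _ _).trans h.norm)).2 h.QC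
    rwa [bar_sup ((KP.trans PL).trans h.norm) ((pCoreOf_le _ _).trans h.norm), hP, bar_sup (xl.trans h.norm)
      ((pCoreOf_le _ _).trans h.norm), e2, sup_bot_eq, sup_bot_eq, bx] at e1
  have eQ : pCoreOf 2 K = Q ⊓ K := by
    rw [pCoreOf_eq_inf_of_normal KP nK, ← sQ.eq_pCoreOf_of_normal (PL.trans nQ)]
  have c : C3 K := ⟨pResidualOf_pResidualOf _ _, by
    rw [eQ, inf_relIndex_right, ← Solv.relIndex_sup_of_le_normalizer ((KP.trans PL).trans nQ), eP, i1]⟩
  have tK : zpowers t ≤ normalizer (K : Set G) := (le_normalizer_sup (zpowers_le.2 (mem_normalizer_iff_cj.2 (by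
    rw [cj_zpowers, xi, zpowers_inv]))) (tl.trans nQ)).trans (normalizer_le_normalizer_pResidualOf _ _)
  refine ⟨K, ht, t2, hm, KP.trans PL, c, c.eq_of_normal (commutator_le_left_of_le_normalizer tK)
    (normalizer_commutator_ge_left _ _) fun e => ?_, le_sup_right.trans nK, bK⟩
  have h1 := (bar_eq_bot_iff ((commutator_le_left_of_le_normalizer tK).trans ((KP.trans PL).trans h.norm))).2
    (e.trans (eQ.le.trans (inf_le_left.trans h.QC)))
  rw [bar_commutator ((KP.trans PL).trans h.norm) (tl.trans h.norm), bK, h.ffs.commQB bl hm] at h1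
  exact ne_bot_of_card cR h1

theorem exists_t (hA : A ∈ eaMax 2 L) {B : Subgroup (Hol V)} (hB : B ≤ bar V A) (hm : MinOff 2 (til V V) B) :
    ∃ t ∈ A, t * t = 1 ∧ bar V (zpowers t) = B := by
  obtain ⟨t, ht, e⟩ := exists_bar_zpowers hB (h.ffs.card_minOff (hB.trans (bar_mono hA.1)) hm)
  exact ⟨t, ht, by rw [← pow_two]; exact (isElementaryAbelian_iff.1 hA.2.1).2 t ht, e⟩

theorem cp_of (hT : SylIn 2 T L) (hK : K ≤ L) (c : C3 K) (hc : ⁅K, J2 T⁆ = K) (nQ : pCoreOf 2 L ≤ normalizer (K : Set G)) :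
    ∃ A ∈ eaMax 2 T, ∃ t ∈ A, Cp V L K t := by
  have JL := (PLocal.J_le 2 T).trans hT.le
  have nK : J2 T ≤ normalizer (K : Set G) := le_normalizer_of_commutator_le' hc.le
  have h1 : ∀ {B : Subgroup (Hol V)}, B ≤ bar V L → MinOff 2 (til V V) B →
      bar V K ≤ normalizer ((Eo 2 (bar V L) B : Subgroup _) : Set (Hol V)) := fun hB hm => by
    rw [← le_pre_iff (hK.trans h.norm)]
    refine hc.ge.trans (((commutator_mono hK (PLocal.J_sylIn_le hT)).trans (commutator_le_right_of_le_normalizer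
      (Subgroup.le_normalizer.trans (PLocal.normalizer_le_normalizer_J _ _)))).trans (PLocal.J_le_iff.2 fun A hA => ?_))
    exact (le_pre_iff (hA.1.trans h.norm)).2 (h.ffs.best_le_norm hB hm (bar_mono hA.1) (h.best hA))
  by_contra hcon
  push Not at hcon
  have h2 : J2 T ≤ pre V (centralizer (bar V K : Set (Hol V))) := PLocal.J_le_iff.2 fun A hA => by
    have hA' := PLocal.eaMax_sylIn_subset hT hA
    refine (le_pre_iff (hA'.1.trans h.norm)).2 (h.ffs.le_of_minOff (bar_mono hA'.1) (h.best hA') fun B hB hm => ?_)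
    obtain ⟨t, ht, t2, rfl⟩ := h.exists_t hA' hB hm
    have tl := zpowers_le.2 (hA'.1 ht)
    have bl : bar V (zpowers t) ≤ bar V L := bar_mono tl
    have tK : zpowers t ≤ normalizer (K : Set G) := (zpowers_le.2 (PLocal.le_J hA ht)).trans nK
    have h3 : ⁅bar V K, bar V (zpowers t)⁆ ≤ ⁅ppIn 2 (bar V L), bar V (zpowers t)⁆ := by
      rw [Subgroup.commutator_comm]
      exact (commutator_mono le_sup_right le_rfl).trans (comm_le_of_idx2 (h.ffs.idxQ bl hm)
        (h.ffs.nQ_of bl hm (bar_mono hK) (h1 bl hm)) (h1 bl hm))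
    haveI := Fact.mk Nat.prime_three
    rw [← commutator_eq_bot_iff']
    refine (eq_bot_or_eq_of_card (h.ffs.cardQ bl hm) h3).resolve_right fun e => hcon A hA t ht ?_
    rw [← bar_commutator (hK.trans h.norm) (tl.trans h.norm)] at e
    have h4 : ⁅K, zpowers t⁆ = K := c.eq_of_normal (commutator_le_left_of_le_normalizer tK)
      (normalizer_commutator_ge_left _ _) fun e' => by
        have h5 := isPGroup_bar (V := V) ((isPGroup_pCoreOf 2 K).to_le e')
        rw [e] at h5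
        exact ne_bot_of_card (h.ffs.cardQ bl hm) (eq_bot_of_isPGroup_of_coprime h5 (by
          rw [h.ffs.cardQ bl hm]; norm_num))
    exact ⟨hA'.1 ht, t2, hm, hK, c, h4, nQ, by rw [← e, h4]⟩
  have h3 : K ≤ centralizer (V : Set G) := by
    rw [← bar_eq_bot_iff (hK.trans h.norm), ← hc, bar_commutator (hK.trans h.norm) (JL.trans h.norm),
      commutator_eq_bot_iff']
    exact (le_pre_iff (JL.trans h.norm)).1 h2
  exact c.not_pg ((isPGroup_pCoreOf 2 L).to_le (hc.ge.trans ((commutator_mono (le_inf hK h3) le_rfl).trans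
    (h.hC _ JL (hT.pg.to_le (PLocal.J_le 2 T))))))

end LS

end Cfsg.Agent.Loc
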