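import Cfsg.Agent.Loc.JC2

/-! `J(T)`-components, part 3 (Kurzweil–Stellmacher 12.2). -/

set_option linter.unusedSectionVars false

namespace Cfsg.Agent.Loc
open Subgroup Cfsg
open Cfsg.Agent.Sig (SubnIn ppIn)
open Cfsg.Agent.PLocal (mu cent eaMax)
open Cfsg.Agent.Transfer (Hol)
open scoped commutatorElement

variable {G : Type*} [Group G] [Finite G] {J K K' T A B D H L M Q S U V W X Y : Subgroup G} {g t t' x y z : G}

theorem isSylowTwoIn_iff : IsSylowTwoIn T L ↔ SylIn 2 T L :=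
  ⟨fun h => sylIn_of_not_dvd_relIndex h.1 h.2.1 h.2.2.not_two_dvd_nat,
    fun h => ⟨h.le, h.pg, Nat.odd_iff.2 (Nat.two_dvd_ne_zero.1 h.not_dvd_relIndex)⟩⟩

structure JC (J K : Subgroup G) : Prop extends C3 K where
  comm : ⁅K, J⁆ = K
  syl2 : ∀ S, SylIn 2 S (K ⊔ J) → J ≤ S → J2 S = J
  cW : Nat.card (wOf K) = 4

theorem isJComponent_iff : IsJComponent T K ↔ JC (J2 T) K := by
  have e : closure {g : G | g ∈ K ∧ Odd (orderOf g)} = pResidualOf 2 K := by
    simp only [pResidualOf_eq_closure, Nat.coprime_two_right]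
  rw [IsJComponent, e]
  simp only [isSylowTwoIn_iff]
  exact ⟨fun h => ⟨⟨h.1, h.2.2.1⟩, h.2.1, h.2.2.2.1, h.2.2.2.2.1⟩, fun h => ⟨h.res, h.comm, h.idx, h.syl2, h.cW,
    fun w hw => by rw [← pow_two]; exact (isElementaryAbelian_iff.1 (ea_wOf K)).2 w hw⟩⟩

theorem C3.irr (h : C3 K) (h4 : Nat.card (wOf K) = 4) (hU : U ≤ wOf K) (hn : K ≤ normalizer (U : Set G)) :
    U = ⊥ ∨ U = wOf K := by
  by_contra hc
  rw [not_or] at hc
  have h1 := h.four_mul_le (bot_lt_iff_ne_bot.2 hc.1) hU (le_normalizer_bot _) hn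
  have h2 := h.four_mul_le (lt_of_le_of_ne hU hc.2) le_rfl hn (le_normalizer.trans (normalizer_le_wOf K))
  rw [card_bot] at h1
  omega

namespace JC
variable (h : JC J K)
include h

theorem nK : J ≤ normalizer (K : Set G) := le_normalizer_of_commutator_le' h.comm.le

theorem nW : K ⊔ J ≤ normalizer (wOf K : Set G) := (sup_le le_normalizer h.nK).trans (normalizer_le_wOf K)

theorem conj (g : G) : JC (cj g J) (cj g K) :=
  ⟨h.toC3.conj g, by rw [← cj_commutator, h.comm], fun S hS hle => by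
    rw [← cj_sup] at hS
    have := h.syl2 _ (by simpa only [cj_inv_cj] using hS.conj g⁻¹) (cj_le_iff.1 hle)
    rw [← this, J2, J2, PLocal.cj_J, cj_cj_inv], by rw [← cj_wOf, card_cj, h.cW]⟩

theorem conj' (hg : g ∈ normalizer (J : Set G)) : JC J (cj g K) := by
  simpa only [cj_eq_of_mem_normalizer hg] using h.conj g

theorem norm_of (hJ : IsPGroup 2 J) (h1 : K ≤ normalizer (Q : Set G)) (h2 : Q ≤ normalizer (J : Set G)) :
    Q ≤ normalizer (K : Set G) := by
  have e : ⨆ k : K, cj (k : G) J = K ⊔ J := by rw [iSup_cj_eq_sup_commutator, h.comm, sup_comm]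
  rw [← h.res_sup hJ h.nK]
  refine le_trans ?_ (normalizer_le_normalizer_pResidualOf _ _)
  rw [← e]
  refine le_normalizer_of_cj_le fun q hq => ?_
  rw [cj_iSup]
  refine iSup_mono fun k => ?_
  rw [cj_cj, show q * k = k * ((k : G)⁻¹ * q * k) by group, ← cj_cj,
    cj_eq_of_mem_normalizer (h2 (conj_inv_mem_of_mem_normalizer (h1 k.2) hq))]

theorem irr (hU : U ≤ wOf K) (hn : K ≤ normalizer (U : Set G)) : U = ⊥ ∨ U = wOf K := h.toC3.irr h.cW hU hn

theorem W_ne_bot : wOf K ≠ ⊥ := fun e => by simpa [e] using h.cW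

theorem not_cent : ¬ K ≤ centralizer (wOf K : Set G) := fun e =>
  h.W_ne_bot ((inf_eq_left.2 (le_centralizer_iff.1 e)).symm.trans h.infW)

theorem commW : ⁅wOf K, K⁆ = wOf K := h.comm_comm
  (isPGroup_of_isElementaryAbelian (isElementaryAbelian_omegaOne_center _ _))
  ((le_normalizer_pCoreOf _ _).trans (normalizer_le_normalizer_omegaOne_center _ _))

theorem cent_of (hD : IsPGroup 2 D) (h1 : D ≤ normalizer (wOf K : Set G))
    (h2 : K ≤ normalizer ((wOf K ⊓ centralizer (D : Set G) : Subgroup G) : Set G)) : D ≤ centralizer (wOf K : Set G) :=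
  le_centralizer_iff.1 (inf_eq_left.1 ((h.irr inf_le_left h2).resolve_left
    (inf_centralizer_ne_bot hD (isPGroup_of_isElementaryAbelian (ea_wOf K)) h1 h.W_ne_bot)))

theorem red (h1 : K ≤ L) (h2 : L ≤ normalizer (wOf K : Set G)) : Red 2 L (wOf K) := fun D hD hn hc => by
  obtain ⟨P, hP⟩ := exists_sylIn 2 D
  have e : wOf K ⊓ centralizer (P : Set G) = wOf K ⊓ centralizer (D : Set G) := by
    rw [← hP.pResidualOf_sup, centralizer_sup', ← inf_assoc, inf_eq_left.2 (le_centralizer_iff.1 hc)]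
  rw [← hP.pResidualOf_sup]
  exact sup_le hc (h.cent_of hP.pg (hP.le.trans (hD.trans h2)) (e ▸ h1.trans (le_normalizer_inf h2
    (le_normalizer_centralizer hn))))

theorem comm_eq (hV : IsElementaryAbelian 2 V) (h1 : K ≤ normalizer (V : Set G)) (h2 : ⁅V, K⁆ ≤ K)
    (h3 : pCoreOf 2 K ≤ centralizer (V : Set G)) : ⁅V, K⁆ ≤ wOf K := by
  have h4 := commutator_le_left_of_le_normalizer h1
  rw [← h.comm_comm (isPGroup_of_isElementaryAbelian hV) h1]
  exact commutator_mono (le_OZ (h.le_Q h2 ((isPGroup_of_isElementaryAbelian hV).to_le h4))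
    (h4.trans (le_centralizer_iff.1 h3)) fun x hx => (isElementaryAbelian_iff.1 hV).2 x (h4 hx)) le_rfl

theorem not_le_of_pg (hD : IsPGroup 2 D) (hn : K ≤ normalizer (D : Set G)) : ¬ J ≤ D := fun e =>
  h.not_pg (hD.to_le (h.comm.ge.trans ((commutator_mono le_rfl e).trans (commutator_le_right_of_le_normalizer hn))))

theorem W_eq (s : LS V L) (k : Cp V L K t) : ⁅V, K⁆ = wOf K :=
  eq_of_le_of_card_ge (s.W_le_wOf k) (by rw [s.card_W k, h.cW])

end JC

theorem LS.jc (s : LS V L) (hT : SylIn 2 T L) (k : Cp V L K t) (hA : A ∈ eaMax 2 T) (ht : t ∈ A) : JC (J2 T) K := by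
  have h1 : J2 T ≤ normalizer (K : Set G) := (PLocal.J_sylIn_le hT).trans (s.J_le_normalizer k)
  refine ⟨k.c3, le_antisymm (commutator_le_left_of_le_normalizer h1) (k.comm.ge.trans (commutator_mono le_rfl
    (zpowers_le.2 (PLocal.le_J hA ht)))), fun S hS hle => J_eq_of_sylIn hT (hS.le.trans (sup_le k.le
      ((PLocal.J_le _ _).trans hT.le))) hS.pg hle, le_antisymm (k.c3.card_le_four hA ((PLocal.le_J hA).trans h1)
      ((wOf_le_Q K).trans ((s.Q_le k).trans hT.pCoreOf_le)) fun e => k.c3.not_le ?_)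
      ((s.card_W k).ge.trans (card_le_of_le (s.W_le_wOf k)))⟩
  exact k.comm.ge.trans ((commutator_mono le_rfl (zpowers_le.2 ht)).trans ((Subgroup.commutator_comm _ _).le.trans e))

theorem LS.cp (s : LS V L) (hT : SylIn 2 T L) (h : JC (J2 T) K) (hK : K ≤ L) :
    ∃ A ∈ eaMax 2 T, ∃ t ∈ A, Cp V L K t :=
  s.cp_of hT hK h.toC3 h.comm (h.norm_of (hT.pg.to_le (PLocal.J_le _ _)) (hK.trans (le_normalizer_pCoreOf _ _))
    (hT.pCoreOf_le.trans (Subgroup.le_normalizer.trans (PLocal.normalizer_le_normalizer_J _ _))))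

theorem frattini_J (hT : SylIn 2 T L) (hg : g ∈ L) : ∃ k ∈ normalizer (J2 T : Set G), ∃ n ∈ J2 L, g = k * n := by
  have h1 : L ≤ normalizer (J2 L : Set G) := le_normalizer.trans (PLocal.normalizer_le_normalizer_J _ _)
  obtain ⟨k, hk, n, hn, e⟩ := (hT.inf_normal' (PLocal.J_le _ _) h1).frattini' (h1 hg)
  refine ⟨k, ?_, n, hn, e⟩
  have := PLocal.normalizer_le_normalizer_J 2 _ hk
  rwa [PLocal.J_eq_of_le inf_le_left (le_inf (PLocal.J_le _ _) (PLocal.J_sylIn_le hT))] at this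

theorem LS.jc_conj (s : LS V L) (hT : SylIn 2 T L) (h : JC (J2 T) K) (hK : K ≤ L) (hg : g ∈ L) :
    JC (J2 T) (cj g K) := by
  obtain ⟨A, -, t, -, k⟩ := s.cp hT h hK
  obtain ⟨a, ha, n, hn, rfl⟩ := frattini_J hT hg
  rw [← cj_cj, cj_eq_of_mem_normalizer (s.J_le_normalizer k hn)]
  exact h.conj' ha

theorem LS.gen (s : LS V L) (hT : SylIn 2 T L) (h1 : L ⊓ normalizer (J2 T : Set G) ≤ M)
    (h2 : L ⊓ centralizer (V : Set G) ≤ M) (h : ∀ K ≤ L, JC (J2 T) K → K ≤ M) : L ≤ M := by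
  have h3 : J2 L ≤ M := PLocal.J_le_iff.2 fun A hA => by
    refine (s.le_of_bar_le hA.1 inf_le_right (Y := M ⊓ L) (s.ffs.le_of_minOff (bar_mono hA.1) (s.best hA)
      fun B hB hm => ?_)).trans (sup_le inf_le_left h2)
    obtain ⟨t, ht, t2, rfl⟩ := s.exists_t hA hB hm
    obtain ⟨K, k⟩ := s.exists_cp (hA.1 ht) t2 hm
    obtain ⟨g, hg, hle⟩ := hT.exists_conj_le hA.1 (isPGroup_of_isElementaryAbelian hA.2.1)
    have j := s.jc_conj hT (s.jc hT (s.conj k hg) (PLocal.mem_maxFam_of_le (cj_eq_of_mem hg ▸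
      PLocal.cj_mem_eaMax g hA) hT.le hle) (conj_mem_cj ht)) (cj_le_of_mem hg k.le) (inv_mem hg)
    rw [cj_inv_cj] at j
    obtain ⟨A', hA', t', ht', k'⟩ := s.cp hT j k.le
    exact (s.t_le k k').trans (bar_mono (sup_le (le_inf (h K k.le j) k.le) (zpowers_le.2
      ⟨h1 ⟨k'.tL, Subgroup.le_normalizer (PLocal.le_J hA' ht')⟩, k'.tL⟩)))
  intro g hg
  obtain ⟨a, ha, n, hn, rfl⟩ := frattini_J hT hg
  exact mul_mem (h1 ⟨(L.mul_mem_cancel_right (PLocal.J_le _ _ hn)).1 hg, ha⟩) (h3 hn)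

structure ZN (G : Type*) [Group G] : Prop where
  ch : IsCharacteristicTwoType G
  sol : ∀ N : Subgroup G, IsTwoLocal N → Group.IsSolvable N
  hz : ∀ S : Sylow 2 G, centralizer (omegaCenterOf (S : Subgroup G) : Set G) ≤ normalizer ((S : Subgroup G) : Set G)

/-- `C_G(O₂(L)) ≤ O₂(L)`. -/
abbrev CC (L : Subgroup G) : Prop := centralizer (pCoreOf 2 L : Set G) ≤ pCoreOf 2 L

theorem CC.chP (h : CC L) : ChP 2 L := inf_le_right.trans h

theorem CC.OZ_le (h : CC L) (hT : SylIn 2 T L) (hle : T ≤ S) : OZ S ≤ OZ T :=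
  le_OZ (((omegaOne_center_le_centralizer _ _).trans (centralizer_anti (hT.pCoreOf_le.trans hle))).trans
    (h.trans hT.pCoreOf_le)) ((omegaOne_center_le_centralizer _ _).trans (centralizer_anti hle))
    (isElementaryAbelian_iff.1 (isElementaryAbelian_omegaOne_center _ _)).2

namespace ZN
variable (h : ZN G)
include h

theorem hz' (hS : SylIn 2 S ⊤) : centralizer (OZ S : Set G) ≤ normalizer (S : Set G) := h.hz hS.toSylowTop

theorem cc (hL : IsTwoLocal L) : CC L := by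
  obtain ⟨X, h1, h2, rfl⟩ := hL
  exact (le_inf ((centralizer_anti (le_pCoreOf_normalizer h1)).trans (centralizer_le_normalizer _)) le_rfl).trans
    (chP_iff.2 (h.ch.2 X h1 h2))

theorem Q_ne_bot (hc : CC L) : pCoreOf 2 L ≠ ⊥ := fun e => by
  have h1 := h.ch.1
  have h2 : (⊤ : Subgroup G) = ⊥ := le_bot_iff.1 (by have := hc; rwa [CC, e, centralizer_bot'] at this)
  rw [← card_top, h2, card_bot] at h1
  exact absurd h1 (by decide)

theorem psol (hX : IsPGroup 2 X) (h0 : X ≠ ⊥) (hL : L ≤ normalizer (X : Set G)) : IsPSolvable 2 L :=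
  haveI := h.sol _ ⟨X, hX, h0, rfl⟩
  PLocal.pSolv_of_le PLocal.pSolv_of_isSolvable hL

theorem cent_le (hc : CC L) (hT : SylIn 2 T L) : L ⊓ centralizer (OZ T : Set G) ≤ normalizer (T : Set G) := by
  obtain ⟨S, hS, hle⟩ := exists_sylIn_ge le_top hT.pg
  rw [← hT.max (L ⊓ S) inf_le_left (hS.pg.to_le inf_le_right) (le_inf hT.le hle)]
  refine le_normalizer_inf (inf_le_left.trans le_normalizer) (inf_le_right.trans (le_trans ?_ (h.hz' hS)))
  rw [hT.max (L ⊓ S) inf_le_left (hS.pg.to_le inf_le_right) (le_inf hT.le hle)]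
  exact centralizer_anti (hc.OZ_le hT hle)

theorem ls (hc : CC L) : LS (sylowCenterClosure 2 L) L :=
  let ⟨_, hT⟩ := exists_sylIn 2 L
  ls_of hT hc.chP (h.psol (isPGroup_pCoreOf _ _) (h.Q_ne_bot hc) (le_normalizer_pCoreOf _ _)) (h.cent_le hc hT)

theorem subnIn (hc : CC L) (hT : SylIn 2 T L) (j : JC (J2 T) K) (hK : K ≤ L) : SubnIn K L :=
  let ⟨_, _, _, _, k⟩ := (h.ls hc).cp hT j hK
  (h.ls hc).subnIn k

theorem eq_of_inf (hc : CC L) (hT : SylIn 2 T L) (j : JC (J2 T) K) (hK : K ≤ L) (j' : JC (J2 T) K') (hK' : K' ≤ L)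
    (e : wOf K ⊓ wOf K' ≠ ⊥) : K = K' := by
  obtain ⟨_, _, _, _, k⟩ := (h.ls hc).cp hT j hK
  obtain ⟨_, _, _, _, k'⟩ := (h.ls hc).cp hT j' hK'
  exact (h.ls hc).eq_of_inf k k' (by rwa [j.W_eq (h.ls hc) k, j'.W_eq (h.ls hc) k'])

theorem mem_normalizer (hc : CC L) (hT : SylIn 2 T L) (j : JC (J2 T) K) (hK : K ≤ L) (hg : g ∈ L)
    (e : wOf K ⊓ cj g (wOf K) ≠ ⊥) : g ∈ normalizer (K : Set G) :=
  mem_normalizer_iff_cj.2 (h.eq_of_inf hc hT j hK ((h.ls hc).jc_conj hT j hK hg) (cj_le_of_mem hg hK)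
    (by rwa [← cj_wOf])).symm

theorem le_normalizer (hc : CC L) (hT : SylIn 2 T L) (j : JC (J2 T) K) (hK : K ≤ L)
    (e : centralizer (T : Set G) ⊓ wOf K ≠ ⊥) : T ≤ normalizer (K : Set G) := fun g hg =>
  h.mem_normalizer hc hT j hK (hT.le hg) fun e' => e (le_bot_iff.1 (le_trans (le_inf inf_le_right fun x hx => by
    rw [mem_cj, mul_assoc, ← hx.1 g hg, inv_mul_cancel_left]; exact hx.2) e'.le))

theorem gen (hc : CC L) (hT : SylIn 2 T L) (h1 : normalizer (J2 T : Set G) ≤ M) (hn : ¬ L ≤ M) :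
    ∃ K ≤ L, JC (J2 T) K ∧ ¬ K ≤ M := by
  by_contra hcon
  push Not at hcon
  exact hn ((h.ls hc).gen hT (inf_le_right.trans h1) ((inf_le_inf_left _ (centralizer_anti
    hT.le_sylowCenterClosure)).trans ((h.cent_le hc hT).trans ((PLocal.normalizer_le_normalizer_J _ _).trans h1))) hcon)

theorem ccW (j : JC J K) : CC (normalizer (wOf K : Set G)) :=
  h.cc ⟨_, isPGroup_of_isElementaryAbelian (ea_wOf K), j.W_ne_bot, rfl⟩

end ZN

/-- The family `𝒦₀`. -/
structure JC0 (J K : Subgroup G) : Prop extends JC J K where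
  pg : IsPGroup 2 J
  syl0 : ∀ S, J ≤ S → SylIn 2 S (normalizer (wOf K : Set G)) → J2 S = J

theorem mem_jComponentsZero (hT : IsPGroup 2 T) : K ∈ jComponentsZero T ↔ JC0 (J2 T) K := by
  simp only [jComponentsZero, Set.mem_ofPred_eq, isJComponent_iff, isSylowTwoIn_iff]
  exact ⟨fun h => ⟨h.1, hT.to_le (PLocal.J_le _ _), h.2⟩, fun h => ⟨h.toJC, h.syl0⟩⟩

theorem JC0.conj (h : JC0 J K) (g : G) : JC0 (cj g J) (cj g K) :=
  ⟨h.toJC.conj g, isPGroup_cj g h.pg, fun S hle hS => by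
    rw [← cj_wOf, ← cj_normalizer] at hS
    have := h.syl0 _ (cj_le_iff.1 hle) (by simpa only [cj_inv_cj] using hS.conj g⁻¹)
    rw [← this, J2, J2, PLocal.cj_J, cj_cj_inv]⟩

theorem ZN.normalizer_eq (h : ZN G) (j : JC0 J K) : normalizer (K : Set G) = normalizer (wOf K : Set G) := by
  obtain ⟨S, hS, hle⟩ := exists_sylIn_ge (le_sup_right.trans j.nW) j.pg
  refine le_antisymm (normalizer_le_wOf K) fun g hg => h.mem_normalizer (h.ccW j.toJC) hS
    ((j.syl0 S hle hS).symm ▸ j.toJC) (le_sup_left.trans j.nW) hg ?_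
  rw [cj_eq_of_mem_normalizer hg, inf_idem]; exact j.W_ne_bot

theorem ZN.jc_of_le (h : ZN G) (j : JC0 J K) (hle : cj g J ≤ normalizer (wOf K : Set G)) : JC (cj g J) K := by
  obtain ⟨S, hS, h1⟩ := exists_sylIn_ge (le_sup_right.trans j.nW) j.pg
  obtain ⟨n, hn, h2⟩ := hS.exists_le_conj hle (isPGroup_cj g j.pg)
  have e := j.syl0 S h1 hS
  have e1 : cj g J = cj n J := eq_of_le_of_card_ge (by
    rw [← e, J2, PLocal.cj_J, PLocal.cj_J, PLocal.J_le_iff]
    intro A hA
    obtain ⟨A₀, h0⟩ := PLocal.eaMax_nonempty 2 S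
    refine PLocal.le_J (PLocal.mem_maxFam_of_card (PLocal.cj_mem_eaMax n h0) ((PLocal.le_J hA).trans ?_) hA.2.1 ?_)
    · rwa [← PLocal.cj_J, ← J2, e]
    · rw [card_cj, ← card_cj g A₀, PLocal.maxFam_card_eq hA (PLocal.cj_mem_eaMax g h0)]) (by rw [card_cj, card_cj])
  have := j.toJC.conj n
  rwa [← e1, cj_eq_of_mem_normalizer ((h.normalizer_eq j).ge hn)] at this

theorem ZN.jc_of_subnIn (h : ZN G) (hT : SylIn 2 T L) (hK : K ≤ L) (hs : SubnIn K (K ⊔ J2 T))
    (j : JC0 (cj g (J2 T)) K) : JC (J2 T) K := by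
  suffices hn : J2 T ≤ normalizer (wOf K : Set G) by
    simpa only [cj_inv_cj] using h.jc_of_le j (g := g⁻¹) (by rwa [cj_inv_cj])
  set H := K ⊔ J2 T with hH
  set W := wOf K with hW
  set R := pCoreOf 2 H with hR
  have nR : H ≤ normalizer (R : Set G) := le_normalizer_pCoreOf _ _
  have RK : R ≤ normalizer (K : Set G) := j.res ▸ pCoreOf_le_normalizer_pResidualOf hs
  have QR : pCoreOf 2 K ≤ R := pCoreOf_le_of_subnIn hs
  have WR : W ≤ OZ R := le_OZ ((wOf_le_Q K).trans QR) (le_centralizer_iff.1 (j.cent_of (isPGroup_pCoreOf _ _)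
    (RK.trans (normalizer_le_wOf K)) (le_normalizer_inf (le_sup_left.trans j.nW) (le_normalizer_centralizer
      (le_sup_left.trans nR))))) (isElementaryAbelian_iff.1 (ea_wOf K)).2
  set Y := ⨆ x : H, cj (x : G) W with hY
  have YR : Y ≤ OZ R := iSup_cj_le WR (nR.trans (normalizer_le_normalizer_omegaOne_center _ _))
  have eY : IsElementaryAbelian 2 Y := isElementaryAbelian_of_le (isElementaryAbelian_omegaOne_center _ _) YR
  have nY : H ≤ normalizer (Y : Set G) := le_normalizer_iSup_cj _ _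
  have WY : W ≤ Y := le_iSup_cj _ _
  have KY : K ≤ normalizer (Y : Set G) := le_sup_left.trans nY
  have YH : Y ≤ H := YR.trans ((omegaOne_center_le _ _).trans (pCoreOf_le _ _))
  have QY : pCoreOf 2 K ≤ centralizer (Y : Set G) :=
    QR.trans ((le_centralizer_omegaOne_center _ _).trans (centralizer_anti YR))
  have YK : ⁅Y, K⁆ = W := le_antisymm (j.comm_eq eY KY (commutator_le_right_of_le_normalizer (YR.trans
    ((omegaOne_center_le _ _).trans RK))) QY) (j.commW.ge.trans (commutator_mono WY le_rfl))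
  have tW : til Y W = ⁅til Y Y, bar Y K⁆ := by rw [← YK]; exact til_comm le_rfl KY
  have cK : C3 K := j.toC3
  have sK : SubnIn (bar Y K) (bar Y H) := ((SubnIn.subgroupOf_iff nY KY).2 hs).map _
  have rK : pResidualOf 2 (bar Y K) = bar Y K := by
    rw [bar, ← map_pResidualOf]
    congr 1
    exact map_injective (normalizer (Y : Set G)).subtype_injective (by
      rw [map_pResidualOf, map_subgroupOf_eq_of_le KY, j.res])
  have key : ∀ {X : Subgroup G}, X ≤ H → bar Y X ≤ normalizer (bar Y K : Set (Hol Y)) →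
      X ≤ normalizer (W : Set G) := fun hX hn => le_normalizer_of_til WY (hX.trans nY)
    (tW ▸ le_normalizer_commutator (bar_le_normalizer_top _) hn)
  have red : Red 2 H Y := fun D hD hn hc => by
    obtain ⟨P, hP⟩ := exists_sylIn 2 D
    have e : W ⊓ centralizer (P : Set G) = W ⊓ centralizer (D : Set G) := by
      rw [← hP.pResidualOf_sup, centralizer_sup', ← inf_assoc,
        inf_eq_left.2 (WY.trans (le_centralizer_iff.1 hc))]
    have e1 : bar Y D = bar Y P := by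
      rw [← hP.pResidualOf_sup, bar_sup ((pResidualOf_le _ _).trans (hD.trans nY)) (hP.le.trans (hD.trans nY)),
        (bar_eq_bot_iff ((pResidualOf_le _ _).trans (hD.trans nY))).2 hc, bot_sup_eq]
    have DW : D ≤ normalizer (W : Set G) := key hD ((le_pCoreOf (bar_mono hD) (bar_le_normalizer hn)
      (e1 ▸ isPGroup_bar hP.pg)).trans (rK ▸ pCoreOf_le_normalizer_pResidualOf sK))
    have DC : D ≤ centralizer (W : Set G) := by
      rw [← hP.pResidualOf_sup]
      exact sup_le (hc.trans (centralizer_anti WY)) (j.cent_of hP.pg (hP.le.trans DW) (e ▸ le_normalizer_inf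
        (le_sup_left.trans j.nW) (le_normalizer_centralizer (le_sup_left.trans hn))))
    rw [hY, centralizer_iSup']
    exact le_iInf fun x => by rw [← cj_centralizer, ← cj_eq_of_mem_normalizer (hn x.2)]; exact cj_mono _ DC
  have u : UF 2 Y H := ⟨eY, nY, red, h.psol (isPGroup_pCoreOf _ _)
    (fun e => j.W_ne_bot (le_bot_iff.1 (WR.trans ((omegaOne_center_le _ _).trans e.le)))) nR⟩
  have KF : bar Y K ≤ ppIn 2 (bar Y H) := Sig.le_ppIn_of_subnIn sK (by
    rw [card_bar KY]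
    exact Nat.Coprime.coprime_dvd_left (j.idx ▸ relIndex_dvd_of_le_left K QY) (by norm_num))
  refine PLocal.J_le_iff.2 fun A hA => ?_
  have AH : A ≤ H := (PLocal.le_J hA).trans le_sup_right
  have hA' : A ∈ eaMax 2 H := PLocal.mem_maxFam_of_le (PLocal.eaMax_sylIn_subset hT hA)
    (sup_le hK ((PLocal.J_le _ _).trans hT.le)) AH
  refine le_normalizer_of_til WY (AH.trans nY) (u.ffs.le_of_minOff (bar_mono AH) (best_bar (AH.trans nY)
    (PLocal.bestOffender_of_mem_eaMax hA' YH eY)) fun B hB hm => ?_)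
  have hB' := hB.trans (bar_mono AH)
  have a := u.ffs.main hB' hm
  have n1 := KF.trans (u.ffs.nW hB' hm)
  obtain ⟨U, hU, eU⟩ := exists_til a.Wle
  have cU : Nat.card U = 4 := by rw [← card_til hU, eU, a.cW]; rfl
  by_cases hc : bar Y K ≤ centralizer ((⁅til Y Y, Eo 2 (bar Y H) B⁆ : Subgroup _) : Set (Hol Y))
  · rw [tW]
    refine le_normalizer_commutator (hB'.trans (bar_le_normalizer_top _)) (le_normalizer_of_le_centralizer
      (commutator_eq_bot_iff'.1 (le_bot_iff.1 (le_trans (le_inf (commutator_mono KF le_rfl) ?_) a.faithQ.le))))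
    exact (commutator_mono hc le_rfl).trans (commutator_le_left_of_le_normalizer
      (le_normalizer_centralizer (le_sup_right.trans a.nW)))
  · rw [← eU] at hc n1
    have n2 : K ≤ normalizer (U : Set G) := le_normalizer_of_til hU KY n1
    have h1 : ⁅U, K⁆ = W := (j.irr ((commutator_mono hU le_rfl).trans YK.le)
      (normalizer_commutator_ge_right _ _)).resolve_left fun e => hc (le_centralizer_iff.1
        ((til_le_cent_iff hU KY).2 (commutator_eq_bot_iff_le_centralizer.1 e)))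
    rw [eq_of_le_of_card_ge (h1.ge.trans (commutator_le_left_of_le_normalizer n2)) (by rw [cU, j.cW]), eU]
    exact le_sup_right.trans a.nW

end Cfsg.Agent.Loc
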