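import Cfsg.Agent.Loc.JC3
import Cfsg.Agent.Loc.S4Inv

/-! `J(T)`-components, part 4: the structure of `K J(T)` and of `Ω₁(Z(J(T)))`. -/

set_option linter.unusedSectionVars false

namespace Cfsg.Agent.Loc
open Subgroup Cfsg
open Cfsg.Agent.Sig (SubnIn ppIn)
open Cfsg.Agent.PLocal (mu cent eaMax)
open scoped commutatorElement

variable {G : Type*} [Group G] [Finite G] {J K K' T A B D H L M P Q S U V W X Y : Subgroup G} {g t t' x y z : G}

theorem relIndex_cent_dvd (hX : X ≤ Y) (hY : Y ≤ normalizer (W : Set G)) :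
    (centralizer (W : Set G)).relIndex X ∣ (centralizer (W : Set G)).relIndex Y := by
  rw [← card_bar (hX.trans hY), ← card_bar hY]; exact card_dvd_of_le (bar_mono hX)

theorem eq_two_of_dvd_six {n k : ℕ} (h1 : n ∣ 6) (h2 : n ∣ 2 ^ k) (h3 : n ≠ 1) : n = 2 := by
  have h4 : n ∣ 2 := Nat.Coprime.dvd_of_dvd_mul_left (Nat.Coprime.coprime_dvd_left h2
    (Nat.Coprime.pow_left k (by norm_num : Nat.Coprime 2 3))) h1
  exact ((Nat.dvd_prime Nat.prime_two).1 h4).resolve_left h3

theorem OZ_le (T : Subgroup G) : OZ T ≤ T := omegaOne_center_le _ _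
theorem OZ_le_cent (T : Subgroup G) : OZ T ≤ centralizer (T : Set G) := omegaOne_center_le_centralizer _ _
theorem le_cent_OZ (T : Subgroup G) : T ≤ centralizer (OZ T : Set G) := le_centralizer_omegaOne_center _ _
theorem ea_OZ (T : Subgroup G) : IsElementaryAbelian 2 (OZ T) := isElementaryAbelian_omegaOne_center _ _
theorem sq_OZ (hx : x ∈ OZ T) : x ^ 2 = 1 := (isElementaryAbelian_iff.1 (ea_OZ T)).2 x hx
theorem normalizer_le_OZ (T : Subgroup G) : normalizer (T : Set G) ≤ normalizer (OZ T : Set G) :=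
  normalizer_le_normalizer_omegaOne_center _ _
theorem cj_OZ (g : G) (T : Subgroup G) : cj g (OZ T) = OZ (cj g T) := cj_omegaOne_center _ _
theorem normalizer_le_J2 (T : Subgroup G) : normalizer (T : Set G) ≤ normalizer (J2 T : Set G) :=
  PLocal.normalizer_le_normalizer_J _ _
theorem OZ_le_OZ_J (T : Subgroup G) : OZ T ≤ OZ (J2 T) := PLocal.omega_center_le_omega_ZJ 2 T

namespace JC
variable (h : JC J K)
include h

theorem k4 : IsKleinFour (wOf K) := isKleinFour_of_ea (ea_wOf K) h.cW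

theorem KW : K ≤ normalizer (wOf K : Set G) := le_sup_left.trans h.nW

theorem notJ : ¬ J ≤ centralizer (wOf K : Set G) := fun e => h.not_cent (h.comm.ge.trans
  ((commutator_mono le_rfl e).trans (commutator_le_right_of_le_normalizer (le_normalizer_centralizer h.KW))))

theorem inf_cent : K ⊓ centralizer (wOf K : Set G) = pCoreOf 2 K := by
  refine le_antisymm ?_ (le_inf (pCoreOf_le _ _) (Q_le_cent_wOf K))
  by_contra hc
  exact h.not_cent ((h.eq_of_normal inf_le_left (le_normalizer_inf le_normalizer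
    (le_normalizer_centralizer h.KW)) hc).ge.trans inf_le_right)

theorem idxK : (centralizer (wOf K : Set G)).relIndex K = 3 := by
  rw [← inf_relIndex_left, h.inf_cent, h.idx]

theorem idx2 (hD : IsPGroup 2 D) (hn : D ≤ normalizer (wOf K : Set G)) (hc : ¬ D ≤ centralizer (wOf K : Set G)) :
    (centralizer (wOf K : Set G)).relIndex D = 2 := by
  obtain ⟨k, hk⟩ := hD.exists_card_eq
  exact eq_two_of_dvd_six (relIndex_four_dvd h.k4 hn) (hk ▸ relIndex_dvd_card _ _) (mt relIndex_eq_one.1 hc)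

theorem cardC (hD : IsPGroup 2 D) (hn : D ≤ normalizer (wOf K : Set G)) (hc : ¬ D ≤ centralizer (wOf K : Set G)) :
    Nat.card (wOf K ⊓ centralizer (D : Set G) : Subgroup G) = 2 := by
  have pW := isPGroup_of_isElementaryAbelian (ea_wOf K)
  have h1 := mul_card_le_of_lt (pW.to_le inf_le_left) (bot_lt_iff_ne_bot.2 (inf_centralizer_ne_bot hD pW hn h.W_ne_bot))
  have h2 := mul_card_le_of_lt pW (lt_of_le_of_ne (inf_le_left (b := centralizer (D : Set G)))
    fun e => hc (le_centralizer_iff.1 (inf_eq_left.1 e)))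
  rw [card_bot] at h1
  rw [h.cW] at h2
  omega

theorem core (hK : K ≤ P) (hn : P ≤ normalizer (wOf K : Set G))
    (hp : IsPGroup 2 (P ⊓ centralizer (wOf K : Set G) : Subgroup G)) :
    pCoreOf 2 P = P ⊓ centralizer (wOf K : Set G) :=
  le_antisymm (le_inf (pCoreOf_le _ _) (h.red hK hn).pCoreOf_le_centralizer)
    (le_pCoreOf inf_le_left (le_normalizer_inf le_normalizer (le_normalizer_centralizer hn)) hp)

theorem pg_cent (hD : IsPGroup 2 D) (hn : D ≤ normalizer (K : Set G)) :
    IsPGroup 2 ((K ⊔ D) ⊓ centralizer (wOf K : Set G) : Subgroup G) :=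
  isPGroup_of_pResidualOf_le (isPGroup_pCoreOf 2 K) ((le_inf ((pResidualOf_mono inf_le_left).trans
    (h.res_sup hD hn).le) ((pResidualOf_le _ _).trans inf_le_right)).trans h.inf_cent.le)

theorem idx6 (pJ : IsPGroup 2 J) (hK : K ⊔ J ≤ P) (hn : P ≤ normalizer (wOf K : Set G))
    (hp : IsPGroup 2 (P ⊓ centralizer (wOf K : Set G) : Subgroup G)) : (pCoreOf 2 P).relIndex P = 6 := by
  rw [h.core (le_sup_left.trans hK) hn hp, inf_relIndex_left]
  refine Nat.dvd_antisymm (relIndex_four_dvd h.k4 hn) (Nat.Coprime.mul_dvd_of_dvd_of_dvd (by norm_num : Nat.Coprime 2 3)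
    ?_ ?_)
  · exact h.idx2 pJ (le_sup_right.trans h.nW) h.notJ ▸ relIndex_cent_dvd (le_sup_right.trans hK) hn
  · exact h.idxK ▸ relIndex_cent_dvd (le_sup_left.trans hK) hn

theorem s3 (hT : IsPGroup 2 T) (hJ : J ≤ T) (hQ : pCoreOf 2 K ≤ T) (hn : T ≤ normalizer (K : Set G)) :
    S3 T (K ⊔ T) := by
  refine s3_of_relIndex (sylIn_of_not_dvd_relIndex le_sup_right hT ?_) (h.idx6 (hT.to_le hJ) (sup_le_sup_left hJ _)
    (sup_le h.KW (hn.trans (normalizer_le_wOf K))) (h.pg_cent hT hn))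
  have h1 := Solv.card_sup_mul_card_inf hn
  rw [show K ⊓ T = pCoreOf 2 K from le_antisymm (h.le_Q inf_le_left (hT.to_le inf_le_right))
    (le_inf (pCoreOf_le _ _) hQ), ← Solv.card_mul_relIndex (pCoreOf_le 2 K), h.idx,
    ← Solv.card_mul_relIndex (le_sup_right : T ≤ K ⊔ T)] at h1
  have h2 : T.relIndex (K ⊔ T) = 3 := Nat.eq_of_mul_eq_mul_left (Nat.mul_pos (Nat.card_pos (α := T))
    (Nat.card_pos (α := pCoreOf 2 K))) (by linarith)
  rw [h2]; norm_num

theorem star (hA : A ∈ eaMax 2 S) (hW : wOf K ≤ S) (hn : A ≤ normalizer (wOf K : Set G)) :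
    wOf K ⊔ (centralizer (wOf K : Set G) ⊓ A) ∈ eaMax 2 S := by
  have e := isElementaryAbelian_sup (ea_wOf K) (isElementaryAbelian_of_le hA.2.1 (inf_le_right
    (a := centralizer (wOf K : Set G)))) (le_centralizer_iff.1 inf_le_left)
  refine PLocal.mem_maxFam_of_card hA (sup_le hW (inf_le_right.trans hA.1)) e ?_
  by_cases hc : A ≤ centralizer (wOf K : Set G)
  · exact card_le_of_le ((le_inf hc le_rfl).trans le_sup_right)
  have pA := isPGroup_of_isElementaryAbelian hA.2.1
  have h1 := Solv.card_sup_mul_card_inf ((inf_le_right (a := centralizer (wOf K : Set G))).trans hn)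
  have h2 := Solv.card_inf_mul_relIndex (centralizer (wOf K : Set G)) A
  have h3 : Nat.card (wOf K ⊓ (centralizer (wOf K : Set G) ⊓ A) : Subgroup G) ≤ 2 := h.cardC pA hn hc ▸
    card_le_of_le (inf_le_inf_left _ (inf_le_right.trans (isElementaryAbelian_iff.1 hA.2.1).1))
  rw [h.idx2 pA hn hc] at h2
  rw [h.cW] at h1
  nlinarith

theorem zz (pJ : IsPGroup 2 J) : wOf K ≤ J ∧ Nat.card (OZ J ⊓ wOf K : Subgroup G) = 2 ∧
    (OZ J ⊓ centralizer (K : Set G)) ⊔ (OZ J ⊓ wOf K) = OZ J := by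
  obtain ⟨S, hS, hle⟩ := exists_sylIn_ge (le_sup_right : J ≤ K ⊔ J) pJ
  have e := h.syl2 S hS hle
  set R := pCoreOf 2 (K ⊔ J) with hR
  set W := wOf K with hW
  have eR : R = (K ⊔ J) ⊓ centralizer (W : Set G) := h.core le_sup_left h.nW (h.pg_cent pJ h.nK)
  have QR : pCoreOf 2 K ≤ R := pCoreOf_le_of_normal le_sup_left (sup_le le_normalizer h.nK)
  have WR : W ≤ R := (wOf_le_Q K).trans QR
  have RS : R ≤ S := hS.pCoreOf_le
  have st : ∀ A ∈ eaMax 2 S, W ⊔ (centralizer (W : Set G) ⊓ A) ∈ eaMax 2 S ∧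
      W ⊔ (centralizer (W : Set G) ⊓ A) ≤ R := fun A hA => ⟨h.star hA (WR.trans RS) (hA.1.trans (hS.le.trans h.nW)),
    sup_le WR (eR ▸ le_inf (inf_le_right.trans (hA.1.trans hS.le)) inf_le_left)⟩
  obtain ⟨A₀, h0⟩ := PLocal.eaMax_nonempty 2 S
  have h1 := PLocal.mem_maxFam_of_le (st A₀ h0).1 RS (st A₀ h0).2
  have WJ : W ≤ J := le_sup_left.trans ((PLocal.le_J (st A₀ h0).1).trans e.le)
  have JR : J2 R ≤ J := (PLocal.J_le_J (st A₀ h0).1 RS (st A₀ h0).2).trans e.le
  have c2 : Nat.card (OZ J ⊓ W : Subgroup G) = 2 := by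
    rw [← h.cardC pJ (le_sup_right.trans h.nW) h.notJ]
    congr 2
    exact le_antisymm (le_inf inf_le_right (inf_le_left.trans (OZ_le_cent J))) (le_inf (le_OZ (inf_le_left.trans WJ)
      inf_le_right fun x hx => (isElementaryAbelian_iff.1 (ea_wOf K)).2 x hx.1) inf_le_left)
  refine ⟨WJ, c2, ?_⟩
  have Z1 : OZ J ≤ OZ (J2 R) := le_OZ ((PLocal.ea_le_of_mem_eaMax (st A₀ h0).1 ((OZ_le J).trans hle) ((OZ_le_cent J).trans
    (centralizer_anti ((PLocal.le_J (st A₀ h0).1).trans e.le))) fun _ => sq_OZ).trans (PLocal.le_J h1))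
    ((OZ_le_cent J).trans (centralizer_anti JR)) fun _ => sq_OZ
  have n1 : K ⊔ J ≤ normalizer (OZ (J2 R) : Set G) :=
    (le_normalizer_pCoreOf _ _).trans ((normalizer_le_J2 _).trans (normalizer_le_OZ _))
  have c1 : ⁅J, OZ (J2 R)⁆ ≤ W := by
    refine (le_commKer_iff.1 (e.ge.trans (PLocal.J_le_iff.2 fun A hA => ?_))).2
    have hn := hA.1.trans (hS.le.trans h.nW)
    refine le_commKer_iff.2 ⟨hn, (commutator_mono le_rfl (PLocal.omega_ZJ_le (PLocal.mem_maxFam_of_le (st A hA).1 RS
      (st A hA).2))).trans (commutator_sup_right_le le_normalizer (inf_le_right.trans hn)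
        (commutator_le_right_of_le_normalizer hn) (commutator_le_of_le_centralizer' (inf_le_right.trans
          (isElementaryAbelian_iff.1 hA.2.1).1) _))⟩
  have c3 : ⁅K, OZ (J2 R)⁆ ≤ W := by
    conv_lhs => rw [← h.comm]
    have nZ : OZ (J2 R) ≤ normalizer (W : Set G) := (OZ_le _).trans (JR.trans (le_sup_right.trans h.nW))
    refine three_subgroups h.KW (le_sup_right.trans h.nW) nZ ((commutator_mono c1 le_rfl).trans
      (commutator_le_left_of_le_normalizer h.KW)) ?_
    rw [Subgroup.commutator_comm]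
    exact (commutator_mono le_rfl (commutator_le_left_of_le_normalizer (le_sup_left.trans n1))).trans c1
  set U := W ⊔ OZ J with hU
  have eU : IsElementaryAbelian 2 U := isElementaryAbelian_sup (ea_wOf K) (ea_OZ J) (WJ.trans (le_cent_OZ J))
  have UJ : U ≤ J := sup_le WJ (OZ_le J)
  have UK : ⁅U, K⁆ ≤ W := commutator_sup_left_le le_normalizer ((OZ_le J).trans (le_sup_right.trans h.nW))
    (commutator_le_left_of_le_normalizer h.KW) ((Subgroup.commutator_comm _ _).le.trans
      ((commutator_mono le_rfl Z1).trans c3))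
  have KU : K ≤ normalizer (U : Set G) := le_normalizer_of_commutator_le' (UK.trans le_sup_left)
  have QZ : pCoreOf 2 K ≤ normalizer (OZ J : Set G) :=
    QR.trans (RS.trans (le_normalizer.trans (e ▸ (normalizer_le_J2 S).trans (normalizer_le_OZ _))))
  have UQ : ⁅U, pCoreOf 2 K⁆ = ⊥ := by
    refine (h.irr ((commutator_mono le_rfl (pCoreOf_le _ _)).trans UK) (le_normalizer_commutator KU
      (le_normalizer_pCoreOf _ _))).resolve_right fun e' => h.notJ (le_centralizer_iff.1 (e'.ge.trans (le_trans ?_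
        (OZ_le_cent J))))
    exact commutator_sup_left_le (WJ.trans (le_normalizer.trans (normalizer_le_OZ J))) le_normalizer
      (commutator_le_of_le_centralizer' (Q_le_cent_wOf K) _) (commutator_le_left_of_le_normalizer QZ)
  obtain ⟨a, ha, h3⟩ := h.exists_three
  have d := Solv.commutator_sup_inf_centralizer (K := U) (zpowers_le.2 (KU ha)) (by
    obtain ⟨k, hk⟩ := (isPGroup_of_isElementaryAbelian eU).exists_card_eq
    rw [Nat.card_zpowers, h3, hk]; exact Nat.Coprime.pow_right _ (by norm_num)) (Or.inl inferInstance)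
  have d1 : U ⊓ centralizer ((zpowers a : Subgroup G) : Set G) ≤ U ⊓ centralizer (K : Set G) := by
    conv_rhs => rw [← h.sup_three ha h3, centralizer_sup']
    exact le_inf inf_le_left (le_inf (inf_le_left.trans (commutator_eq_bot_iff_le_centralizer.1 UQ)) inf_le_right)
  have JU : J ≤ normalizer (U : Set G) := le_normalizer_sup (le_sup_right.trans h.nW)
    (le_normalizer.trans (normalizer_le_OZ J))
  have d2 : U ⊓ centralizer (K : Set G) ≤ OZ J := by
    refine le_OZ (inf_le_left.trans UJ) (commutator_eq_bot_iff_le_centralizer.1 (le_bot_iff.1 (le_trans (le_inf ?_ ?_)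
      h.infW.le))) fun x hx => (isElementaryAbelian_iff.1 eU).2 x hx.1
    · exact (commutator_mono inf_le_left le_rfl).trans (commutator_sup_left_le le_normalizer
        ((OZ_le J).trans (le_sup_right.trans h.nW)) (commutator_le_left_of_le_normalizer (le_sup_right.trans h.nW))
        (commutator_le_of_le_centralizer (OZ_le_cent J) _))
    · exact (commutator_mono inf_le_right le_rfl).trans
        (commutator_le_left_of_le_normalizer (le_normalizer_centralizer h.nK))
  refine le_antisymm (sup_le inf_le_left inf_le_left) fun x hx => ?_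
  have hx' : x ∈ W ⊔ (U ⊓ centralizer (K : Set G)) := (d.ge.trans (sup_le_sup ((commutator_mono le_rfl
    (zpowers_le.2 ha)).trans UK) d1)) (mem_sup_right hx)
  obtain ⟨w, hw, c, hc, rfl⟩ := (mem_sup_of_le_normalizer_left (inf_le_left.trans (UJ.trans
    (le_sup_right.trans h.nW)))).1 hx'
  exact mul_mem (mem_sup_right ⟨((OZ J).mul_mem_cancel_right (d2 hc)).1 hx, hw⟩) (mem_sup_left ⟨d2 hc, hc.2⟩)

end JC

end Cfsg.Agent.Loc
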