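import Cfsg.Agent.Loc.JC4
import Cfsg.Agent.S0540

/-! `J(T)`-components, part 5 (Kurzweil–Stellmacher 12.3): the families `𝒯*(M)`, uniqueness. -/

set_option linter.unusedSectionVars false

namespace Cfsg.Agent.Loc
open Subgroup Cfsg
open Cfsg.Agent.Sig (SubnIn ppIn)
open Cfsg.Agent.PLocal (mu cent eaMax)
open scoped commutatorElement

variable {G : Type*} [Group G] [Finite G] {J K K' T T' A B D H L L' M P Q S U V W X Y : Subgroup G}
  {g t t' x y z : G}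

theorem twoLocal_cj (h : IsTwoLocal L) (g : G) : IsTwoLocal (cj g L) := by
  obtain ⟨X, h1, h2, rfl⟩ := h
  exact ⟨cj g X, isPGroup_cj g h1, mt cj_eq_bot_iff.1 h2, cj_normalizer _ _⟩

theorem twoLocal_core (h : pCoreOf 2 L ≠ ⊥) : IsTwoLocal (normalizer (pCoreOf 2 L : Set G)) :=
  ⟨_, isPGroup_pCoreOf _ _, h, rfl⟩

theorem twoLocal_ne_bot (h : IsTwoLocal L) : pCoreOf 2 L ≠ ⊥ := by
  obtain ⟨X, h1, h2, rfl⟩ := h
  exact fun e => h2 (le_bot_iff.1 ((le_pCoreOf_normalizer h1).trans e.le))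

theorem twoLocal_cent (h1 : x ≠ 1) (h2 : x ^ 2 = 1) : IsTwoLocal (centralizer ({x} : Set G)) := by
  refine ⟨zpowers x, isPGroup_zpowers_of_pow (k := 1) h2, mt zpowers_eq_bot.1 h1, le_antisymm
    ((centralizer_zpowers x).ge.trans (centralizer_le_normalizer _)) fun g hg => ?_⟩
  have := (Invol.mem_zpowers_invol (pow_two x ▸ h2)).1 (conj_mem_of_mem_normalizer hg (mem_zpowers x))
  exact mem_centralizer_singleton_iff.2 (mul_inv_eq_iff_eq_mul.1 (this.resolve_left (by simpa using h1)))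

theorem maxEA_eq (hA : A ∈ eaMax 2 T) : maxElemAbelianOrder T = Nat.card A := by
  have : (fun A : Subgroup T => Nat.card A) '' maxElementaryAbelianSubgroups 2 T = {Nat.card A} := by
    have e := PLocal.image_subtype_eaMax (p := 2) T
    refine Set.eq_singleton_iff_unique_mem.2 ⟨?_, ?_⟩
    · obtain ⟨B, hB, rfl⟩ := e.ge hA
      exact ⟨B, hB, (card_map_subtype B).symm⟩
    · rintro _ ⟨B, hB, rfl⟩
      exact (card_map_subtype B).symm.trans (PLocal.maxFam_card_eq (e.le ⟨B, hB, rfl⟩) hA)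
  rw [maxElemAbelianOrder, this, csSup_singleton]

/-- What is used of `T ∈ 𝒯*(M)`. -/
structure MX (M T : Subgroup G) : Prop where
  pg : IsPGroup 2 T
  ne : T ≠ ⊥
  le : T ≤ M
  str : ∃ L, IsTwoLocal L ∧ T ≤ L ∧ ¬ L ≤ M
  max : ∀ X L : Subgroup G, IsPGroup 2 X → X ≤ M → IsTwoLocal L → X ≤ L → ¬ L ≤ M → J2 T ≤ X →
    J2 X = J2 T ∧ Nat.card X ≤ Nat.card T
  nJ : normalizer (J2 T : Set G) ≤ M

theorem nJ_of_syl (hS : SylIn 2 S ⊤) (hMJ : normalizer (J2 S : Set G) ≤ M) (hX : SylIn 2 X M) :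
    SylIn 2 X ⊤ ∧ normalizer (J2 X : Set G) ≤ M := by
  obtain ⟨g, hg, rfl⟩ := (hS.mono (le_normalizer.trans ((normalizer_le_J2 S).trans hMJ)) le_top).exists_conj hX
  exact ⟨hS.conj_of_mem trivial, by rw [J2, ← PLocal.cj_J, ← cj_normalizer]; exact cj_le_of_mem hg hMJ⟩

theorem mx_of (hT : T ∈ maxStraddlingTwoSubgroups M) (hS : SylIn 2 S ⊤) (hMJ : normalizer (J2 S : Set G) ≤ M) :
    MX M T := by
  obtain ⟨⟨h1, h2, h3, h4⟩, h5⟩ := hT
  have hJ := PLocal.J_ne_bot_of_isPGroup h1 h2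
  have hm : ∀ X L : Subgroup G, IsPGroup 2 X → X ≤ M → IsTwoLocal L → X ≤ L → ¬ L ≤ M → J2 T ≤ X →
      J2 X = J2 T ∧ Nat.card X ≤ Nat.card T := fun X L a1 a2 a3 a4 a5 a6 => by
    obtain ⟨b1, b2⟩ := h5 X ⟨a1, fun e => hJ (le_bot_iff.1 (a6.trans e.le)), a2, L, a3, a4, a5⟩
    obtain ⟨A, hA⟩ := PLocal.eaMax_nonempty 2 T
    obtain ⟨B, hB⟩ := PLocal.eaMax_nonempty 2 X
    rw [maxEA_eq hA, maxEA_eq hB] at b1 b2
    obtain ⟨b3, b4⟩ := b2 (le_antisymm b1 (hB.2.2 A ((PLocal.le_J hA).trans a6) hA.2.1))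
    have e : J2 T = J2 X := eq_of_le_of_card_ge (PLocal.J_le_iff.2 fun C hC => PLocal.le_J (PLocal.mem_maxFam_of_card
      hB ((PLocal.le_J hC).trans a6) hC.2.1 (b1.trans (PLocal.maxFam_card_eq hA hC).le))) b3
    exact ⟨e.symm, b4 (by rw [← J2, ← J2, e])⟩
  refine ⟨h1, h2, h3, h4, hm, ?_⟩
  by_contra hn
  obtain ⟨X, hX, hle⟩ := exists_sylIn_ge h3 h1
  have nT := normalizer_le_J2 T
  have e : T = X := eq_of_inf_normalizer_le hX.pg hle (eq_of_le_of_card_ge (le_inf hle le_normalizer) (hm _ _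
    (hX.pg.to_le inf_le_left) (inf_le_left.trans hX.le) ⟨_, h1.to_le (PLocal.J_le _ _), hJ, rfl⟩
    (inf_le_right.trans nT) hn ((PLocal.J_le _ _).trans (le_inf hle le_normalizer))).2).ge
  exact hn (e ▸ (nJ_of_syl hS hMJ hX).2)

theorem mx_syl (hS : SylIn 2 S ⊤) (h0 : S ≠ ⊥) (hMJ : normalizer (J2 S : Set G) ≤ M)
    (h : ∃ L, IsTwoLocal L ∧ S ≤ L ∧ ¬ L ≤ M) : MX M S :=
  ⟨hS.pg, h0, le_normalizer.trans ((normalizer_le_J2 S).trans hMJ), h, fun _ _ a1 _ _ _ _ a6 =>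
    ⟨J_eq_of_sylIn hS le_top a1 a6, card_le_of_isPGroup hS le_top a1⟩, hMJ⟩

theorem exists_maxStraddling (h : (straddlingTwoSubgroups M).Nonempty) : ∃ T, T ∈ maxStraddlingTwoSubgroups M := by
  obtain ⟨T, h1, h2⟩ := Set.exists_max_image _ (fun T : Subgroup G => toLex (maxElemAbelianOrder T,
    toLex (Nat.card (J2 T), Nat.card T))) (Set.toFinite _) h
  refine ⟨T, h1, fun X hX => ?_⟩
  have := h2 X hX
  simp only [Prod.Lex.toLex_le_toLex] at this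
  simp only [J2] at this
  omega

namespace MX
variable (m : MX M T)
include m

theorem pJ : IsPGroup 2 (J2 T) := m.pg.to_le (PLocal.J_le _ _)

theorem syl (hL : IsTwoLocal L) (hn : ¬ L ≤ M) (hX : SylIn 2 X L) (hJ : J2 T ≤ X) :
    X ≤ M ∧ J2 X = J2 T ∧ Nat.card X ≤ Nat.card T := by
  have h1 := m.max (X ⊓ M) L (hX.pg.to_le inf_le_left) inf_le_right hL (inf_le_left.trans hX.le) hn
    (le_inf hJ ((PLocal.J_le _ _).trans m.le))
  have e : X ⊓ M = X := eq_of_inf_normalizer_le hX.pg inf_le_left (inf_le_inf_left _ ((normalizer_le_J2 _).trans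
    (h1.1 ▸ m.nJ)))
  rw [e] at h1
  exact ⟨inf_eq_left.1 e, h1⟩

theorem sylIn (hL : IsTwoLocal L) (hn : ¬ L ≤ M) (hT : T ≤ L) : SylIn 2 T L := by
  obtain ⟨X, hX, hle⟩ := exists_sylIn_ge hT m.pg
  rwa [eq_of_le_of_card_ge hle (m.syl hL hn hX ((PLocal.J_le _ _).trans hle)).2.2]

theorem notJ (hL : IsTwoLocal L) (hn : ¬ L ≤ M) (hX : SylIn 2 X L) (hJ : J2 T ≤ X) : ¬ J2 X ≤ pCoreOf 2 L :=
  fun e => hn ((le_normalizer_pCoreOf 2 L).trans ((normalizer_le_J2 _).trans (by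
    rw [J2, PLocal.J_eq_of_le hX.pCoreOf_le e, ← J2, (m.syl hL hn hX hJ).2.1]; exact m.nJ)))

theorem jc0 (j : JC (J2 T) K) (hn : ¬ K ≤ M) : JC0 (J2 T) K :=
  ⟨j, m.pJ, fun _ hle hS => (m.syl ⟨_, isPGroup_of_isElementaryAbelian (ea_wOf K), j.W_ne_bot, rfl⟩
    (fun e => hn (j.KW.trans e)) hS hle).2.1⟩

end MX

theorem ZN.exists_K (h : ZN G) (m : MX M T) : ∃ K, JC0 (J2 T) K ∧ ¬ K ≤ M ∧ pCoreOf 2 (K ⊔ T) ≠ ⊥ := by
  obtain ⟨L, hL, hT, hn⟩ := m.str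
  have hS := m.sylIn hL hn hT
  obtain ⟨K, hK, j, hKM⟩ := h.gen (h.cc hL) hS m.nJ hn
  exact ⟨K, m.jc0 j hKM, hKM, fun e => twoLocal_ne_bot hL (le_bot_iff.1 ((pCoreOf_le_pCoreOf_of_le (sup_le hK hT)
    (hS.pCoreOf_le.trans le_sup_right)).trans e.le))⟩

/-- `L` is the unique maximal `2`-local containing `K J(T)`. -/
structure UL (T K L : Subgroup G) : Prop where
  jc : JC0 (J2 T) K
  loc : IsTwoLocal L
  le : K ≤ L
  syl : SylIn 2 T L
  uniq : ∀ X, IsTwoLocal X → K ⊔ J2 T ≤ X → X ≤ L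

open Pointwise in
theorem ZN.exists_ul (h : ZN G) (m : MX M T) (j : JC0 (J2 T) K) (hn : ¬ K ≤ M) (h0 : pCoreOf 2 (K ⊔ T) ≠ ⊥) :
    ∃ L, UL T K L := by
  have key : ∀ V, IsTwoLocal V → K ⊔ J2 T ≤ V → ∃ X, SylIn 2 X V ∧ J2 X = J2 T := fun V hV hle =>
    let ⟨X, hX, h1⟩ := exists_sylIn_ge (le_sup_right.trans hle) m.pJ
    ⟨X, hX, (m.syl hV (fun e => hn (le_sup_left.trans (hle.trans e))) hX h1).2.1⟩
  obtain ⟨L, ⟨hL, hle⟩, hu⟩ := S0540.result K {L | IsTwoLocal L ∧ K ⊔ J2 T ≤ L}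
    ⟨_, ⟨_, isPGroup_of_isElementaryAbelian (ea_wOf K), j.W_ne_bot, rfl⟩, j.nW⟩
    (fun V => {B | (∃ g : G, B = MulAut.conj g • K) ∧ SubnIn B V}) (fun _ _ => Iff.rfl)
    (fun V hV => by
      obtain ⟨X, hX, e⟩ := key V hV.1 hV.2
      exact ⟨⟨1, by simp⟩, h.subnIn (h.cc hV.1) hX (e ▸ j.toJC) (le_sup_left.trans hV.2)⟩)
    (fun V hV W hW B hB hBV => by
      obtain ⟨X, hX, e⟩ := key V hV.1 hV.2
      obtain ⟨⟨g, rfl⟩, hs⟩ := hB
      exact ⟨⟨g, rfl⟩, h.subnIn (h.cc hV.1) hX (h.jc_of_subnIn hX hBV (hs.restrict le_sup_left (sup_le hs.le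
        (e ▸ le_sup_right.trans hW.2))) (e ▸ j.conj g)) hBV⟩)
    (fun V hV W hW => by
      obtain ⟨X, hX, e⟩ := key V hV.1 hV.2
      obtain ⟨Y, hY, e'⟩ := key W hW.1 hW.2
      have s1 := h.subnIn (h.cc hV.1) hX (e ▸ j.toJC) (le_sup_left.trans hV.2)
      have s2 := h.subnIn (h.cc hW.1) hY (e' ▸ j.toJC) (le_sup_left.trans hW.2)
      set D := sSup ({B | (∃ g : G, B = MulAut.conj g • K) ∧ SubnIn B V} ∩
        {B | (∃ g : G, B = MulAut.conj g • K) ∧ SubnIn B W}) with hD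
      have KD : K ≤ D := le_sSup ⟨⟨⟨1, by simp⟩, s1⟩, ⟨⟨1, by simp⟩, s2⟩⟩
      have n1 := normalizer_le_normalizer_pCoreOf 2 D
      refine ⟨_, ⟨twoLocal_core fun e0 => j.W_ne_bot (le_bot_iff.1 ((wOf_le_Q K).trans ((pCoreOf_le_of_subnIn
        (s1.restrict KD (sSup_le fun B hB => hB.1.2.le))).trans e0.le))), le_trans (sup_le (KD.trans Subgroup.le_normalizer)
          (Sig.le_normalizer_sSup fun g hg B hB => le_sSup ?_)) n1⟩, n1⟩
      obtain ⟨⟨⟨a, rfl⟩, b1⟩, -, b2⟩ := hB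
      have e1 : ∃ b : G, cj g (MulAut.conj a • K) = MulAut.conj b • K := ⟨g * a, cj_cj _ _ _⟩
      exact ⟨⟨e1, subnIn_cj_of_mem_normalizer b1 (Subgroup.le_normalizer (hV.2 (mem_sup_right hg)))⟩, e1,
        subnIn_cj_of_mem_normalizer b2 (Subgroup.le_normalizer (hW.2 (mem_sup_right hg)))⟩)
  have hK := le_sup_left.trans hle
  refine ⟨L, j, hL, hK, m.sylIn hL (fun e => hn (hK.trans e)) (le_sup_right.trans ((le_normalizer_pCoreOf 2 _).trans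
    (hu _ ⟨twoLocal_core h0, (sup_le_sup_left (PLocal.J_le _ _) _).trans (le_normalizer_pCoreOf 2 _)⟩))),
    fun X h1 h2 => hu X ⟨h1, h2⟩⟩

namespace UL
variable (u : UL T K L)
include u

theorem KJ : K ⊔ J2 T ≤ L := sup_le u.le ((PLocal.J_le _ _).trans u.syl.le)

theorem maxl : IsMaximalTwoLocal L := ⟨u.loc, fun X h1 h2 => le_antisymm (u.uniq X h1 (u.KJ.trans h2)) h2⟩

theorem eq_of_max (h : IsMaximalTwoLocal X) (h1 : K ⊔ J2 T ≤ X) : X = L := (h.2 L u.loc (u.uniq X h.1 h1)).symm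

theorem eq (u' : UL T' K' L') (h : K' ⊔ J2 T' ≤ L) : L = L' := u'.eq_of_max u.maxl h

theorem conj (g : G) : UL (cj g T) (cj g K) (cj g L) :=
  ⟨by rw [J2, ← PLocal.cj_J]; exact u.jc.conj g, twoLocal_cj u.loc g, cj_mono g u.le, u.syl.conj g, fun X h1 h2 => by
    rw [J2, ← PLocal.cj_J, ← cj_sup, cj_le_iff] at h2
    exact le_cj_iff.2 (u.uniq _ (twoLocal_cj h1 _) h2)⟩

theorem norm_core : normalizer (pCoreOf 2 L : Set G) = L :=
  u.maxl.2 _ (twoLocal_core (twoLocal_ne_bot u.loc)) (le_normalizer_pCoreOf _ _)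

theorem norm_le : normalizer (L : Set G) ≤ L := (normalizer_le_normalizer_pCoreOf 2 L).trans u.norm_core.le

theorem ne_bot : T ≠ ⊥ := fun e => twoLocal_ne_bot u.loc (le_bot_iff.1 (u.syl.pCoreOf_le.trans e.le))

theorem KJ_cent (hx : x ∈ OZ (J2 T) ⊓ centralizer (K : Set G)) : K ⊔ J2 T ≤ centralizer ({x} : Set G) := by
  rw [← centralizer_zpowers, le_centralizer_iff, centralizer_sup', zpowers_le]
  exact ⟨hx.2, OZ_le_cent _ hx.1⟩

theorem cent_le (hx : x ∈ OZ (J2 T) ⊓ centralizer (K : Set G)) (h1 : x ≠ 1) : centralizer ({x} : Set G) ≤ L :=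
  u.uniq _ (twoLocal_cent h1 (sq_OZ hx.1)) (u.KJ_cent hx)

theorem eq_of_mem (u' : UL T' K' L') (hx : x ∈ OZ (J2 T) ⊓ centralizer (K : Set G))
    (hx' : x ∈ OZ (J2 T') ⊓ centralizer (K' : Set G)) (h1 : x ≠ 1) : L = L' :=
  u.eq u' ((u'.KJ_cent hx').trans (u.cent_le hx h1))

theorem card_Z : Nat.card (OZ (J2 T)) = 2 * Nat.card (OZ (J2 T) ⊓ centralizer (K : Set G) : Subgroup G) := by
  obtain ⟨-, h1, h2⟩ := u.jc.zz u.jc.pg
  conv_lhs => rw [← h2]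
  rw [Solv.card_sup_of_disjoint (le_normalizer_of_le_centralizer (inf_le_left.trans ((OZ_le _).trans
    ((le_cent_OZ _).trans (centralizer_anti inf_le_left))))) (le_bot_iff.1 (le_trans (le_inf (inf_le_right.trans
      inf_le_right) (inf_le_left.trans inf_le_right)) u.jc.infW.le)), h1, mul_comm]

theorem eq_of_big (u' : UL T' K' L') (e : J2 T' = J2 T) (h : 4 < Nat.card (OZ (J2 T))) : L = L' := by
  have h1 := u.card_Z
  have h2 := u'.card_Z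
  rw [e] at h2
  by_contra hne
  have h3 := card_mul_card_le (OZ (J2 T) ⊓ centralizer (K : Set G)) (OZ (J2 T) ⊓ centralizer (K' : Set G))
  have h4 : OZ (J2 T) ⊓ centralizer (K : Set G) ⊓ (OZ (J2 T) ⊓ centralizer (K' : Set G)) = ⊥ :=
    eq_bot_iff.2 fun x hx => mem_bot.2 (by_contra fun h5 => hne (u.eq_of_mem u' hx.1 (e ▸ hx.2) h5))
  have h5 := card_le_of_le (sup_le (inf_le_left (b := centralizer (K : Set G)))
    (inf_le_left (a := OZ (J2 T)) (b := centralizer (K' : Set G))))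
  rw [h4, card_bot] at h3
  nlinarith

end UL

end Cfsg.Agent.Loc
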