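import Cfsg.Agent.Loc.JC5

/-! `J(T)`-components, part 6 (Kurzweil–Stellmacher 12.3): `Ω₁(Z(J(T)))` and the amalgam. -/

set_option linter.unusedSectionVars false

namespace Cfsg.Agent.Loc
open Subgroup Cfsg
open Cfsg.Agent.Sig (SubnIn ppIn)
open Cfsg.Agent.PLocal (mu cent eaMax)
open scoped commutatorElement

variable {G : Type*} [Group G] [Finite G] {J K K' T T' A B D H L L' M P Q S U V W X Y : Subgroup G}
  {g t t' x y z : G}

/-- A technical hypothesis (shown later to hold always). -/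
def HU (T L : Subgroup G) : Prop :=
  SylIn 2 T ⊤ → normalizer (J2 T : Set G) ≤ L → ∃ X, IsTwoLocal X ∧ T ≤ X ∧ ¬ X ≤ L

theorem ZN.other (h : ZN G) (u : UL T K L) (hu : HU T L) (hS : SylIn 2 T ⊤) (hJ : normalizer (J2 T : Set G) ≤ L) :
    ∃ K' L', UL T K' L' ∧ L ≠ L' := by
  have m := mx_syl hS u.ne_bot hJ (hu hS hJ)
  obtain ⟨K', j, h1, h2⟩ := h.exists_K m
  obtain ⟨L', u'⟩ := h.exists_ul m j h1 h2
  exact ⟨K', L', u', fun e => h1 (u'.le.trans e.ge)⟩

theorem UL.sylTop (u : UL T K L) (h : normalizer (T : Set G) ≤ L) : SylIn 2 T ⊤ :=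
  sylIn_of_sylIn_normalizer (u.syl.mono (le_inf le_top le_normalizer) (inf_le_right.trans h))

theorem conj_mem_Z1 (hx : x ∈ OZ (J2 T) ⊓ centralizer (K : Set G)) (g : G) :
    g * x * g⁻¹ ∈ OZ (J2 (cj g T)) ⊓ centralizer ((cj g K : Subgroup G) : Set G) := by
  rw [J2, ← PLocal.cj_J, ← cj_OZ, ← cj_centralizer, ← cj_inf]; exact conj_mem_cj hx

theorem UL.exists_x (u : UL T K L) (h : Nat.card (OZ (J2 T)) = 4) :
    ∃ x ∈ OZ (J2 T) ⊓ centralizer (K : Set G), x ≠ 1 := by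
  have := u.card_Z
  exact (bot_or_exists_ne_one _).resolve_left fun e => by rw [e, card_bot] at this; omega

namespace ZN
variable (h : ZN G) (u : UL T K L)
include h u

theorem c4 (hu : HU T L) : Nat.card (OZ (J2 T)) ≤ 4 := by
  by_contra hc
  have h1 : normalizer (J2 T : Set G) ≤ L := fun g hg => u.norm_le (mem_normalizer_iff_cj.2 (u.eq_of_big (u.conj g)
    (by rw [J2, ← PLocal.cj_J, cj_eq_of_mem_normalizer hg]) (not_le.1 hc)).symm)
  obtain ⟨K', L', u', e⟩ := h.other u hu (u.sylTop ((normalizer_le_J2 T).trans h1)) h1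
  exact e (u.eq_of_big u' rfl (not_le.1 hc))

theorem ne_of (hS : SylIn 2 S ⊤) (hz : OZ S = zpowers z) (hx : x ∈ OZ (J2 T) ⊓ centralizer (K : Set G)) :
    x ≠ z := by
  rintro rfl
  have h1 := (u.KJ_cent hx).trans (((centralizer_zpowers x).ge.trans (hz ▸ le_rfl)).trans (h.hz' hS))
  exact u.jc.not_le_of_pg hS.pg (le_sup_left.trans h1) (hS.le_of_normalizes le_top u.jc.pg (le_sup_right.trans h1))

theorem OZ_le_of (hTS : T ≤ S) : OZ S ≤ OZ (J2 T) := ((h.cc u.loc).OZ_le u.syl hTS).trans (OZ_le_OZ_J T)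

theorem tri (hu : HU T L) (hS : SylIn 2 S ⊤) (hTS : T ≤ S) :
    (OZ S = OZ (J2 T) ∧ Nat.card (OZ (J2 T)) = 2) ∨ (OZ S = OZ (J2 T) ∧ Nat.card (OZ (J2 T)) = 4 ∧ T = S) ∨
      (OZ T = OZ (J2 T) ∧ Nat.card (OZ (J2 T)) = 4 ∧ centralizer (OZ (J2 T) : Set G) ≤ L ∧
        (centralizer (OZ (J2 T) : Set G)).relIndex (normalizer (OZ (J2 T) : Set G)) = 2) := by
  have hle := h.OZ_le_of u hTS
  have h0 : OZ S ≠ ⊥ := omegaOne_center_ne_bot hS.pg fun e => u.ne_bot (le_bot_iff.1 (hTS.trans e.le))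
  have pZ := isPGroup_of_isElementaryAbelian (ea_OZ (J2 T))
  have c1 := mul_card_le_of_lt (pZ.to_le hle) (bot_lt_iff_ne_bot.2 h0)
  have c2 := h.c4 u hu
  have c3 := u.card_Z
  have c4 := card_le_of_le hle
  rw [card_bot] at c1
  by_cases e2 : Nat.card (OZ (J2 T)) = 2
  · exact Or.inl ⟨eq_of_le_of_card_ge hle (by omega), e2⟩
  have e4 : Nat.card (OZ (J2 T)) = 4 := by omega
  obtain ⟨x, hx, x1⟩ := u.exists_x e4
  have cx := u.cent_le hx x1
  have CL : centralizer (OZ (J2 T) : Set G) ≤ L :=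
    (centralizer_anti (zpowers_le.2 hx.1)).trans ((centralizer_zpowers x).le.trans cx)
  refine Or.inr ?_
  by_cases e : OZ S = OZ (J2 T)
  · exact Or.inl ⟨e, e4, (u.syl.max S ((le_cent_OZ S).trans (e ▸ CL)) hS.pg hTS).symm⟩
  refine Or.inr ?_
  have c5 := mul_card_le_of_lt pZ (lt_of_le_of_ne hle e)
  obtain ⟨z, hz, z1⟩ := (bot_or_exists_ne_one _).resolve_left h0
  have ez : OZ S = zpowers z := eq_zpowers_of_card (p := 2) (by omega) hz z1
  have k4 := isKleinFour_of_ea (ea_OZ (J2 T)) e4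
  have nc : ∀ g, g * x * g⁻¹ ≠ z := fun g => h.ne_of (u.conj g) hS ez (conj_mem_Z1 hx g)
  have zx : z ≠ x := fun e => nc 1 (by simp [e])
  have p3 := Invol.threePt_four k4 (hle hz) hx.1 z1 x1 zx
  have nZ := (normalizer_le_J2 T).trans (normalizer_le_OZ _)
  obtain ⟨s, hs, sT, sC, sT'⟩ : ∃ s ∈ S, s ∈ normalizer (T : Set G) ∧ s ∉ centralizer (OZ (J2 T) : Set G) ∧
      (T ≠ S → s ∉ L) := by
    by_cases eT : T = S
    · by_contra hc
      push Not at hc
      refine e (le_antisymm hle (le_OZ ((OZ_le _).trans ((PLocal.J_le _ _).trans hTS)) (le_centralizer_iff.1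
        fun s hs => ?_) fun _ => sq_OZ))
      by_contra h1
      exact (hc s hs (Subgroup.le_normalizer (eT.ge hs)) h1).1 eT
    · obtain ⟨s, hs, h1⟩ := SetLike.exists_of_lt (lt_inf_normalizer hS.pg (lt_of_le_of_ne hTS eT))
      have h2 : s ∉ L := fun h2 => h1 (u.syl.le_of_normalizes (Q := S ⊓ normalizer (T : Set G) ⊓ L) inf_le_right
        (hS.pg.to_le (inf_le_left.trans inf_le_left)) (inf_le_left.trans inf_le_right) ⟨hs, h2⟩)
      exact ⟨s, hs.1, hs.2, fun h3 => h2 (CL h3), fun _ => h2⟩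
  have sz : s * z * s⁻¹ = z := by rw [← OZ_le_cent S hz s hs |>.symm, mul_inv_cancel_right]
  have sx : s * x * s⁻¹ ≠ x := fun h1 => sC ((p3.ker s (nZ sT)).2 ⟨sz, h1⟩)
  have sx' : s * x * s⁻¹ = z * x := ((p3.mb s (nZ sT)).resolve_left (nc s)).resolve_left sx
  have fz : ∀ n ∈ normalizer (OZ (J2 T) : Set G), n * z * n⁻¹ = z := fun n hn => by
    rcases p3.ma n hn with h1 | h1 | h1
    · exact h1
    · exact absurd (by rw [← show n * z * n⁻¹ = x from h1]; group) (nc n⁻¹)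
    · exact absurd (by
        calc n⁻¹ * s * x * (n⁻¹ * s)⁻¹ = n⁻¹ * (s * x * s⁻¹) * n := by group
          _ = z := by rw [sx', ← show n * z * n⁻¹ = z * x from h1]; group) (nc (n⁻¹ * s))
  have i2 := p3.eq_two fz (nZ sT) sx
  by_cases eT : T = S
  · subst eT
    have NL : normalizer (J2 T : Set G) ≤ L := fun n hn => by
      have hn' := normalizer_le_OZ _ hn
      by_cases h1 : n ∈ centralizer (OZ (J2 T) : Set G)
      · exact CL h1
      · exact (L.mul_mem_cancel_right (u.syl.le hs)).1 (CL (mul_mem_of_idx2 i2 hn' (nZ sT) h1 sC))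
    obtain ⟨K', L', u', ne⟩ := h.other u hu hS NL
    obtain ⟨y, hy, y1⟩ := u'.exists_x e4
    rcases (Invol.mem_four_iff k4 (hle hz) hx.1 z1 x1 zx y).1 hy.1 with h1 | h1 | h1 | h1
    · exact absurd h1 y1
    · exact absurd h1 (h.ne_of u' hS ez hy)
    · exact absurd (u.eq_of_mem u' (h1 ▸ hx) hy y1) ne
    · exact absurd ((cj_eq_of_mem (u.syl.le hs)).symm.trans ((u.conj s).eq_of_mem u'
        (h1 ▸ sx' ▸ conj_mem_Z1 hx s) hy y1)) ne
  · refine ⟨le_antisymm (OZ_le_OZ_J T) (le_OZ ((OZ_le _).trans (PLocal.J_le _ _)) (le_centralizer_iff.1 fun t ht => ?_)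
      fun _ => sq_OZ), e4, CL, i2⟩
    by_contra h1
    exact sT' eT ((L.mul_mem_cancel_left (u.syl.le ht)).1 (CL (mul_mem_of_idx2 i2 (nZ (Subgroup.le_normalizer ht))
      (nZ sT) h1 sC)))

theorem OZ_eq (hu : HU T L) : OZ T = OZ (J2 T) := by
  obtain ⟨S, hS, hle⟩ := exists_sylIn_ge le_top u.syl.pg
  have := fun e : OZ S = OZ (J2 T) => le_antisymm (OZ_le_OZ_J T) (e.ge.trans ((h.cc u.loc).OZ_le u.syl hle))
  rcases h.tri u hu hS hle with e | e | e
  exacts [this e.1, this e.1, e.1]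

end ZN

/-- The conclusion of the analysis of `Ω₁(Z(J(T)))`. -/
structure GD (T K L : Subgroup G) : Prop extends UL T K L where
  oz : OZ T = OZ (J2 T)

theorem GD.conj (u : GD T K L) (g : G) : GD (cj g T) (cj g K) (cj g L) :=
  ⟨u.toUL.conj g, by rw [J2, ← PLocal.cj_J, ← cj_OZ, ← cj_OZ, u.oz]⟩

theorem GD.not_cent (u : GD T K L) : ¬ K ≤ centralizer (OZ T : Set G) := fun e => by
  have := (u.jc.zz u.jc.pg).2.1
  rw [← u.oz, le_bot_iff.1 ((le_inf inf_le_right (inf_le_left.trans (le_centralizer_iff.1 e))).trans u.jc.infW.le),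
    card_bot] at this
  omega

namespace ZN
variable (h : ZN G)
include h

theorem nK (u : GD T K L) : T ≤ normalizer (K : Set G) :=
  h.le_normalizer (h.cc u.loc) u.syl u.jc.toJC u.le fun e => by
    have := (u.jc.zz u.jc.pg).2.1
    rw [← u.oz, le_bot_iff.1 ((inf_le_inf_right _ (OZ_le_cent T)).trans e.le), card_bot] at this
    omega

theorem Q_le (u : UL T K L) : pCoreOf 2 K ≤ pCoreOf 2 L :=
  pCoreOf_le_of_subnIn (h.subnIn (h.cc u.loc) u.syl u.jc.toJC u.le)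

theorem ccP (u : UL T K L) : CC (K ⊔ T) :=
  have := pCoreOf_le_pCoreOf_of_le (sup_le u.le u.syl.le) (u.syl.pCoreOf_le.trans le_sup_right)
  (centralizer_anti this).trans ((h.cc u.loc).trans this)

theorem l3 (u : GD T K L) : L3 T (K ⊔ T) :=
  ⟨u.jc.s3 u.syl.pg (PLocal.J_le _ _) ((h.Q_le u.toUL).trans u.syl.pCoreOf_le) (h.nK u), (h.ccP u.toUL).chP,
    fun e => u.not_cent (le_sup_left.trans e)⟩

theorem pair (u : UL T K L) (hu : HU T L) : ∃ K' L', GD T K' L' ∧ L ≠ L' := by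
  have u1 : GD T K L := ⟨u, h.OZ_eq u hu⟩
  by_cases hn : normalizer (T : Set G) ≤ L
  · have hS := u.sylTop hn
    have h2 := (normalizer_le_normalizer_centralizer (OZ T)).trans (normalizer_le_normalizer_pCoreOf 2 _)
    rw [← (hS.mono (le_cent_OZ T) le_top).eq_pCoreOf_of_normal (h.hz' hS), u1.oz] at h2
    obtain ⟨K', L', u', ne⟩ := h.other u hu hS ((normalizer_le_OZ _).trans (h2.trans hn))
    exact ⟨K', L', ⟨u', u1.oz⟩, ne⟩
  · obtain ⟨g, hg, h1⟩ := SetLike.not_le_iff_exists.1 hn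
    have := u1.conj g
    rw [cj_eq_of_mem_normalizer hg] at this
    exact ⟨_, _, this, fun e => h1 (u.norm_le (mem_normalizer_iff_cj.2 e.symm))⟩

end ZN

theorem UL.eq_bot (u : UL T K L) (u' : UL T K' L') (ne : L ≠ L') (hX : IsPGroup 2 X)
    (h1 : K ⊔ T ≤ normalizer (X : Set G)) (h2 : K' ⊔ T ≤ normalizer (X : Set G)) : X = ⊥ := by
  by_contra h0
  exact ne (u.eq u' ((sup_le_sup_left (PLocal.J_le _ _) _).trans (h2.trans (u.uniq _ ⟨X, hX, h0, rfl⟩
    ((sup_le_sup_left (PLocal.J_le _ _) _).trans h1)))))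

theorem ZN.small (h : ZN G) (u : GD T K L) (u' : GD T K' L') (ne : L ≠ L') : Small (K ⊔ T) ∧ K ⊔ T = L := by
  have hs := (Loc.small (h.l3 u) (h.l3 u') fun N hN => u.toUL.eq_bot u'.toUL ne (u.syl.pg.to_le hN)).1
  have j := u.jc.toJC
  have cc := h.cc u.loc
  have PL := sup_le u.le u.syl.le
  have q1 := pCoreOf_le_pCoreOf_of_le PL (u.syl.pCoreOf_le.trans le_sup_right)
  have eQ : pCoreOf 2 (K ⊔ T) = pCoreOf 2 L :=
    le_antisymm ((isElementaryAbelian_iff.1 hs.1).1.trans ((centralizer_anti q1).trans cc)) q1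
  have c8 := hs.2.1
  rw [eQ] at c8
  have WQ := (wOf_le_Q K).trans (h.Q_le u.toUL)
  have nK : L ≤ normalizer (K : Set G) := fun g hg => h.mem_normalizer cc u.syl j u.le hg fun e => by
    have h1 := card_mul_card_le (wOf K) (cj g (wOf K))
    have h2 := card_le_of_le (sup_le WQ (cj_le_of_mem_normalizer (le_normalizer_pCoreOf 2 L hg) WQ))
    rw [e, card_bot, card_cj, j.cW] at h1
    omega
  have nW := nK.trans (normalizer_le_wOf K)
  have i2 : ⁅pCoreOf 2 L, L⁆ ≤ wOf K := by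
    have h1 := Solv.card_mul_relIndex WQ
    rw [j.cW] at h1
    by_cases h2 : (wOf K).relIndex (pCoreOf 2 L) = 2
    · exact comm_le_of_idx2 h2 nW (le_normalizer_pCoreOf _ _)
    · have h3 := Nat.card_pos (α := pCoreOf 2 L)
      exact (commutator_le_left_of_le_normalizer (le_normalizer_pCoreOf _ _)).trans (relIndex_eq_one.1 (by omega))
  have pC : IsPGroup 2 (L ⊓ centralizer (wOf K : Set G) : Subgroup G) := cc.chP.isPGroup inf_le_left
    (pResidualOf_le_centralizer_of_le (isPGroup_pCoreOf _ _) ((pResidualOf_le _ _).trans (inf_le_left.trans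
      (le_normalizer_pCoreOf _ _))) ((commutator_mono le_rfl ((pResidualOf_le _ _).trans inf_le_left)).trans i2)
      ((pResidualOf_le _ _).trans inf_le_right))
  refine ⟨hs, eq_of_le_of_card_ge PL ?_⟩
  rw [(h.l3 u).card, eQ, ← Solv.card_mul_relIndex (pCoreOf_le 2 L), j.idx6 u.jc.pg u.KJ nW pC, mul_comm]

end Cfsg.Agent.Loc
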