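import Cfsg.Agent.Loc.JC6
import Cfsg.Agent.S2947

/-! `J(T)`-components, part 7: removing the technical hypothesis `HU`. -/

set_option linter.unusedSectionVars false

namespace Cfsg.Agent.Loc
open Subgroup Cfsg
open Cfsg.Agent.Sig (SubnIn ppIn)
open Cfsg.Agent.PLocal (mu cent eaMax)
open scoped commutatorElement

variable {G : Type*} [Group G] [Finite G] {J K K' T T' A B D H L L' M P Q R S U V W X Y : Subgroup G}
  {g t t' x y z : G}

/-- `T = QR` with `Q, R` self-centralizing elementary abelian of index `2`. -/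
structure TwoEA (T Q R : Subgroup G) : Prop where
  l1 : Q ≤ T
  l2 : R ≤ T
  i1 : Q.relIndex T = 2
  i2 : R.relIndex T = 2
  e1 : IsElementaryAbelian 2 Q
  e2 : IsElementaryAbelian 2 R
  c1 : centralizer (Q : Set G) ≤ Q
  c2 : centralizer (R : Set G) ≤ R
  ne : Q ≠ R

namespace TwoEA
variable (h : TwoEA T Q R)
include h

theorem symm : TwoEA T R Q := ⟨h.l2, h.l1, h.i2, h.i1, h.e2, h.e1, h.c2, h.c1, h.ne.symm⟩

theorem card1 : Nat.card Q * 2 = Nat.card T := h.i1 ▸ Solv.card_mul_relIndex h.l1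

theorem not_le : ¬ R ≤ Q := fun e => h.ne (eq_of_le_of_card_ge e (by have := h.card1; have := h.symm.card1; omega)).symm

theorem sup_eq : Q ⊔ R = T := sup_eq_of_relIndex_prime Nat.prime_two h.i1 h.l1 h.l2 h.not_le

theorem inf_le : Q ⊓ R ≤ centralizer (T : Set G) := by
  rw [← h.sup_eq, centralizer_sup']
  exact inf_le_inf (isElementaryAbelian_iff.1 h.e1).1 (isElementaryAbelian_iff.1 h.e2).1

theorem mem_or (hx : x ∈ T) (h2 : x * x = 1) : x ∈ Q ∨ x ∈ R := by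
  by_contra hc
  rw [not_or] at hc
  obtain ⟨q, hq, hq'⟩ := SetLike.not_le_iff_exists.1 h.not_le
  have s1 := fun a (ha : a ∈ Q) => (pow_two a).symm.trans ((isElementaryAbelian_iff.1 h.e1).2 a ha)
  have s2 := fun a (ha : a ∈ R) => (pow_two a).symm.trans ((isElementaryAbelian_iff.1 h.e2).2 a ha)
  have hr := mul_mem_of_idx2 h.i1 hx (h.l2 hq) hc.1 hq'
  have c : Commute (x * q) q := Invol.commute_of_mul_sq (s1 _ hr) (s2 q hq) (by
    rw [Invol.mul_self_cancel' (s2 q hq), h2])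
  refine hc.2 ((R.mul_mem_cancel_right hq).1 (h.c2 fun y hy => ?_))
  have c1 := (isElementaryAbelian_iff.1 h.e1).1 hr
  by_cases h1 : y ∈ Q
  · exact c1 y h1
  · have := c1 _ (mul_mem_of_idx2 h.i1 (h.l2 hy) (h.l2 hq) h1 hq')
    rw [mul_assoc, ← c.eq, ← mul_assoc, ← mul_assoc (x * q)] at this
    exact mul_right_cancel this

theorem le_or (hX : X ≤ T) (he : IsElementaryAbelian 2 X) : X ≤ Q ∨ X ≤ R := by
  by_contra hc
  rw [not_or, SetLike.not_le_iff_exists, SetLike.not_le_iff_exists] at hc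
  obtain ⟨⟨a, ha, a1⟩, b, hb, b1⟩ := hc
  have s := fun a (ha : a ∈ X) => h.mem_or (hX ha) ((pow_two a).symm.trans ((isElementaryAbelian_iff.1 he).2 a ha))
  rcases s _ (mul_mem ha hb) with e | e
  · exact a1 ((Q.mul_mem_cancel_right ((s b hb).resolve_right b1)).1 e)
  · exact b1 ((R.mul_mem_cancel_left ((s a ha).resolve_left a1)).1 e)

end TwoEA

theorem ZN.twoEA (h : ZN G) (u : GD T K L) (u' : GD T K' L') (ne : L ≠ L') :
    TwoEA T (pCoreOf 2 L) (pCoreOf 2 L') := by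
  obtain ⟨s1, e1⟩ := h.small u u' ne
  obtain ⟨s2, e2⟩ := h.small u' u ne.symm
  have a1 := h.l3 u
  have a2 := h.l3 u'
  rw [e1] at s1 a1
  rw [e2] at s2 a2
  exact ⟨a1.Qle, a2.Qle, a1.idx2, a2.idx2, s1.1, s2.1, h.cc u.loc, h.cc u'.loc, fun e => ne (by
    rw [← u.norm_core, e, u'.norm_core])⟩

theorem ZN.W_le (h : ZN G) (u : UL T K L) : wOf K ≤ sylowCenterClosure 2 L := by
  have s := h.ls (h.cc u.loc)
  obtain ⟨_, _, _, _, k⟩ := s.cp u.syl u.jc.toJC u.le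
  exact (u.jc.W_eq s k).ge.trans (s.W_le k)

theorem ZN.exists_mx (h : ZN G) (hO : pCore 2 G = ⊥) (hS : SylIn 2 S ⊤) (hM : IsTwoLocal M)
    (hJ : normalizer (J2 S : Set G) ≤ M) (hn : ¬ IsStronglyEmbedded M) : ∃ T, MX M T :=
  let ⟨T, hT⟩ := exists_maxStraddling (Set.nonempty_iff_ne_empty.2 fun e =>
    hn ((S2947.result h.ch h.sol h.hz hO hS.toSylowTop M hM hJ).2 e))
  ⟨T, mx_of hT hS hJ⟩

theorem ZN.hu (h : ZN G) (hO : pCore 2 G = ⊥) (u : UL T K L) : HU T L := by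
  intro hS hJ
  by_contra hc
  push Not at hc
  obtain ⟨T', m⟩ := h.exists_mx hO hS u.loc hJ fun se => by
    obtain ⟨z, hz, z2⟩ := Invol.exists_invol_mem_of_isPGroup (isPGroup_pCoreOf 2 L) (twoLocal_ne_bot u.loc)
    refine u.jc.not_le_of_pg (isPGroup_pCoreOf 2 L) (u.le.trans (le_normalizer_pCoreOf _ _))
      (PLocal.J_le_iff.2 fun A hA a ha => ?_)
    by_cases a1 : a = 1
    · exact a1 ▸ one_mem _
    obtain ⟨g, rfl⟩ := isConj_iff.1 (Invol.SE.isConj se z2 (orderOf_eq_prime_of_pow a1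
      ((isElementaryAbelian_iff.1 hA.2.1).2 a ha)))
    exact conj_mem_of_mem_normalizer (le_normalizer_pCoreOf _ _ (Invol.SE.mem_of_conj se (pCoreOf_le _ _ hz) z2
      (u.syl.le (hA.1 ha)))) hz
  obtain ⟨S, hS1, hle⟩ := exists_sylIn_ge m.le m.pg
  have hS2 := (nJ_of_syl hS hJ hS1).1
  have ns : ¬ SylIn 2 T' ⊤ := fun e => by
    obtain ⟨g, hg, rfl⟩ := u.syl.exists_conj (e.mono m.le le_top)
    obtain ⟨X, h1, h2, h3⟩ := m.str
    exact h3 (by simpa only [cj_cj_inv] using cj_le_of_mem hg (hc _ (twoLocal_cj h1 g⁻¹) (cj_le_iff.1 h2)))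
  obtain ⟨K₁, j, h1, h2⟩ := h.exists_K m
  obtain ⟨L₁, u₁⟩ := h.exists_ul m j h1 h2
  have hu : HU T' L₁ := fun e => absurd e ns
  have v₁ : GD T' K₁ L₁ := ⟨u₁, h.OZ_eq u₁ hu⟩
  have eT : T' ≠ S := fun e => ns (e ▸ hS2)
  obtain ⟨g, hg, g1⟩ := SetLike.exists_of_lt (lt_inf_normalizer hS2.pg (lt_of_le_of_ne hle eT))
  have g2 : g ∉ L₁ := fun h2 => g1 (u₁.syl.le_of_normalizes (Q := S ⊓ normalizer (T' : Set G) ⊓ L₁) inf_le_right
    (hS2.pg.to_le (inf_le_left.trans inf_le_left)) (inf_le_left.trans inf_le_right) ⟨hg, h2⟩)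
  have v₂ := v₁.conj g
  rw [cj_eq_of_mem_normalizer hg.2] at v₂
  have w := h.twoEA v₁ v₂ fun e => g2 (u₁.norm_le (mem_normalizer_iff_cj.2 e.symm))
  rw [← cj_pCoreOf] at w
  have s := h.ls (h.cc u.loc)
  set V := sylowCenterClosure 2 L
  have nV : S ≤ normalizer (V : Set G) := hS1.le.trans s.norm
  have VS : V ≤ S := s.VQ.trans hS1.pCoreOf_le
  have n1 : cj g (V ⊓ T') = V ⊓ T' := by
    rw [cj_inf, cj_eq_of_mem_normalizer (nV hg.1), cj_eq_of_mem_normalizer hg.2]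
  have a1 : V ⊓ T' ≤ pCoreOf 2 L₁ := by
    rcases w.le_or inf_le_right (isElementaryAbelian_of_le s.ea inf_le_left) with e | e
    · exact e
    · rwa [← n1, cj_le_cj_iff] at e
  have a2 : V ⊓ normalizer (T' : Set G) ≤ T' := u₁.syl.le_of_normalizes (le_trans (le_normalizer_of_commutator_le
    ((commutator_mono le_rfl w.l1).trans (le_trans (le_inf ((commutator_mono inf_le_left le_rfl).trans
      (commutator_le_left_of_le_normalizer (hle.trans nV))) ((commutator_mono inf_le_right le_rfl).trans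
        (commutator_le_right_of_le_normalizer le_rfl))) a1))) u₁.norm_core.le)
    (hS2.pg.to_le (inf_le_left.trans VS)) inf_le_right
  have a3 : V ≤ T' := le_sup_left.trans (eq_of_inf_normalizer_le (hS2.pg.to_le (sup_le VS hle)) le_sup_right (by
    rw [sup_inf_of_le_right (hle.trans nV) Subgroup.le_normalizer]; exact sup_le a2 le_rfl)).ge
  rw [inf_eq_left.2 a3] at a1 n1
  have a4 : wOf K ≤ OZ (J2 T') := (h.W_le u).trans ((le_OZ a3 ((le_inf a1 (n1.ge.trans (cj_mono g a1))).trans w.inf_le)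
    (isElementaryAbelian_iff.1 s.ea).2).trans (OZ_le_OZ_J _))
  have a5 := card_le_of_le a4
  rw [u.jc.cW] at a5
  rcases h.tri u₁ hu hS2 hle with e | e | e
  · omega
  · exact eT e.2.2
  · have := relIndex_cent_dvd u.jc.KW le_rfl
    rw [u.jc.idxK, eq_of_le_of_card_ge a4 (by rw [u.jc.cW, e.2.1]), e.2.2.2] at this
    omega

theorem ZN.gd (h : ZN G) (hO : pCore 2 G = ⊥) (u : UL T K L) : GD T K L := ⟨u, h.OZ_eq u (h.hu hO u)⟩

theorem ZN.exists_pair (h : ZN G) (hO : pCore 2 G = ⊥) (m : MX M T) :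
    ∃ K L K' L', GD T K L ∧ GD T K' L' ∧ L ≠ L' := by
  obtain ⟨K, j, h1, h2⟩ := h.exists_K m
  obtain ⟨L, u⟩ := h.exists_ul m j h1 h2
  obtain ⟨K', L', u', ne⟩ := h.pair u (h.hu hO u)
  exact ⟨K, L, K', L', h.gd hO u, u', ne⟩

end Cfsg.Agent.Loc
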