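import Cfsg.Agent.Loc.JC7
import Cfsg.Agent.Loc.TT

/-! `J(T)`-components, part 8: the transfer argument ending Kurzweil–Stellmacher Chapter 12. -/

set_option linter.unusedSectionVars false

namespace Cfsg.Agent.Loc
open Subgroup Cfsg
open Cfsg.Agent.PLocal (eaMax)
open scoped commutatorElement

variable {G : Type*} [Group G] [Finite G] {J K K' T T' A B D H L L' M P Q R S U V W X Y : Subgroup G}
  {g s t t' x y z : G}

theorem transfer_gen (hS : SylIn 2 S ⊤) (hU : U ≤ S) (hn : S ≤ normalizer (U : Set G)) (hs : s ∈ S)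
    (hg : S ≤ U ⊔ zpowers s) (hy : y * y = 1) (hyS : y ∈ S) (hyU : y ∉ U) (hG : y ∈ commutator G)
    (hR : IsPGroup 2 R) (hRy : R ≤ centralizer ({y} : Set G)) : ∃ g : G, g * y * g⁻¹ ∈ U ∧ cj g R ≤ S := by
  haveI := normal_subgroupOf_of_le_normalizer hn
  refine thompson_transfer_cyclic (Nat.odd_iff.2 (Nat.two_dvd_ne_zero.1 (relIndex_top_right S ▸ hS.not_dvd_relIndex)))
    ⟨⟨QuotientGroup.mk ⟨s, hs⟩, fun q => ?_⟩⟩ hy hyS hyU hU hG hR hRy
  obtain ⟨a, rfl⟩ := QuotientGroup.mk_surjective q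
  obtain ⟨_, ⟨k, rfl⟩, u, hu, e⟩ := (mem_sup_of_le_normalizer_right ((zpowers_le.2 hs).trans hn)).1
    ((hg.trans (sup_comm _ _).le) a.2)
  refine ⟨k, (QuotientGroup.mk_zpow _ _ _).symm.trans (QuotientGroup.eq.2 (mem_subgroupOf.2 ?_))⟩
  simpa [← e] using hu

theorem mem_commutator_of_mem_pResidual (hx : x ∈ pResidual 2 G) (h2 : x * x = 1) : x ∈ commutator G := by
  have h1 : pResidual 2 (pResidual 2 G) = ⊤ := by
    rw [← pResidualOf_subgroupOf, ← pResidualOf_top, pResidualOf_pResidualOf, subgroupOf_self]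
  have := Invol.mem_commutator_of_no_index_two (Invol.pResidual_two_eq_top_iff.1 h1) (g := ⟨x, hx⟩) (k := 1)
    (Subtype.ext ((pow_two x).trans h2))
  exact ((map_commutator _ _ _).le.trans (commutator_mono le_top le_top)) (mem_map_of_mem (Subgroup.subtype _) this)

namespace TwoEA
variable (h : TwoEA T Q R)
include h

theorem card_eq : Nat.card R = Nat.card Q := by have := h.card1; have := h.symm.card1; omega

theorem OZ_eq : OZ T = Q ⊓ R :=
  le_antisymm (le_inf ((OZ_le_cent T).trans ((centralizer_anti h.l1).trans h.c1)) ((OZ_le_cent T).trans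
    ((centralizer_anti h.l2).trans h.c2))) (le_OZ (inf_le_left.trans h.l1) h.inf_le
      fun x hx => (isElementaryAbelian_iff.1 h.e1).2 x hx.1)

theorem n1 : T ≤ normalizer (Q : Set G) := le_normalizer_of_idx2 h.i1 h.l1

theorem card_inf : Nat.card (Q ⊓ R : Subgroup G) * 2 = Nat.card Q := by
  have h1 := Solv.card_sup_mul_card_inf (h.l2.trans h.n1)
  rw [h.sup_eq, ← h.card1, h.card_eq, mul_assoc] at h1
  rw [mul_comm]; exact Nat.eq_of_mul_eq_mul_left Nat.card_pos h1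

theorem eq_or (hX : X ≤ T) (he : IsElementaryAbelian 2 X) (hc : Nat.card Q ≤ Nat.card X) : X = Q ∨ X = R :=
  (h.le_or hX he).imp (eq_of_le_of_card_ge · hc) (eq_of_le_of_card_ge · (h.card_eq.trans_le hc))

theorem cj_or (hg : g ∈ normalizer (T : Set G)) : (cj g Q = Q ∧ cj g R = R) ∨ (cj g Q = R ∧ cj g R = Q) := by
  have h1 := h.eq_or (cj_le_of_mem_normalizer hg h.l1) (isElementaryAbelian_map _ h.e1) (card_cj g Q).ge
  have h2 := h.eq_or (cj_le_of_mem_normalizer hg h.l2) (isElementaryAbelian_map _ h.e2)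
    (h.card_eq.ge.trans (card_cj g R).ge)
  have h3 : cj g Q ≠ cj g R := fun e => h.ne (cj_injective g e)
  rcases h1 with a | a <;> rcases h2 with b | b
  exacts [absurd (a.trans b.symm) h3, Or.inl ⟨a, b⟩, Or.inr ⟨a, b⟩, absurd (a.trans b.symm) h3]

theorem mem_eaMax : Q ∈ eaMax 2 T := ⟨h.l1, h.e1, fun _ h1 h2 =>
  (h.le_or h1 h2).elim card_le_of_le fun e => (card_le_of_le e).trans h.card_eq.le⟩

theorem J_eq : J2 T = T :=
  le_antisymm (PLocal.J_le _ _) (h.sup_eq.ge.trans (sup_le (PLocal.le_J h.mem_eaMax) (PLocal.le_J h.symm.mem_eaMax)))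

theorem comm_ne_bot : ⁅Q, R⁆ ≠ ⊥ := fun e => h.not_le ((commutator_eq_bot_iff'.1 e).trans h.c1)

theorem J_le (hT : T ≤ S) (hS : S ≤ normalizer (T : Set G)) (h1 : ∀ g ∈ S, cj g Q = Q → g ∈ T)
    (h2 : T.relIndex S ≤ 2) (h3 : centralizer (OZ T : Set G) ≤ T) : J2 S ≤ T := by
  refine PLocal.J_le_iff.2 fun A hA a ha => ?_
  by_contra hn
  obtain ⟨e1, e2⟩ := (h.cj_or (hS (hA.1 ha))).resolve_left fun e => hn (h1 a (hA.1 ha) e.1)
  have ab := (isElementaryAbelian_iff.1 hA.2.1).1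
  have e3 : cj a (T ⊓ A) = T ⊓ A := cj_eq_of_mem_centralizer (centralizer_anti inf_le_right (ab ha))
  have h4 : T ⊓ A ≤ Q ⊓ R := by
    rcases h.le_or inf_le_left (isElementaryAbelian_of_le hA.2.1 inf_le_right) with e | e
    · exact le_inf e (e3.ge.trans ((cj_mono a e).trans e1.le))
    · exact le_inf (e3.ge.trans ((cj_mono a e).trans e2.le)) e
  have h5 := Solv.card_inf_mul_relIndex T A
  have h6 := (relIndex_le_of_le_right hA.1 (index_ne_zero_of_finite (H := T.subgroupOf S))).trans h2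
  have h7 := hA.2.2 Q (h.l1.trans hT) h.e1
  have h8 := h.card_inf
  have h9 := eq_of_le_of_card_ge h4 (by nlinarith)
  exact hn (h3 (by rw [h.OZ_eq, ← h9]; exact centralizer_anti inf_le_right (ab ha)))

end TwoEA

/-- The amalgam of two maximal `2`-locals. -/
structure AM (T K L K' L' : Subgroup G) : Prop where
  zn : ZN G
  o2 : pCore 2 G = ⊥
  u : GD T K L
  v : GD T K' L'
  ne : L ≠ L'

namespace AM
variable (h : AM T K L K' L')
include h

theorem symm : AM T K' L' K L := ⟨h.zn, h.o2, h.v, h.u, h.ne.symm⟩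

theorem eqL : K ⊔ T = L := (h.zn.small h.u h.v h.ne).2

theorem l3 : L3 T L := h.eqL ▸ h.zn.l3 h.u

theorem sm : Small L := h.eqL ▸ (h.zn.small h.u h.v h.ne).1

theorem two : TwoEA T (pCoreOf 2 L) (pCoreOf 2 L') := h.zn.twoEA h.u h.v h.ne

theorem res : pResidualOf 2 L = K := h.eqL ▸ h.u.jc.res_sup h.u.syl.pg (h.zn.nK h.u)

theorem nW : L ≤ normalizer (wOf K : Set G) :=
  (h.res ▸ le_normalizer_pResidualOf 2 L : L ≤ normalizer (K : Set G)).trans (normalizer_le_wOf K)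

theorem normW : normalizer (wOf K : Set G) = L :=
  h.u.maxl.2 _ ⟨_, isPGroup_of_isElementaryAbelian (ea_wOf K), h.u.jc.W_ne_bot, rfl⟩ h.nW

theorem WQ : wOf K ≤ pCoreOf 2 L := (wOf_le_Q K).trans (h.zn.Q_le h.u.toUL)

theorem WT : wOf K ≤ T := h.WQ.trans h.two.l1

theorem inf_eq : L ⊓ L' = T := (eq_or_eq_of_relIndex_prime Nat.prime_three h.l3.idx (le_inf h.u.syl.le h.v.syl.le)
  inf_le_left).resolve_right fun e => h.ne (h.u.maxl.2 _ h.v.loc (inf_eq_left.1 e)).symm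

theorem cardWZ : Nat.card (OZ T ⊓ wOf K : Subgroup G) = 2 := h.u.oz ▸ (h.u.jc.zz h.u.jc.pg).2.1

theorem W_not_le : ¬ wOf K' ≤ pCoreOf 2 L := fun e => by
  have := h.symm.cardWZ
  rw [h.two.OZ_eq, inf_eq_right.2 (le_inf e h.symm.WQ), h.v.jc.cW] at this
  omega

theorem cj_W {K₁ L₁ : Subgroup G} (h' : AM T K₁ L₁ K' L' ∨ AM T K₁ L₁ K L) (e : cj g (pCoreOf 2 L) = pCoreOf 2 L₁) :
    cj g (wOf K) = wOf K₁ := by
  have u : normalizer (pCoreOf 2 L₁ : Set G) = L₁ ∧ pResidualOf 2 L₁ = K₁ :=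
    h'.elim (fun a => ⟨a.u.norm_core, a.res⟩) fun a => ⟨a.u.norm_core, a.res⟩
  rw [cj_wOf, ← h.res, cj_pResidualOf, ← h.u.norm_core, cj_normalizer, e, u.1, u.2]

theorem nD : normalizer (T : Set G) ≤ normalizer ((wOf K ⊔ wOf K' : Subgroup G) : Set G) := fun g hg => by
  rw [mem_normalizer_iff_cj, cj_sup]
  rcases h.two.cj_or hg with e | e
  · rw [h.cj_W (Or.inl h) e.1, h.symm.cj_W (Or.inl h.symm) e.2]
  · rw [h.cj_W (Or.inr h.symm) e.1, h.symm.cj_W (Or.inr h) e.2, sup_comm]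

theorem idxW (h8 : Nat.card (pCoreOf 2 L) = 8) : (wOf K).relIndex (pCoreOf 2 L) = 2 := by
  have := Solv.card_mul_relIndex h.WQ
  rw [h.u.jc.cW] at this
  omega

theorem ZW (h8 : Nat.card (pCoreOf 2 L) = 8) : OZ T ⊓ wOf K = ⁅pCoreOf 2 L, pCoreOf 2 L'⁆ :=
  ((eq_bot_or_eq_of_card h.cardWZ (le_inf (h.two.OZ_eq ▸ commutator_le_inf_of_normalizes (h.two.l1.trans
    h.two.symm.n1) (h.two.l2.trans h.two.n1)) (comm_le_of_idx2 (h.idxW h8) (h.two.l2.trans (h.u.syl.le.trans h.nW))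
      (h.two.l2.trans h.two.n1)))).resolve_left h.two.comm_ne_bot).symm

theorem W_inf (h8 : Nat.card (pCoreOf 2 L) = 8) : wOf K' ⊓ pCoreOf 2 L = OZ T ⊓ wOf K := by
  rw [h.ZW h8, Subgroup.commutator_comm, ← h.symm.ZW (h.two.card_eq.trans h8), h.two.OZ_eq]
  exact le_antisymm (le_inf (le_inf inf_le_right (inf_le_left.trans h.symm.WQ)) inf_le_left)
    (le_inf inf_le_right (inf_le_left.trans inf_le_left))

theorem D_inf (h8 : Nat.card (pCoreOf 2 L) = 8) : (wOf K ⊔ wOf K') ⊓ pCoreOf 2 L = wOf K := by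
  rw [sup_inf_of_le_left (h.symm.WT.trans (h.u.syl.le.trans h.nW)) h.WQ, h.W_inf h8, sup_eq_left.2 inf_le_right]

theorem idxD (h8 : Nat.card (pCoreOf 2 L) = 8) : (wOf K ⊔ wOf K').relIndex T = 2 := by
  have h1 := Solv.card_sup_mul_card_inf (h.symm.WT.trans (h.u.syl.le.trans h.nW))
  have h2 := Solv.card_mul_relIndex (sup_le h.WT h.symm.WT)
  have h3 := h.two.card1
  have e : wOf K ⊓ wOf K' = OZ T ⊓ wOf K := le_antisymm (h.W_inf h8 ▸ le_inf inf_le_right (inf_le_left.trans h.WQ))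
    (le_inf inf_le_right ((h.W_inf h8).ge.trans inf_le_left))
  rw [e, h.cardWZ, h.u.jc.cW, h.v.jc.cW] at h1
  rw [show Nat.card (wOf K ⊔ wOf K' : Subgroup G) = 8 by omega] at h2
  omega

theorem syl (h8 : Nat.card (pCoreOf 2 L) = 8) (hS : SylIn 2 S ⊤) (hle : T ≤ S) :
    S ≤ normalizer (T : Set G) ∧ T.relIndex S ≤ 2 ∧ J2 S ≤ T := by
  have c := h.two.card_inf
  rw [← h.two.OZ_eq, h.u.oz] at c
  rcases h.zn.tri h.u.toUL (h.zn.hu h.o2 h.u.toUL) hS hle with e | e | e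
  · omega
  · rw [← e.2.2]; exact ⟨le_normalizer, by simp, PLocal.J_le _ _⟩
  have e' : centralizer (OZ (J2 T) : Set G) ≤ L' := by
    rcases h.zn.tri h.v.toUL (h.zn.hu h.o2 h.v.toUL) hS hle with e' | e' | e'
    · omega
    · obtain ⟨x, hx, x1⟩ := h.v.exists_x e'.2.1
      exact (centralizer_anti (zpowers_le.2 hx.1)).trans ((centralizer_zpowers x).le.trans (h.v.cent_le hx x1))
    · exact e'.2.2.1
  rw [← h.u.oz] at e e'
  have eC : centralizer (OZ T : Set G) = T := le_antisymm ((le_inf e.2.2.1 e').trans h.inf_eq.le) (le_cent_OZ T)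
  have i2 : T.relIndex (S ⊓ normalizer (T : Set G)) ≤ 2 := by
    rw [← e.2.2.2, eC]
    exact relIndex_le_of_le_right (inf_le_right.trans (normalizer_le_OZ T)) index_ne_zero_of_finite
  have j := h.two.J_le (le_inf hle le_normalizer) inf_le_right (fun g hg e1 => h.l3.mem_of_mem_normalizer
    (h.u.norm_core.le (mem_normalizer_iff_cj.2 e1)) hg.2) i2 eC.le
  have e1 : S ⊓ normalizer (T : Set G) = S := eq_of_inf_normalizer_le hS.pg inf_le_left (inf_le_inf_left _
    ((normalizer_le_J2 _).trans (by rw [J2, ← PLocal.J_eq_of_le (le_inf hle le_normalizer) j, ← J2, h.two.J_eq])))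
  rw [e1] at i2 j
  exact ⟨inf_eq_left.1 e1, i2, j⟩

theorem not_mem (h8 : Nat.card (pCoreOf 2 L) = 8) (hx : x ∈ OZ T) (hD : x ∉ wOf K ⊔ wOf K') : x ∉ commutator G := by
  intro hG
  obtain ⟨S, hS, hle⟩ := exists_sylIn_ge le_top h.u.syl.pg
  obtain ⟨n, i2, j⟩ := h.syl h8 hS hle
  set D := wOf K ⊔ wOf K'
  have DT : D ≤ T := sup_le h.WT h.symm.WT
  have iD := h.idxD h8
  have nD := n.trans h.nD
  have xT := OZ_le T hx
  have x2 := (pow_two x).symm.trans (sq_OZ hx)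
  have gen : ∀ y ∈ T, y ∉ D → T ≤ D ⊔ zpowers y := fun y hy h1 => (sup_eq_of_relIndex_prime Nat.prime_two iD DT
    (zpowers_le.2 hy) fun e => h1 (e (mem_zpowers y))).ge
  obtain ⟨U, s, h1, h2, h3, h4, h5⟩ : ∃ U s, U ≤ S ∧ S ≤ normalizer ((U : Subgroup G) : Set G) ∧ s ∈ S ∧
      S ≤ U ⊔ zpowers s ∧ U ⊓ T ≤ D := by
    by_cases e : S ≤ T
    · exact ⟨D, x, DT.trans hle, nD, hle xT, e.trans (gen x xT hD), inf_le_left⟩
    obtain ⟨s, hs, s1⟩ := SetLike.not_le_iff_exists.1 e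
    have i3 : T.relIndex S = 2 := by
      have := mt relIndex_eq_one.1 e
      have := index_ne_zero_of_finite (H := T.subgroupOf S)
      rw [relIndex] at *
      omega
    have gS := (sup_eq_of_relIndex_prime Nat.prime_two i3 hle (zpowers_le.2 hs) fun e => s1 (e (mem_zpowers s))).ge
    by_cases e2 : s * s ∈ D
    · have g2 : S ≤ (D ⊔ zpowers s) ⊔ zpowers x :=
        gS.trans (sup_le ((gen x xT hD).trans (sup_le_sup_right le_sup_left _)) (le_sup_right.trans le_sup_left))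
      refine ⟨D ⊔ zpowers s, x, sup_le (DT.trans hle) (zpowers_le.2 hs), g2.trans (sup_le le_normalizer (zpowers_le.2
        (mem_normalizer_of_cj_le ?_))), hle xT, g2, fun a ha => ?_⟩
      · rw [cj_sup, cj_eq_of_mem_normalizer (nD (hle xT)), cj_zpowers]
        refine sup_le le_sup_left (zpowers_le.2 ?_)
        rw [show x * s * x⁻¹ = x * (s * x⁻¹ * s⁻¹) * s by group]
        exact mul_mem (mem_sup_left (mul_mem_of_idx2 iD xT (conj_mem_of_mem_normalizer (n hs) (inv_mem xT)) hD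
          fun e => hD (by simpa [mul_assoc] using inv_mem (conj_inv_mem_of_mem_normalizer (nD hs) e))))
          (mem_sup_right (mem_zpowers s))
      · obtain ⟨d, hd, _, ⟨k, rfl⟩, rfl⟩ := (mem_sup_of_le_normalizer_left ((zpowers_le.2 hs).trans nD)).1 ha.1
        refine mul_mem hd ?_
        have h6 := (T.mul_mem_cancel_left (DT hd)).1 ha.2
        have h7 : ∀ m : ℤ, s ^ (2 * m) ∈ D := fun m => by rw [zpow_mul, zpow_two]; exact zpow_mem e2 m
        rcases Int.even_or_odd' k with ⟨m, rfl | rfl⟩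
        · exact h7 m
        · exact absurd ((T.mul_mem_cancel_left (DT (h7 m))).1 (by simpa only [zpow_add_one] using h6)) s1
    · exact ⟨D, s, DT.trans hle, nD, hs, gS.trans (sup_le ((gen _ (mul_mem_of_idx2 i3 hs hs s1 s1) e2).trans
        (sup_le_sup_left (zpowers_le.2 (mul_mem (mem_zpowers s) (mem_zpowers s))) _)) le_sup_right), inf_le_left⟩
  obtain ⟨g, g1, g2⟩ := transfer_gen hS h1 h2 h3 h4 x2 (hle xT) (fun e => hD (h5 ⟨e, xT⟩)) hG h.u.syl.pg
    ((le_cent_OZ T).trans ((centralizer_anti (zpowers_le.2 hx)).trans (centralizer_zpowers x).le))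
  have e := PLocal.eaMax_eq_of_le hle j
  have key : ∀ Q ∈ eaMax 2 T, cj g Q ≤ T := fun Q hQ => (PLocal.le_J (PLocal.mem_maxFam_of_card (e.le hQ)
    ((cj_mono g hQ.1).trans g2) (isElementaryAbelian_map _ hQ.2.1) (card_cj g Q).ge)).trans j
  have g3 : g ∈ normalizer (T : Set G) := mem_normalizer_of_cj_le (by
    conv_lhs => rw [← h.two.sup_eq, cj_sup]
    exact sup_le (key _ h.two.mem_eaMax) (key _ h.two.symm.mem_eaMax))
  exact hD (by simpa [mul_assoc] using (conj_inv_mem_of_mem_normalizer (h.nD g3)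
    (h5 ⟨g1, conj_mem_of_mem_normalizer g3 xT⟩)))

theorem K_le : K ≤ pResidual 2 G := h.u.jc.res.ge.trans (pResidualOf_le_pResidual _ _)

theorem Q_inf : pCoreOf 2 L ⊓ pResidual 2 G = wOf K := by
  have h1 : wOf K ≤ pCoreOf 2 L ⊓ pResidual 2 G := le_inf h.WQ ((wOf_le K).trans h.K_le)
  by_cases h8 : Nat.card (pCoreOf 2 L) = 8
  · refine (eq_or_eq_of_relIndex_prime Nat.prime_two (h.idxW h8) h1 inf_le_left).resolve_right fun e => ?_
    have c := h.two.card_inf
    rw [← h.two.OZ_eq, h.u.oz] at c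
    obtain ⟨x, hx, x1⟩ := h.u.exists_x (by omega)
    rw [← h.u.oz] at hx
    have xQ := (h.two.OZ_eq.le hx.1).1
    exact h.not_mem h8 hx.1 (fun e => x1 (h.u.jc.infW.le ⟨(h.D_inf h8).le ⟨e, xQ⟩, hx.2⟩))
      (mem_commutator_of_mem_pResidual (e.ge xQ).2 ((pow_two x).symm.trans (sq_OZ hx.1)))
  · refine le_antisymm (inf_le_left.trans (eq_of_le_of_card_ge h.WQ ?_).ge) h1
    have := card_dvd_of_le h.WQ
    have := h.sm.2.1
    rw [h.u.jc.cW] at *
    omega

theorem core : pCoreOf 2 (L ⊓ pResidual 2 G : Subgroup G) = wOf K := by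
  rw [pCoreOf_eq_inf_of_normal inf_le_left (le_normalizer_inf le_normalizer (Subgroup.le_normalizer_of_normal)),
    ← inf_assoc, inf_eq_left.2 (pCoreOf_le _ _), h.Q_inf]

theorem s3 : S3 (T ⊓ pResidual 2 G) (L ⊓ pResidual 2 G) := by
  refine s3_of_relIndex (h.u.syl.inf_normal Subgroup.le_normalizer_of_normal) ?_
  have e : L ⊓ pResidual 2 G ⊔ pCoreOf 2 L = L := le_antisymm (sup_le inf_le_left (pCoreOf_le _ _))
    (h.eqL.ge.trans (sup_le ((le_inf h.u.le h.K_le).trans le_sup_left) ((h.l3.supQ h.symm.WT h.W_not_le).ge.trans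
      (sup_le le_sup_right ((le_inf (h.symm.WT.trans h.u.syl.le) ((wOf_le _).trans h.symm.K_le)).trans le_sup_left)))))
  have e2 : pCoreOf 2 L ⊓ pResidual 2 G = pCoreOf 2 L ⊓ (L ⊓ pResidual 2 G) := by
    rw [← inf_assoc, inf_eq_left.2 (pCoreOf_le _ _)]
  rw [h.core, ← h.Q_inf, e2, inf_relIndex_right, ← Solv.relIndex_sup_of_le_normalizer (inf_le_left.trans
    (le_normalizer_pCoreOf _ _)), e, ← relIndex_mul_relIndex _ _ _ h.l3.Qle h.l3.syl.le, h.l3.idx, h.l3.idx2]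

theorem iso : Nonempty (L.subgroupOf (pResidual 2 G) ≃* Equiv.Perm (Fin 4)) := by
  obtain ⟨t, t1, t2⟩ := SetLike.not_le_iff_exists.1 h.W_not_le
  have c := h.s3.card
  rw [h.core, h.u.jc.cW] at c
  rcases iso_of_small h.s3 (h.l3.ch.subnIn (Sig.SubnIn.of_normal inf_le_left (le_normalizer_inf le_normalizer
    Subgroup.le_normalizer_of_normal))) ⟨h.core ▸ ea_wOf K, by rw [h.core, h.u.jc.cW]; norm_num, t,
      ⟨h.u.syl.le (h.symm.WT t1), h.symm.K_le (wOf_le _ t1)⟩, fun e => t2 (h.WQ (h.core ▸ e)),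
      (pow_two t).symm.trans ((isElementaryAbelian_iff.1 (ea_wOf K')).2 t t1)⟩ with ⟨-, ⟨f⟩⟩ | e
  · rw [← inf_subgroupOf_right]; exact ⟨(subgroupOfEquivOfLe inf_le_right).trans f⟩
  · omega

theorem maxl : IsMaximalTwoLocal (L.subgroupOf (pResidual 2 G)) := by
  have WH := (wOf_le K).trans h.K_le
  have pW := isPGroup_of_isElementaryAbelian (ea_wOf K)
  have e := subgroupOf_normalizer_eq WH
  rw [h.normW] at e
  refine ⟨⟨_, isPGroup_subgroupOf pW _, fun e => h.u.jc.W_ne_bot (by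
    rw [← map_subgroupOf_eq_of_le WH, e, Subgroup.map_bot]), e⟩, ?_⟩
  rintro _ ⟨Y', hp, h0, rfl⟩ hle
  set Y := Y'.map (pResidual 2 G).subtype with hY
  have n1 : L ⊓ pResidual 2 G ≤ normalizer (Y : Set G) := by
    have := map_mono (f := (pResidual 2 G).subtype) hle
    rw [map_subtype_normalizer, subgroupOf_map_subtype] at this
    exact this.trans inf_le_left
  have WM : wOf K ≤ L ⊓ pResidual 2 G := le_inf ((wOf_le K).trans h.u.le) WH
  have pR : IsPGroup 2 (Y ⊔ wOf K : Subgroup G) := (hp.map _).to_sup_of_normal_left' pW (WM.trans n1)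
  have e1 := eq_of_inf_normalizer_le pR le_sup_right ((le_pCoreOf (le_inf (inf_le_right.trans h.normW.le)
    (inf_le_left.trans (sup_le (map_subtype_le _) WH))) (le_normalizer_inf (le_normalizer_sup n1
      (inf_le_left.trans h.nW)) (le_normalizer_normalizer (inf_le_left.trans h.nW))) (pR.to_le inf_le_left)).trans
    h.core.le)
  have e2 := (h.u.jc.irr (le_sup_left.trans e1.ge) ((le_inf h.u.le h.K_le).trans n1)).resolve_left fun e =>
    h0 ((map_eq_bot_iff_of_injective _ (subtype_injective _)).1 e)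
  rw [e, ← e2, hY, subgroupOf_map_subtype']

end AM

end Cfsg.Agent.Loc
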