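import Cfsg.Agent.Sig.FStar
import Cfsg.Agent.FG.Derange
import Cfsg.Agent.Solv.MinNormal
import Cfsg.Agent.Char.Burnside
import Cfsg.Agent.Loc.Conj

/-! Primitive groups: affine, almost simple, or two components; derangements in the layer. -/

set_option autoImplicit false

namespace Cfsg.Agent.Loc

open Subgroup Cfsg MulAction
open Cfsg.Agent.Sig
open scoped commutatorElement

variable {G Ω : Type*} [Group G] [Finite G] {T U K : Subgroup G} {x y g : G}

local notation "St" => stabilizer G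
local notation "EE" => layerIn (⊤ : Subgroup G)
local notation "Fit0" => fitIn (⊤ : Subgroup G) = ⊥

/-- Jordan: the conjugates of a proper subgroup do not cover. -/
theorem exists_not_conj_mem {P : Subgroup G} (hle : P ≤ T) (hne : P ≠ T) : ∃ t ∈ T, ∀ a ∈ T, a⁻¹ * t * a ∉ P := by
  by_contra hcon
  push Not at hcon
  have h := (FG.Der_spec (G := T) (Ω := T ⧸ P.subgroupOf T)).1
  have h0 : FG.Der T (T ⧸ P.subgroupOf T) = ⊥ := (closure_eq_bot_iff.2 fun t ht => by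
    obtain ⟨a, ha, h1⟩ := hcon t t.2
    exact absurd (QuotientGroup.eq.2 (by simpa [mem_subgroupOf, mul_assoc] using P.inv_mem h1))
      (ht ((⟨a, ha⟩ : T) : T ⧸ P.subgroupOf T)))
  refine hne (le_antisymm hle fun t ht => ?_)
  obtain ⟨⟨d, hd⟩, e⟩ := h.exists_smul_eq ((1 : T) : T ⧸ P.subgroupOf T) ((⟨t, ht⟩ : T) : T ⧸ P.subgroupOf T)
  obtain rfl : d = 1 := by rwa [h0] at hd
  simpa [mem_subgroupOf] using QuotientGroup.eq.1 (show (((1 : T) : T) : T ⧸ P.subgroupOf T) = _ from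
    (one_smul _ _).symm.trans e)

theorem comp_center (hF : Fit0) (hT : CompIn T ⊤) (hx : x ∈ T) (hc : x ∈ centralizer (T : Set G)) : x = 1 :=
  mem_bot.1 (hF ▸ center_le_fitIn hT.subnIn ⟨hx, hc⟩)

theorem comp_normal (hF : Fit0) (hT : CompIn T ⊤) (hle : K ≤ T) (hn : T ≤ normalizer (K : Set G)) :
    K = T ∨ K = ⊥ :=
  (qs_normal hT.qs hle hn).imp_right fun h => eq_bot_iff.2 fun _ hx => comp_center hF hT (hle hx) (h hx)

theorem comp_cent (hT : CompIn T ⊤) (hU : CompIn U ⊤) (hne : T ≠ U) : U ≤ centralizer (T : Set G) :=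
  commutator_eq_bot_iff_le_centralizer'.1 (hT.commutator_eq_bot_of_ne hU hne)

omit [Finite G] in
theorem comp_cj (hT : CompIn T ⊤) (g : G) : CompIn (cj g T) ⊤ := hT.conj (le_normalizer_of_normal (mem_top g))

theorem comp_eq_of_mem (hF : Fit0) (hT : CompIn T ⊤) (hU : CompIn U ⊤) (hx : x ∈ T) (hx' : x ∈ U) (h1 : x ≠ 1) :
    T = U := by_contra fun hne => h1 (comp_center hF hT hx (comp_cent hT hU hne hx'))

theorem layer_decomp (hT : CompIn T ⊤) (hx : x ∈ EE) :
    ∃ a ∈ T, ∃ c ∈ EE ⊓ centralizer (T : Set G), a * c = x := by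
  rw [hT.layerIn_eq_sup_centralizer] at hx
  exact (mem_sup_of_le_normalizer_left (inf_le_right.trans (le_normalizer_of_le_centralizer le_rfl))).1 hx

instance layerIn_top_normal : (EE).Normal := normal_of_top_le_normalizer (le_normalizer_layerIn le_normalizer)

theorem exists_three_primes (h : ¬ Group.IsSolvable T) : ∃ p q r : ℕ, p.Prime ∧ q.Prime ∧ r.Prime ∧
    p ≠ q ∧ p ≠ r ∧ q ≠ r ∧ (∃ x ∈ T, orderOf x = p) ∧ (∃ x ∈ T, orderOf x = q) ∧ ∃ x ∈ T, orderOf x = r := by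
  have h0 : Nat.card T ≠ 0 := Nat.card_pos.ne'
  have h3 : 2 < (Nat.card T).primeFactors.card := by
    by_contra hlt
    obtain ⟨p, q, hp, hq, hs⟩ : ∃ p q : ℕ, p.Prime ∧ q.Prime ∧ (Nat.card T).primeFactors ⊆ {p, q} := by
      rcases (by omega : (Nat.card T).primeFactors.card = 0 ∨ (Nat.card T).primeFactors.card = 1 ∨
        (Nat.card T).primeFactors.card = 2) with e | e | e
      · exact ⟨2, 2, Nat.prime_two, Nat.prime_two, by simp [Finset.card_eq_zero.1 e]⟩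
      · obtain ⟨p, e⟩ := Finset.card_eq_one.1 e
        have := Nat.prime_of_mem_primeFactors (e ▸ Finset.mem_singleton_self p)
        exact ⟨p, p, this, this, by simp [e]⟩
      · obtain ⟨p, q, -, e⟩ := Finset.card_eq_two.1 e
        exact ⟨p, q, Nat.prime_of_mem_primeFactors (e.ge (by simp)), Nat.prime_of_mem_primeFactors (e.ge (by simp)),
          e.le⟩
    refine h ?_
    by_cases e : p = q
    · subst e
      refine Char.isSolvable_of_card_eq_prime_pow_mul (a := (Nat.card T).factorization p) (b := 0) hp hp ?_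
      conv_lhs => rw [← Nat.prod_factorization_pow_eq_self h0]
      rw [Finsupp.prod_of_support_subset _ (s := {p}) (by simpa using hs) _ (by simp)]; simp
    · refine Char.isSolvable_of_card_eq_prime_pow_mul (a := (Nat.card T).factorization p)
        (b := (Nat.card T).factorization q) hp hq ?_
      conv_lhs => rw [← Nat.prod_factorization_pow_eq_self h0]
      rw [Finsupp.prod_of_support_subset _ (s := {p, q}) (by simpa using hs) _ (by simp), Finset.prod_pair e]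
  obtain ⟨p, hp, q, hq, r, hr, h1, h2, h3⟩ := Finset.two_lt_card.1 h3
  have ex : ∀ p ∈ (Nat.card T).primeFactors, ∃ x ∈ T, orderOf x = p := fun p hp => by
    have := Fact.mk (Nat.prime_of_mem_primeFactors hp)
    obtain ⟨x, hx⟩ := exists_prime_orderOf_dvd_card' p (Nat.dvd_of_mem_primeFactors hp)
    exact ⟨x, x.2, by rw [orderOf_coe, hx]⟩
  exact ⟨p, q, r, Nat.prime_of_mem_primeFactors hp, Nat.prime_of_mem_primeFactors hq,
    Nat.prime_of_mem_primeFactors hr, h1, h2, h3, ex p hp, ex q hq, ex r hr⟩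

/-- components of a product `x y` are determined up to order -/
theorem conj_pair (hF : Fit0) (hT : CompIn T ⊤) (hU : CompIn U ⊤) (hne : T ≠ U) {x' y' : G} (hx : x ∈ T) (hy : y ∈ U)
    (hx' : x' ∈ T) (hy' : y' ∈ U) (x1 : x ≠ 1) (e : g * (x * y) * g⁻¹ = x' * y') :
    (g * x * g⁻¹ = x' ∧ g * y * g⁻¹ = y') ∨ (g * x * g⁻¹ = y' ∧ g * y * g⁻¹ = x') := by
  have e' : g * x * g⁻¹ * (g * y * g⁻¹) = x' * y' := by rw [← e]; group
  have cT := comp_cj hT g
  have n1 : cj g T ≠ cj g U := fun h => hne (cj_injective g h)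
  have m1 := conj_mem_cj (g := g) hx
  have m2 := comp_cent cT (comp_cj hU g) n1 (conj_mem_cj (g := g) hy)
  have key : ∀ a ∈ cj g T, ∀ b ∈ centralizer (cj g T : Set G), a * b = x' * y' →
      g * x * g⁻¹ = a ∧ g * y * g⁻¹ = b := fun a ha b hb h => by
    have h1 : a⁻¹ * (g * x * g⁻¹) = b * (g * y * g⁻¹)⁻¹ := by
      rw [inv_mul_eq_iff_eq_mul, ← mul_assoc, h, ← e', mul_inv_cancel_right]
    have h2 := comp_center hF cT (mul_mem (inv_mem ha) m1) (h1 ▸ mul_mem hb (inv_mem m2))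
    exact ⟨(inv_mul_eq_one.1 h2).symm, (mul_inv_eq_one.1 (h1 ▸ h2)).symm⟩
  by_cases h1 : cj g T = T
  · exact .inl (key x' (h1.symm ▸ hx') y' (h1.symm ▸ comp_cent hT hU hne hy') rfl)
  by_cases h2 : cj g T = U
  · exact .inr (key y' (h2.symm ▸ hy') x' (h2.symm ▸ comp_cent hU hT hne.symm hx')
      (comp_cent hT hU hne hy' x' hx').symm)
  have := (key 1 (one_mem _) _ (mul_mem (comp_cent cT hT h1 hx') (comp_cent cT hU h2 hy')) (one_mul _)).1
  rw [mul_inv_eq_one, mul_eq_left] at this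
  exact absurd this x1

variable [MulAction G Ω] [FaithfulSMul G Ω] [IsPreprimitive G Ω]

theorem prim_tri [Nontrivial Ω] :
    (∃ (N : Subgroup G) (r : ℕ), r.Prime ∧ N.Normal ∧ N ≠ ⊥ ∧ IsElementaryAbelian r N ∧
      IsPretransitive N Ω ∧ ∀ a : Ω, stabilizer N a = ⊥) ∨
    (∃ T : Subgroup G, T.Normal ∧ IsSimpleGroup T ∧ ¬ IsMulCommutative T ∧ centralizer (T : Set G) = ⊥) ∨
    (Fit0 ∧ ∃ T U : Subgroup G, CompIn T ⊤ ∧ CompIn U ⊤ ∧ T ≠ U) := by
  by_cases hF : Fit0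
  swap
  · have nF : (fitIn (⊤ : Subgroup G)).Normal := normal_of_top_le_normalizer (le_normalizer_fitIn le_normalizer)
    have := isSolvable_fitIn (K := (⊤ : Subgroup G))
    obtain ⟨r, N, hr, nN, h0, -, hc, he, -⟩ := Solv.exists_normal_elementary_le _ hF
    have ht := Perm.isPretransitive_of_normal (α := Ω) N h0
    exact .inl ⟨N, r, hr, nN, h0, ⟨hc, he⟩, ht, fun a => (Perm.stabilizer_eq_bot_iff N a).2 fun h hh e =>
      Perm.eq_one_of_commute ht (fun k hk => Perm.mul_comm_of_isMulCommutative hc k hk h hh) e⟩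
  right
  have hE : fstarIn (⊤ : Subgroup G) = EE := by rw [fstarIn_eq, hF, sup_bot_eq]
  have h0 : EE ≠ ⊥ := fun h => by
    rw [← hE, fstarIn_eq_bot_iff] at h
    obtain ⟨a, b, hab⟩ := exists_pair_ne Ω
    obtain ⟨g, rfl⟩ := exists_smul_eq G a b
    exact hab (by rw [mem_bot.1 (h.le (mem_top g)), one_smul])
  rw [Ne, layerIn_eq_bot_iff] at h0
  push Not at h0
  obtain ⟨T, hT⟩ := h0
  by_cases h : ∃ U, CompIn U ⊤ ∧ T ≠ U
  · obtain ⟨U, hU, hne⟩ := h
    exact .inr ⟨hF, T, U, hT, hU, hne⟩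
  push Not at h
  have e : EE = T := le_antisymm (layerIn_le_iff.2 fun U hU => (h U hU).ge) hT.le_layerIn
  have hc : centralizer (T : Set G) = ⊥ := eq_bot_iff.2 fun x hx => comp_center hF hT
    (by have := inf_centralizer_fstarIn_le (⊤ : Subgroup G)
        rw [hE, e] at this; exact this ⟨mem_top _, hx⟩) hx
  refine .inl ⟨T, e ▸ layerIn_top_normal, qs_simple_of_center_eq_bot hT.qs ?_, qs_not_isMulCommutative hT.qs, hc⟩
  rw [← map_subtype_inj, map_subtype_center, hc, inf_bot_eq, Subgroup.map_bot]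

theorem layer_trans (hT : CompIn T ⊤) : IsPretransitive EE Ω :=
  Perm.isPretransitive_of_normal _ fun h => hT.ne_bot (le_bot_iff.1 (h ▸ hT.le_layerIn))

/-- if the point stabilizer in the layer projects onto `T` then `T` is semiregular -/
theorem comp_semireg (hF : Fit0) (hT : CompIn T ⊤) (α : Ω)
    (h : T ≤ (EE ⊓ St α) ⊔ (EE ⊓ centralizer (T : Set G))) (hx : x ∈ T) (ω : Ω) (e : x • ω = ω) : x = 1 := by
  have nT : EE ≤ normalizer (T : Set G) := hT.layerIn_le_normalizer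
  have tr := layer_trans (Ω := Ω) hT
  have key : ∀ x ∈ T, ∀ e : EE, x • (e : G) • α = (e : G) • α ↔ (e : G)⁻¹ * x * e ∈ St α := fun x hx e => by
    rw [mem_stabilizer_iff, mul_smul, mul_smul, inv_smul_eq_iff]
  rcases comp_normal hF hT (K := T ⊓ St α) inf_le_left (h.trans (sup_le (le_normalizer_inf (inf_le_left.trans nT)
    (inf_le_right.trans le_normalizer)) (le_normalizer_of_le_centralizer
      (inf_le_right.trans (centralizer_anti inf_le_left))))) with h1 | h1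
  · refine eq_of_smul_eq_smul (α := Ω) fun β => ?_
    obtain ⟨e, rfl⟩ := tr.exists_smul_eq α β
    rw [one_smul]
    exact (key x hx e).2 ((h1.ge (conj_inv_mem_of_mem_normalizer (nT e.2) hx)).2)
  · obtain ⟨e', rfl⟩ := tr.exists_smul_eq α ω
    have := mem_bot.1 (h1.le ⟨conj_inv_mem_of_mem_normalizer (nT e'.2) hx, (key x hx e').1 e⟩)
    rwa [mul_assoc, inv_mul_eq_one, right_eq_mul] at this

theorem der_dich (hF : Fit0) (hT : CompIn T ⊤) (α : Ω) :
    (∀ t ∈ T, t ≠ 1 → ∀ ω : Ω, t • ω ≠ ω) ∨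
    ∃ t ∈ T, ∀ y ∈ EE ⊓ centralizer (T : Set G), ∀ ω : Ω, (t * y) • ω ≠ ω := by
  by_cases h : T ≤ (EE ⊓ St α) ⊔ (EE ⊓ centralizer (T : Set G))
  · exact .inl fun t ht h1 ω e => h1 (comp_semireg hF hT α h ht ω e)
  obtain ⟨t, ht, h1⟩ := exists_not_conj_mem (P := T ⊓ ((EE ⊓ St α) ⊔ (EE ⊓ centralizer (T : Set G)))) inf_le_left
    fun e => h (e.ge.trans inf_le_right)
  refine .inr ⟨t, ht, fun y hy ω e => ?_⟩
  obtain ⟨⟨e', he'⟩, rfl⟩ := (layer_trans (Ω := Ω) hT).exists_smul_eq α ω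
  obtain ⟨a, ha, c, hc, rfl⟩ := layer_decomp hT he'
  have m : a⁻¹ * t * a ∈ T := T.mul_mem (T.mul_mem (T.inv_mem ha) ht) ha
  refine h1 a ha ⟨m, ?_⟩
  have e2 : (a * c)⁻¹ * (t * y) * (a * c) ∈ EE ⊓ St α := mem_inf.2 ⟨mul_mem (mul_mem (inv_mem he')
    (mul_mem (hT.le_layerIn ht) (mem_inf.1 hy).1)) he', by
      rw [mem_stabilizer_iff, mul_smul, mul_smul, inv_smul_eq_iff]; exact e⟩
  have e3 : a⁻¹ * t * a = (a * c)⁻¹ * (t * y) * (a * c) * (c⁻¹ * y⁻¹ * c) := by
    have c1 : a * y = y * a := hy.2 a ha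
    have c2 : a⁻¹ * t * a * c = c * (a⁻¹ * t * a) := hc.2 _ m
    calc a⁻¹ * t * a = c⁻¹ * (a⁻¹ * t * a * c) := by rw [c2]; group
      _ = c⁻¹ * a⁻¹ * t * (a * y) * y⁻¹ * c := by group
      _ = _ := by rw [c1]; group
  rw [e3]
  exact mul_mem (mem_sup_left e2) (mem_sup_right (mul_mem (mul_mem (inv_mem hc) (inv_mem hy)) hc))

/-- three pairwise non-conjugate derangements -/
theorem three_der (hF : Fit0) (hT : CompIn T ⊤) (hU : CompIn U ⊤) (hne : T ≠ U) (α : Ω) :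
    ∃ a b c : G, (∀ ω : Ω, a • ω ≠ ω) ∧ (∀ ω : Ω, b • ω ≠ ω) ∧ (∀ ω : Ω, c • ω ≠ ω) ∧
      ¬ IsConj a b ∧ ¬ IsConj a c ∧ ¬ IsConj b c := by
  have n1 : ∀ {x : G} {p : ℕ}, p.Prime → orderOf x = p → x ≠ 1 := fun hp h e => hp.ne_one (by rw [← h, e, orderOf_one])
  rcases der_dich hF hT α with h | ⟨t, ht, h⟩
  · obtain ⟨p, q, r, hp, hq, hr, h1, h2, h3, ⟨x, hx, ox⟩, ⟨y, hy, oy⟩, z, hz, oz⟩ :=
      exists_three_primes (qs_not_isSolvable hT.qs)
    have o : ∀ {a b : G}, IsConj a b → orderOf a = orderOf b := fun h => by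
      obtain ⟨c, rfl⟩ := isConj_iff.1 h; exact ((MulAut.conj c).orderOf_eq _).symm
    exact ⟨x, y, z, h x hx (n1 hp ox), h y hy (n1 hq oy), h z hz (n1 hr oz), fun e => h1 (by rw [← ox, o e, oy]),
      fun e => h2 (by rw [← ox, o e, oz]), fun e => h3 (by rw [← oy, o e, oz])⟩
  obtain ⟨p, q, r, hp, hq, hr, h1, h2, h3, ⟨x, hx, ox⟩, ⟨y, hy, oy⟩, z, hz, oz⟩ :=
    exists_three_primes (qs_not_isSolvable hU.qs)
  have m : U ≤ EE ⊓ centralizer (T : Set G) := le_inf hU.le_layerIn (comp_cent hT hU hne)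
  have t1 : t ≠ 1 := fun e => h 1 (one_mem _) α (by rw [e, one_mul, one_smul])
  have o : ∀ a ∈ U, ∀ b ∈ U, IsConj (t * a) (t * b) → orderOf a = orderOf b := fun a ha b hb e => by
    obtain ⟨c, e⟩ := isConj_iff.1 e
    have oc : ∀ u : G, orderOf (c * u * c⁻¹) = orderOf u := fun u => (MulAut.conj c).orderOf_eq u
    rcases conj_pair hF hT hU hne ht ha ht hb t1 e with ⟨-, e⟩ | ⟨e1, e2⟩
    · rw [← e, oc]
    · rw [← e1, oc, ← e2, oc]
  exact ⟨t * x, t * y, t * z, h x (m hx), h y (m hy), h z (m hz), fun e => h1 (by rw [← ox, o x hx y hy e, oy]),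
    fun e => h2 (by rw [← ox, o x hx z hz e, oz]), fun e => h3 (by rw [← oy, o y hy z hz e, oz])⟩

end Cfsg.Agent.Loc
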