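import Cfsg.Agent.Loc.Ons

/-! Derangements of affine permutation groups. -/

set_option autoImplicit false

namespace Cfsg.Agent.Loc

open Subgroup Cfsg MulAction

/-- derangement -/
abbrev IsDer (Ω : Type*) {G : Type*} [Group G] [MulAction G Ω] (g : G) : Prop := ∀ ω : Ω, g • ω ≠ ω

/-- no non-identity element fixes two points -/
abbrev Frob1 (G Ω : Type*) [Group G] [MulAction G Ω] : Prop :=
  ∀ g : G, g ≠ 1 → ∀ a b : Ω, a ≠ b → g • a = a → g • b ≠ b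

variable {G Ω : Type*} [Group G] [MulAction G Ω] {N : Subgroup G} [hN : N.Normal] {x y g : G}
  (ht : IsPretransitive N Ω) (hr : ∀ a : Ω, stabilizer N a = ⊥)

local notation "St" => stabilizer G

theorem der_conj (h : IsConj x y) (hx : IsDer Ω x) : IsDer Ω y := fun ω e => by
  obtain ⟨c, rfl⟩ := isConj_iff.1 h
  exact hx (c⁻¹ • ω) (by rw [eq_inv_smul_iff, ← mul_smul, ← mul_smul, e])

theorem mem_of_isConj (h : IsConj x y) (hy : y ∈ N) : x ∈ N := by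
  obtain ⟨c, rfl⟩ := isConj_iff.1 h.symm
  exact hN.conj_mem _ hy c

omit hN in
include hr in
theorem reg_eq (hx : x ∈ N) (hy : y ∈ N) {a : Ω} (e : x • a = y • a) : x = y :=
  Perm.eq_of_smul_eq_of_semiregular ((Perm.stabilizer_eq_bot_iff N a).1 (hr a)) hx hy e

omit hN in
include hr in
theorem reg_der (hx : x ∈ N) (h1 : x ≠ 1) : IsDer Ω x := fun ω e =>
  h1 (reg_eq hr hx (one_mem _) (e.trans (one_smul _ _).symm))

include ht hr in
theorem mem_of_der [Finite G] [Nonempty Ω] (hf : Frob1 G Ω) (hg : IsDer Ω g) : g ∈ N := by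
  obtain ⟨α⟩ : Nonempty Ω := inferInstance
  obtain ⟨⟨n, hn⟩, e⟩ := ht.exists_smul_eq α (g • α)
  have e1 : (n⁻¹ * g) • α = α := by rw [mul_smul, inv_smul_eq_iff]; exact e.symm
  by_contra hgN
  set h := n⁻¹ * g with hh
  have h1 : h ≠ 1 := fun e => hgN (inv_mul_eq_one.1 e ▸ hn)
  let φ : N → N := fun x => ⟨x * (h * (x : G)⁻¹ * h⁻¹), mul_mem x.2 (hN.conj_mem _ (inv_mem x.2) h)⟩
  have inj : Function.Injective φ := fun x y e => by
    have e2 : (x : G) * (h * (x : G)⁻¹ * h⁻¹) = y * (h * (y : G)⁻¹ * h⁻¹) := congrArg Subtype.val e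
    have e3 : h * ((y : G)⁻¹ * x) = (y : G)⁻¹ * x * h := by
      calc h * ((y : G)⁻¹ * x) = (y : G)⁻¹ * (y * (h * (y : G)⁻¹ * h⁻¹)) * h * x := by group
        _ = _ := by rw [← e2]; group
    by_contra hne
    refine hf h h1 α (((y : G)⁻¹ * x) • α) (fun e4 => hne (Subtype.ext (inv_mul_eq_one.1 (reg_eq hr
      (mul_mem (inv_mem y.2) x.2) (one_mem _) (e4.symm.trans (one_smul _ _).symm))).symm)) e1 ?_
    rw [← mul_smul, e3, mul_smul, e1]
  obtain ⟨x, hx⟩ := (Finite.injective_iff_surjective.1 inj) ⟨n, hn⟩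
  have e2 : (x : G) * (h * (x : G)⁻¹ * h⁻¹) = n := congrArg Subtype.val hx
  have e3 : g * x = x * h := by
    calc g * x = n * h * x := by rw [hh]; group
      _ = _ := by rw [← e2]; group
  exact hg ((x : G) • α) (by rw [← mul_smul, e3, mul_smul, e1])

omit hN in
include hr in
theorem frob_of_der [Finite G] [Finite Ω] [IsPretransitive G Ω] (h : ∀ g : G, IsDer Ω g → g ∈ N) : Frob1 G Ω :=
  fun g h1 a b hab ha hb => reg_der hr ((closure_le N).2 h
    ((FG.Der_spec (G := G) (Ω := Ω)).2 g (FG.two_le_nfix hab ha hb).ne')) h1 a ha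

include ht in
theorem conj_stab (hc : IsMulCommutative N) (hx : x ∈ N) (h : IsConj x y) (a : Ω) : ∃ k ∈ St a, k • x • a = y • a := by
  obtain ⟨c, rfl⟩ := isConj_iff.1 h
  obtain ⟨⟨n, hn⟩, e⟩ := ht.exists_smul_eq a (c⁻¹ • a)
  have e1 : (c * n) • a = a := by rw [mul_smul, ← eq_inv_smul_iff]; exact e
  refine ⟨c * n, e1, ?_⟩
  rw [← mul_smul, mul_assoc, Perm.mul_comm_of_isMulCommutative hc n hn x hx, mul_smul, mul_smul, mul_smul, mul_smul]
  exact congrArg _ (congrArg _ e)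

include hr in
theorem isConj_of_stab (hx : x ∈ N) (hy : y ∈ N) {a : Ω} (h : g • a = a) (e : g • x • a = y • a) : IsConj x y :=
  isConj_iff.2 ⟨g, reg_eq hr (hN.conj_mem _ hx g) hy (a := a) (by
    rw [mul_smul, mul_smul, inv_smul_eq_iff.2 h.symm, e])⟩

include ht hr in
theorem two_trans_iff [Nonempty Ω] (hc : IsMulCommutative N) :
    IsMultiplyPretransitive G Ω 2 ↔ ∀ x ∈ N, ∀ y ∈ N, x ≠ 1 → y ≠ 1 → IsConj x y := by
  refine ⟨fun h x hx y hy x1 y1 => ?_, fun h => is_two_pretransitive_iff.2 fun {a b c d} hab hcd => ?_⟩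
  · obtain ⟨a⟩ : Nonempty Ω := inferInstance
    obtain ⟨g, e1, e2⟩ := Perm.exists_smul_two h (reg_der hr hx x1 a).symm (reg_der hr hy y1 a).symm
    exact isConj_of_stab hr hx hy e1 e2
  · obtain ⟨⟨n, hn⟩, rfl⟩ := ht.exists_smul_eq a c
    obtain ⟨⟨x, hx⟩, rfl⟩ := ht.exists_smul_eq a b
    obtain ⟨⟨y, hy⟩, e⟩ := ht.exists_smul_eq a (n⁻¹ • d)
    have e' : y • a = n⁻¹ • d := e
    obtain ⟨k, hk, e2⟩ := conj_stab ht hc hx (h x hx y hy (fun e => hab (by simp [e]))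
      fun e => hcd (by rw [e, one_smul, eq_inv_smul_iff] at e'; exact e')) a
    refine ⟨n * k, by rw [mul_smul, hk]; rfl, ?_⟩
    rw [mul_smul, ← eq_inv_smul_iff, ← e', ← e2]; rfl

theorem kappa_one : Nat.card {c : ConjClasses G // ∃ g : G, ConjClasses.mk g = c ∧ IsDer Ω g} = 1 ↔
    ∃ u : G, IsDer Ω u ∧ ∀ w : G, IsDer Ω w → IsConj w u := by
  rw [Nat.card_eq_one_iff_exists]
  constructor
  · rintro ⟨⟨_, u, rfl, hu⟩, h⟩
    exact ⟨u, hu, fun w hw => ConjClasses.mk_eq_mk_iff_isConj.1 (congrArg Subtype.val (h ⟨_, w, rfl, hw⟩))⟩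
  · rintro ⟨u, hu, h⟩
    refine ⟨⟨_, u, rfl, hu⟩, ?_⟩
    rintro ⟨_, w, rfl, hw⟩
    exact Subtype.ext (ConjClasses.mk_eq_mk_iff_isConj.2 (h w hw))

theorem kappa_two (h : Nat.card {c : ConjClasses G // ∃ g : G, ConjClasses.mk g = c ∧ IsDer Ω g} = 2) :
    ∃ u v : G, IsDer Ω u ∧ IsDer Ω v ∧ ¬ IsConj u v ∧ ∀ w : G, IsDer Ω w → IsConj w u ∨ IsConj w v := by
  obtain ⟨⟨_, u, rfl, hu⟩, ⟨_, v, rfl, hv⟩, hne, h⟩ := Nat.card_eq_two_iff.1 h
  refine ⟨u, v, hu, hv, fun e => hne (Subtype.ext (ConjClasses.mk_eq_mk_iff_isConj.2 e)), fun w hw => ?_⟩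
  rcases h.ge (Set.mem_univ ⟨_, w, rfl, hw⟩) with e | e
  exacts [.inl (ConjClasses.mk_eq_mk_iff_isConj.1 (congrArg Subtype.val e)),
    .inr (ConjClasses.mk_eq_mk_iff_isConj.1 (congrArg Subtype.val e))]

omit hN in
theorem frob_iff [Finite Ω] : Frob1 G Ω ↔ ∀ g : G, g ≠ 1 → Nat.card (fixedBy Ω g) ≤ 1 := by
  refine ⟨fun h g h1 => Finite.card_le_one_iff_subsingleton.2 ⟨fun a b => Subtype.ext ?_⟩,
    fun h g h1 a b hab ha hb => (FG.two_le_nfix hab ha hb).not_ge (h g h1)⟩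
  by_contra hab
  exact h g h1 a b hab a.2 b.2

include ht hr in
theorem two_classes_card [Finite Ω] (hc : IsMulCommutative N) (hf : Frob1 G Ω) {u v : G} (hu : u ∈ N) (hv : v ∈ N)
    (u1 : u ≠ 1) (v1 : v ≠ 1) (huv : ¬ IsConj u v) (h : ∀ w ∈ N, w ≠ 1 → IsConj w u ∨ IsConj w v) (α : Ω) :
    2 * Nat.card (St α) + 1 = Nat.card Ω := by
  have c : ∀ u ∈ N, u ≠ 1 → (orbit (St α) (u • α)).ncard = Nat.card (St α) := fun u hu u1 => by
    have := Perm.card_orbit_mul_card_stabilizer (G := St α) (u • α)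
    rwa [(Perm.stabilizer_eq_bot_iff _ _).2 fun k hk e => by_contra fun k1 =>
      hf k k1 α _ (reg_der hr hu u1 α).symm hk e, card_bot, mul_one] at this
  have n : ∀ u ∈ N, u ≠ 1 → α ∉ orbit (St α) (u • α) := fun u hu u1 ⟨k, e⟩ =>
    reg_der hr hu u1 α (smul_left_cancel (k : G) (e.trans k.2.symm))
  have e : (Set.univ : Set Ω) = insert α (orbit (St α) (u • α) ∪ orbit (St α) (v • α)) := by
    refine (Set.eq_univ_of_forall fun ω => ?_).symm
    obtain ⟨⟨w, hw⟩, rfl⟩ := ht.exists_smul_eq α ω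
    by_cases w1 : w = 1
    · exact .inl (by simp [w1])
    rcases h w hw w1 with e | e
    · obtain ⟨k, hk, e⟩ := conj_stab ht hc hu e.symm α
      exact .inr (.inl ⟨⟨k, hk⟩, e⟩)
    · obtain ⟨k, hk, e⟩ := conj_stab ht hc hv e.symm α
      exact .inr (.inr ⟨⟨k, hk⟩, e⟩)
  rw [← Set.ncard_univ Ω, e, Set.ncard_insert_of_notMem (fun e => e.elim (n u hu u1) (n v hv v1)),
    Set.ncard_union_eq (Set.disjoint_left.2 ?_), c u hu u1, c v hv v1, two_mul]
  rintro _ ⟨k, rfl⟩ ⟨l, e⟩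
  refine huv (isConj_of_stab hr hu hv (l⁻¹ * k).2 ?_)
  rw [coe_mul, mul_smul, coe_inv, inv_smul_eq_iff]; exact e.symm

end Cfsg.Agent.Loc
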