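import Cfsg.Agent.Loc.Am1
import Cfsg.Agent.PGrp.Basic

/-! Sims' lemma: a `p`-group `P` and an element `g` with `|P : P ∩ P^g| = p` normalising no nontrivial normal
subgroup of `P`. -/
set_option autoImplicit false
namespace Cfsg.Agent.Loc
open Subgroup Cfsg
open scoped commutatorElement

variable {G : Type*} [Group G] [Finite G] {p t : ℕ} {P X K Y D : Subgroup G} {g : G} {a b a' b' i j : ℤ}

theorem idx_dvd_prime (hp : p.Prime) (hK : IsPGroup p K) (h : X.relIndex K ≤ p) : X.relIndex K ∣ p := by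
  have := Fact.mk hp
  obtain ⟨k, hk⟩ := hK.exists_card_eq
  obtain ⟨j, -, e⟩ := (Nat.dvd_prime_pow hp).1 (hk ▸ relIndex_dvd_card X K)
  rw [e] at h ⊢
  exact (pow_dvd_pow p ((Nat.pow_le_pow_iff_right hp.one_lt).1 (h.trans (pow_one p).ge))).trans (pow_one p).dvd

theorem comm_le_of_idx (hp : p.Prime) (hK : IsPGroup p K) (hi : X.relIndex K ∣ p) : ⁅K, K⁆ ≤ X := by
  have := Fact.mk hp
  rcases (Nat.dvd_prime hp).1 hi with h | h
  · exact (commutator_le_self K).trans (relIndex_eq_one.1 h)
  have := PGrp.normal_of_index_eq hK h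
  have : IsCyclic (K ⧸ X.subgroupOf K) := isCyclic_of_prime_card h
  refine commutator_le.2 fun x hx y hy => ?_
  exact Normal.quotient_commutative_iff_commutator_le.1 (IsCyclic.isMulCommutative (α := K ⧸ X.subgroupOf K))
    (commutator_mem_commutator (mem_top (⟨x, hx⟩ : K)) (mem_top (⟨y, hy⟩ : K)))

/-- `⋂_{a ≤ k ≤ b} P^{g^k}` -/
def Wn (P : Subgroup G) (g : G) (a b : ℤ) : Subgroup G where
  carrier := {x | ∀ k, a ≤ k → k ≤ b → x ∈ cj (g ^ k) P}
  mul_mem' := fun hx hy k h1 h2 => mul_mem (hx k h1 h2) (hy k h1 h2)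
  one_mem' := fun _ _ _ => one_mem _
  inv_mem' := fun hx k h1 h2 => inv_mem (hx k h1 h2)

omit [Finite G] in
theorem Wn_mono (h1 : a' ≤ a) (h2 : b ≤ b') : Wn P g a' b' ≤ Wn P g a b := fun _ hx k k1 k2 =>
  hx k (h1.trans k1) (k2.trans h2)

omit [Finite G] in
theorem Wn_shift (m : ℤ) (h1 : a' = a + m) (h2 : b' = b + m) : cj (g ^ m) (Wn P g a b) = Wn P g a' b' := by
  ext x
  rw [mem_cj]
  refine ⟨fun h k k1 k2 => ?_, fun h k k1 k2 => ?_⟩
  · have := mem_cj.2 (h (k - m) (by omega) (by omega))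
    rwa [cj_cj, ← zpow_add, add_sub_cancel] at this
  · have := h (m + k) (by omega) (by omega)
    rwa [zpow_add, ← cj_cj, mem_cj] at this

omit [Finite G] in
theorem card_Wn (h : b - a = b' - a') : Nat.card (Wn P g a b) = Nat.card (Wn P g a' b') := by
  rw [← Wn_shift (a := a) (b := b) (a' := a') (b' := b') (a' - a) (by omega) (by omega), card_cj]

omit [Finite G] in
theorem Wn_self (a : ℤ) : Wn P g a a = cj (g ^ a) P :=
  le_antisymm (fun _ hx => hx a le_rfl le_rfl) fun _ hx _ k1 k2 => le_antisymm k1 k2 ▸ hx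

omit [Finite G] in
theorem Wn_inf {c d : ℤ} (h1 : a ≤ c) (h2 : c ≤ b + 1) (h3 : b ≤ d) : Wn P g a b ⊓ Wn P g c d = Wn P g a d :=
  le_antisymm (fun _ hx k k1 k2 => (le_or_gt k b).elim (hx.1 k k1) fun h => hx.2 k (by omega) k2)
    (le_inf (Wn_mono le_rfl h3) (Wn_mono h1 le_rfl))

structure SH (p t : ℕ) (P : Subgroup G) (g : G) : Prop where
  hp : p.Prime
  card : Nat.card P = p ^ t
  idx : (P ⊓ cj g P).relIndex P = p
  core : ∀ Q ≤ P, P ≤ normalizer (Q : Set G) → cj g Q = Q → Q = ⊥

namespace SH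
variable (h : SH p t P g)
include h

theorem pg (hab : a ≤ b) : IsPGroup p (Wn P g a b) :=
  (isPGroup_cj (g ^ a) (IsPGroup.of_card h.card)).to_le fun _ hx => hx a le_rfl hab

theorem idx0 (k : ℤ) : Nat.card (Wn P g k (k + 1)) * p = Nat.card P := by
  have : Wn P g 0 1 = P ⊓ cj g P := by
    rw [← Wn_inf (b := 0) (c := 1) zero_le_one le_rfl zero_le_one, Wn_self, Wn_self, zpow_zero, zpow_one, cj_one]
  rw [card_Wn (a' := 0) (b' := 1) (by omega), this, ← h.idx, Solv.card_mul_relIndex inf_le_left]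

theorem idx1 {k l : ℤ} (hl : l = k ∨ l = k + 1) : (Wn P g k (k + 1)).relIndex (Wn P g l l) = p := by
  have := Solv.card_mul_relIndex (Wn_mono (P := P) (g := g) (a := l) (b := l) (a' := k) (b' := k + 1)
    (by omega) (by omega))
  rw [Wn_self l, card_cj, ← h.idx0 k, ← Wn_self l] at this
  exact Nat.eq_of_mul_eq_mul_left Nat.card_pos this

theorem idxR (hab : a ≤ b) : (Wn P g a (b + 1)).relIndex (Wn P g a b) ∣ p := by
  refine idx_dvd_prime h.hp (h.pg hab) ?_
  rw [← Wn_inf (b := b) hab (by omega) (by omega), inf_relIndex_left, ← h.idx1 (k := b) (Or.inl rfl)]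
  exact relIndex_le_of_le_right (Wn_mono hab le_rfl) index_ne_zero_of_finite

theorem idxL (hab : a ≤ b) : (Wn P g (a - 1) b).relIndex (Wn P g a b) ∣ p := by
  refine idx_dvd_prime h.hp (h.pg hab) ?_
  rw [← Wn_inf (b := a - 1 + 1) (c := a) (by omega) (by omega) (by omega), inf_relIndex_right,
    ← h.idx1 (k := a - 1) (l := a) (by omega)]
  exact relIndex_le_of_le_right (Wn_mono le_rfl hab) index_ne_zero_of_finite

theorem idxR' (hab : a ≤ b) (hn : Wn P g (a + 1) (b + 1) ≠ Wn P g a b) :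
    (Wn P g a (b + 1)).relIndex (Wn P g a b) = p :=
  ((Nat.dvd_prime h.hp).1 (h.idxR hab)).resolve_left fun e => hn (eq_of_le_of_card_ge
    ((relIndex_eq_one.1 e).trans (Wn_mono (by omega) le_rfl)) (card_Wn (by omega)).le).symm

theorem sup (hab : a ≤ b) (hn : Wn P g a (b + 1) ≠ Wn P g (a - 1) b) :
    Wn P g a (b + 1) ⊔ Wn P g (a - 1) b = Wn P g a b := by
  have k : ¬ Wn P g (a - 1) b ≤ Wn P g a (b + 1) := fun e => hn (eq_of_le_of_card_ge e (card_Wn (by omega)).le).symm
  exact sup_eq_of_relIndex_prime h.hp (((Nat.dvd_prime h.hp).1 (h.idxR hab)).resolve_left fun e =>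
    k ((Wn_mono (by omega) le_rfl).trans (relIndex_eq_one.1 e))) (Wn_mono le_rfl (by omega))
    (Wn_mono (by omega) le_rfl) k

theorem inv_bot (n : ℕ) : ∀ a : ℤ, Wn P g (a + 1) (a + n + 1) = Wn P g a (a + n) → Wn P g a (a + n) = ⊥ := by
  induction n using Nat.strong_induction_on with
  | _ n ih =>
  intro a e
  by_contra h0
  have ni : ∀ m : ℕ, m < n → ∀ b : ℤ, Wn P g (b + 1) (b + m + 1) ≠ Wn P g b (b + m) := fun m hm b e' => h0 (by
    have := ih m hm b e'
    rw [← card_eq_one, card_Wn (a' := a) (b' := a + m) (by omega), card_eq_one] at this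
    exact le_bot_iff.1 (this ▸ Wn_mono le_rfl (by omega)))
  have gN : g ∈ normalizer (Wn P g a (a + n) : Set G) :=
    mem_normalizer_iff_cj.2 (by rw [← Wn_shift 1 rfl rfl, zpow_one] at e; exact e)
  have eq : ∀ b : ℤ, Wn P g b (b + n) = Wn P g a (a + n) := fun b => by
    rw [← Wn_shift (a := a) (b := a + n) (b - a) (by omega) (by omega), cj_eq_of_mem_normalizer (zpow_mem gN _)]
  have key : ∀ j m : ℕ, m + j = n → ∀ b : ℤ, Wn P g b (b + m) ≤ normalizer (Wn P g a (a + n) : Set G) := by
    intro j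
    induction j with
    | zero => exact fun m hm b => by rw [← eq b, show m = n by omega]; exact le_normalizer
    | succ j ih =>
      intro m hm b
      by_cases hj : j = 0
      · have c := comm_le_of_idx h.hp (h.pg (show b ≤ b + m by omega)) (h.idxR (by omega))
        rw [← eq b, show b + n = b + m + 1 by omega]
        exact le_normalizer_iff_commutator_le_left.2 ((commutator_mono (Wn_mono le_rfl (by omega)) le_rfl).trans c)
      · have := ni (m + 1) (by omega) (b - 1)
        rw [← h.sup (show b ≤ b + m by omega) (by convert this using 2 <;> push_cast <;> ring)]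
        refine sup_le ?_ ?_
        · convert ih (m + 1) (by omega) b using 2; push_cast; ring
        · convert ih (m + 1) (by omega) (b - 1) using 2; push_cast; ring
  have p0 : Wn P g 0 (0 + (0 : ℕ)) = P := by rw [Nat.cast_zero, add_zero, Wn_self, zpow_zero, cj_one]
  exact h0 (h.core _ ((eq 0).ge.trans ((Wn_mono le_rfl (by omega)).trans p0.le)) (p0.ge.trans (key n 0 (by omega) 0))
    (cj_eq_of_mem_normalizer gN))

theorem card_W (n : ℕ) (hn : n ≤ t) : ∀ a : ℤ, Nat.card (Wn P g a (a + n)) = p ^ (t - n) := by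
  induction n with
  | zero => intro a; rw [Nat.cast_zero, add_zero, Wn_self, card_cj, h.card, Nat.sub_zero]
  | succ n ih =>
    intro a
    have e := Solv.card_mul_relIndex (Wn_mono (P := P) (g := g) (a := a) (b := a + n) (b' := a + n + 1) le_rfl
      (by omega))
    rw [h.idxR' (by omega) fun e => by
      have := ih (by omega) a
      rw [h.inv_bot n a e, card_bot, eq_comm, Nat.pow_eq_one] at this
      have := h.hp.one_lt
      omega, ih (by omega), show t - n = t - (n + 1) + 1 by omega, pow_succ] at e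
    push_cast
    rw [← add_assoc]
    exact Nat.eq_of_mul_eq_mul_right h.hp.pos e

omit h in
/-- the subgroup `⟨x_i, …, x_j⟩` -/
def I (t : ℕ) (P : Subgroup G) (g : G) (i j : ℤ) : Subgroup G := Wn P g (j - t + 1) i

omit h [Finite G] in
theorem I_mono {i' j' : ℤ} (h1 : i ≤ i') (h2 : j' ≤ j) : I t P g i' j' ≤ I t P g i j := Wn_mono (by omega) h1

theorem card_I (n : ℕ) (hn : n ≤ t) (hj : j + 1 = i + n) : Nat.card (I t P g i j) = p ^ n := by
  have := h.card_W (t - n) (by omega) (j - t + 1)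
  rwa [show j - t + 1 + (t - n : ℕ) = i by omega, show t - (t - n) = n by omega] at this

theorem I_bot (hj : j < i) : I t P g i j = ⊥ :=
  le_bot_iff.1 ((I_mono le_rfl (by omega)).trans (card_eq_one.1 (h.card_I (j := i - 1) 0 (by omega) (by omega))).le)

theorem t_pos : 0 < t := Nat.pos_of_ne_zero fun e => h.hp.ne_one (by
  have := h.card
  rw [e, pow_zero, card_eq_one] at this
  rw [← h.idx, this, relIndex_bot_right])

theorem X_ne (i : ℤ) : I t P g i i ≠ ⊥ := fun e => h.hp.ne_one (by
  simpa [e] using (h.card_I (i := i) (j := i) 1 h.t_pos rfl).symm)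

theorem gen (n : ℕ) : ∀ i j : ℤ, n ≤ t → j + 1 = i + n → (∀ k, i ≤ k → k ≤ j → I t P g k k ≤ Y) → I t P g i j ≤ Y := by
  induction n with
  | zero => exact fun i j _ e _ => (h.I_bot (by omega)).le.trans bot_le
  | succ n ih =>
    intro i j hn e hY
    by_cases h0 : n = 0
    · exact (show i = j by omega) ▸ hY i le_rfl (by omega)
    have e1 : I t P g i (j - 1) = Wn P g (j - t + 1 - 1) i := by unfold I; congr 1; ring
    have := h.sup (a := j - t + 1) (b := i) (by omega) fun e' => by
      have := h.inv_bot (t - n) (j - t) (by convert e' using 2 <;> omega)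
      have c := h.card_W (t - n) (by omega) (j - t)
      rw [this, card_bot, eq_comm, Nat.pow_eq_one] at c
      have := h.hp.one_lt
      omega
    rw [I, ← this, ← e1]
    exact sup_le (ih (i + 1) j (by omega) (by omega) fun k k1 k2 => hY k (by omega) k2)
      (ih i (j - 1) (by omega) (by omega) fun k k1 k2 => hY k k1 (by omega))

theorem gen' (h1 : i ≤ j + 1) (h2 : j < i + t) (hY : ∀ k, i ≤ k → k ≤ j → I t P g k k ≤ Y) : I t P g i j ≤ Y :=
  h.gen (j + 1 - i).toNat i j (by omega) (by omega) hY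

theorem comm (h2 : j < i + t) : ⁅I t P g i j, I t P g i j⁆ ≤ I t P g (i + 1) (j - 1) := by
  have e := Wn_inf (P := P) (g := g) (a := j - t + 1 - 1) (b := i) (c := j - t + 1) (d := i + 1) (by omega) (by omega)
    (by omega)
  rw [show I t P g (i + 1) (j - 1) = _ from (congrArg (Wn P g · _) (by ring)).trans e.symm]
  exact le_inf (comm_le_of_idx h.hp (h.pg (by omega)) (h.idxL (by omega)))
    (comm_le_of_idx h.hp (h.pg (by omega)) (h.idxR (by omega)))

theorem maxL (h1 : i ≤ j) (h2 : j < i + t) (l1 : I t P g (i + 1) j ≤ D) (hn : ¬ I t P g i i ≤ D) :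
    I t P g i j ⊓ D ≤ I t P g (i + 1) j := by
  rcases (Nat.dvd_prime h.hp).1 (h.idxR (a := j - t + 1) (b := i) (by omega)) with e | e
  · exact inf_le_left.trans (relIndex_eq_one.1 e)
  · exact ((eq_or_eq_of_relIndex_prime h.hp e (le_inf (I_mono (by omega) le_rfl) l1) inf_le_left).resolve_right
      fun e => hn ((I_mono le_rfl h1).trans (e.ge.trans inf_le_right))).le

theorem maxR (h1 : i ≤ j) (h2 : j < i + t) (l1 : I t P g i (j - 1) ≤ D) (hn : ¬ I t P g j j ≤ D) :
    I t P g i j ⊓ D ≤ I t P g i (j - 1) := by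
  have e1 : I t P g i (j - 1) = Wn P g (j - t + 1 - 1) i := by unfold I; congr 1; ring
  rcases (Nat.dvd_prime h.hp).1 (h.idxL (a := j - t + 1) (b := i) (by omega)) with e | e <;> rw [← e1] at e
  · exact inf_le_left.trans (relIndex_eq_one.1 e)
  · exact ((eq_or_eq_of_relIndex_prime h.hp e (le_inf (I_mono le_rfl (by omega)) l1) inf_le_left).resolve_right
      fun e => hn ((I_mono h1 le_rfl).trans (e.ge.trans inf_le_right))).le

omit h [Finite G] in
theorem I_eq (i : ℤ) : I t P g i (i + t - 1) = cj (g ^ i) P := by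
  rw [I, show i + t - 1 - t + 1 = i by ring, Wn_self]

omit h [Finite G] in
theorem shift (m : ℤ) (e : ⁅I t P g i i, I t P g j j⁆ = ⊥) : ⁅I t P g (i + m) (i + m), I t P g (j + m) (j + m)⁆ = ⊥ := by
  have := congrArg (fun X => cj (g ^ m) X) e
  rwa [cj_commutator, cj_bot, I, I, Wn_shift (a' := i + m - t + 1) m (by ring) rfl,
    Wn_shift (a' := j + m - t + 1) m (by ring) rfl] at this

/-- Sims' lemma -/
theorem main : ∃ l : ℕ, 2 * t ≤ 3 * l ∧ l ≤ t ∧ (∀ i j : ℤ, i < j + l → j < i + l → ⁅I t P g i i, I t P g j j⁆ = ⊥) ∧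
    (l < t → ∀ i : ℤ, ⁅I t P g i i, I t P g (i + l) (i + l)⁆ ≠ ⊥ ∧
      ⁅I t P g i i, I t P g (i + l) (i + l)⁆ ≤ I t P g (i + t - l) (i + 2 * l - t)) := by
  classical
  have ex : ∃ l : ℕ, l = t ∨ ⁅I t P g 0 0, I t P g l l⁆ ≠ ⊥ := ⟨t, Or.inl rfl⟩
  set l := Nat.find ex
  have lt : l ≤ t := Nat.find_min' ex (Or.inl rfl)
  have c0 : ∀ i j : ℤ, i ≤ j → j < i + l → ⁅I t P g i i, I t P g j j⁆ = ⊥ := fun i j h1 h2 => by
    have := shift i (not_not.1 (not_or.1 (Nat.find_min ex (m := (j - i).toNat) (by omega))).2)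
    rwa [zero_add, show ((j - i).toNat : ℤ) + i = j by omega] at this
  have c : ∀ i j : ℤ, i < j + l → j < i + l → ⁅I t P g i i, I t P g j j⁆ = ⊥ := fun i j h1 h2 =>
    (le_total i j).elim (fun e => c0 i j e h2) fun e => (commutator_comm _ _).trans (c0 j i e h1)
  have cc : ∀ k i j : ℤ, i ≤ j + 1 → j < i + t → k < i + l → j < k + l →
      I t P g i j ≤ centralizer (I t P g k k : Set G) := fun k i j h1 h2 h3 h4 =>
    h.gen' h1 h2 fun m m1 m2 => commutator_eq_bot_iff_le_centralizer.1 (c m k (by omega) (by omega))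
  by_cases hl : l = t
  · exact ⟨l, by omega, lt, c, fun e => absurd hl e.ne⟩
  have nc : ∀ i j : ℤ, j = i + l → ⁅I t P g i i, I t P g j j⁆ ≠ ⊥ := fun i j e e' => by
    have := shift (-i) e'
    rw [add_neg_cancel, show j + -i = l by omega] at this
    exact (Nat.find_spec ex).resolve_left hl this
  have cm : ∀ i j : ℤ, i ≤ j → j < i + t → ⁅I t P g i i, I t P g j j⁆ ≤ I t P g (i + 1) (j - 1) := fun i j h1 h2 =>
    (commutator_mono (I_mono le_rfl h1) (I_mono h1 le_rfl)).trans (h.comm h2)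
  have l1 : 0 < l := Nat.pos_of_ne_zero fun e => nc 0 0 (by omega) (le_bot_iff.1
    ((cm 0 0 le_rfl (by have := h.t_pos; omega)).trans (h.I_bot (by omega)).le))
  have key : ∀ i : ℤ, ∀ n : ℕ, ∀ μ ν : ℤ, ν + 1 = μ + n → i < μ → ν < i + l →
      ⁅I t P g i i, I t P g (i + l) (i + l)⁆ ≤ I t P g μ ν → i + t - l ≤ i + 2 * l - t ∧
        ⁅I t P g i i, I t P g (i + l) (i + l)⁆ ≤ I t P g (i + t - l) (i + 2 * l - t) := by
    intro i n
    induction n with
    | zero => exact fun μ ν e _ _ k => absurd (le_bot_iff.1 (k.trans (h.I_bot (by omega)).le)) (nc i _ rfl)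
    | succ n ih =>
      intro μ ν e m1 m2 k
      by_cases a1 : μ + l < i + t
      · refine ih (μ + 1) ν (by omega) (by omega) m2 ((le_inf k ?_).trans (h.maxL (by omega) (by omega)
          (cc (μ + l) _ _ (by omega) (by omega) (by omega) (by omega)) fun e =>
            nc μ _ rfl (commutator_eq_bot_iff_le_centralizer.2 e)))
        refine commutator_eq_bot_iff_le_centralizer.1 (commutator_commutator_eq_bot_of_rotate
          (by rw [c _ _ (by omega) (by omega), commutator_bot_left]) (commutator_eq_bot_iff_le_centralizer.2 ?_))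
        rw [commutator_comm]
        exact (cm _ _ (by omega) a1).trans (cc _ _ _ (by omega) (by omega) (by omega) (by omega))
      by_cases a2 : i + 2 * l < ν + t
      · refine ih μ (ν - 1) (by omega) m1 (by omega) ((le_inf k ?_).trans (h.maxR (by omega) (by omega)
          (cc (ν - l) _ _ (by omega) (by omega) (by omega) (by omega)) fun e =>
            nc (ν - l) ν (by omega) ((commutator_comm _ _).trans (commutator_eq_bot_iff_le_centralizer.2 e))))
        refine commutator_eq_bot_iff_le_centralizer.1 (commutator_commutator_eq_bot_of_rotate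
          (commutator_eq_bot_iff_le_centralizer.2 ?_) (by rw [c _ _ (by omega) (by omega), commutator_bot_left]))
        rw [commutator_comm]
        exact (cm _ _ (by omega) (by omega)).trans (cc _ _ _ (by omega) (by omega) (by omega) (by omega))
      exact ⟨by omega, k.trans (I_mono (by omega) (by omega))⟩
  have k := fun i : ℤ => key i (l - 1) (i + 1) (i + l - 1) (by omega) (by omega) (by omega) (cm _ _ (by omega) (by omega))
  exact ⟨l, by have := (k 0).1; omega, lt, c, fun _ i => ⟨nc i _ rfl, (k i).2⟩⟩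

end SH
end Cfsg.Agent.Loc
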