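import Cfsg.Agent.Loc.Sims
import Cfsg.Agent.Loc.Am4

/-! Sims' lemma for `p = 2`: the structure of `P ∩ P^g`. -/
set_option autoImplicit false
namespace Cfsg.Agent.Loc
open Subgroup Cfsg
open scoped commutatorElement

variable {G : Type*} [Group G] [Finite G] {p t : ℕ} {P X A T : Subgroup G} {g : G} {i j : ℤ}

namespace SH
variable (h : SH p t P g)
include h

theorem powX {x : G} (hx : x ∈ I t P g i i) : x ^ p = 1 := by
  have := h.card_I (i := i) (j := i) 1 h.t_pos rfl
  rw [pow_one] at this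
  rw [← this]
  exact congrArg Subtype.val (pow_card_eq_one' (x := (⟨x, hx⟩ : I t P g i i)))

theorem cent (h1 : i ≤ j + 1) (h2 : j < i + t) (hc : ∀ k, i ≤ k → k ≤ j → ⁅I t P g k k, X⁆ = ⊥) :
    I t P g i j ≤ centralizer (X : Set G) :=
  h.gen' h1 h2 fun k k1 k2 => commutator_eq_bot_iff_le_centralizer.1 (hc k k1 k2)

theorem ea (h1 : i ≤ j + 1) (h2 : j < i + t)
    (hc : ∀ k m, i ≤ k → k ≤ j → i ≤ m → m ≤ j → ⁅I t P g k k, I t P g m m⁆ = ⊥) :
    IsElementaryAbelian p (I t P g i j) := by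
  have c : I t P g i j ≤ centralizer (I t P g i j : Set G) := h.gen' h1 h2 fun k k1 k2 =>
    le_centralizer_iff.1 (h.cent h1 h2 fun m m1 m2 => hc m k m1 m2 k1 k2)
  have e : omegaOne p (I t P g i j) = I t P g i j := le_antisymm (omegaOne_le _ _)
    (h.gen' h1 h2 fun k k1 k2 => le_omegaOne (I_mono k1 k2) fun x hx => h.powX hx)
  exact e ▸ isElementaryAbelian_omegaOne c

theorem norm (h1 : i ≤ j + 1) (h2 : j < i + t) (hc : ∀ k, i ≤ k → k ≤ j → ⁅X, I t P g k k⁆ ≤ I t P g i j) :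
    X ≤ normalizer (I t P g i j : Set G) := fun x hx => mem_normalizer_of_cj_le (cj_le_iff.2
  (h.gen' h1 h2 fun k k1 k2 w hw => mem_cj_inv.2 (by
    simpa [commutatorElement_def] using mul_mem (hc k k1 k2 (commutator_mem_commutator hx hw)) (I_mono k1 k2 hw))))

end SH

theorem comm_cent_of_invol {x w : G} (hx : x ^ 2 = 1) (hw : w ^ 2 = 1) (hc : ⁅x, w⁆ ^ 2 = 1) :
    w * ⁅x, w⁆ = ⁅x, w⁆ * w := by
  rw [pow_two] at hx hw hc
  have e : w * ⁅x, w⁆ = ⁅x, w⁆⁻¹ * w := by
    rw [commutatorElement_inv, commutatorElement_def, commutatorElement_def, inv_eq_of_mul_eq_one_right hx,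
      inv_eq_of_mul_eq_one_right hw]
    simp only [mul_assoc]
  rw [e, inv_eq_of_mul_eq_one_right hc]

theorem comm_le_cent {Y W : Subgroup G} (hX : ∀ x ∈ X, x ^ 2 = 1) (hY : ∀ x ∈ Y, x ^ 2 = 1) (hc : Nat.card Y = 2)
    (hW : IsElementaryAbelian 2 W) (h : ⁅X, Y⁆ ≤ W) : ⁅X, Y⁆ ≤ centralizer (Y : Set G) := by
  refine commutator_le.2 fun x hx w hw v hv => ?_
  by_cases e : w = 1
  · simp [e]
  by_cases e' : v = 1
  · simp [e']
  obtain ⟨z, -, hz⟩ := (Nat.card_eq_two_iff' (1 : Y)).1 hc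
  obtain rfl : v = w := congrArg Subtype.val
    ((hz ⟨v, hv⟩ fun k => e' (congrArg Subtype.val k)).trans (hz ⟨w, hw⟩ fun k => e (congrArg Subtype.val k)).symm)
  exact comm_cent_of_invol (hX x hx) (hY v hv) (hW.2 _ (h (commutator_mem_commutator hx hv)))

/-- the conclusion of the Sims analysis -/
structure SC (P Q A : Subgroup G) : Prop where
  ea : IsElementaryAbelian 2 Q
  card : Nat.card Q ≤ 8
  inv : ∃ s ∈ P, s ∉ Q ∧ s * s = 1
  alt : Nat.card Q ≤ 2 ∧ IsElementaryAbelian 2 P ∨ ¬ Q ⊓ centralizer (P : Set G) ≤ centralizer (A : Set G)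
  exZ : ∃ Z ≤ Q, Z ≤ centralizer (A : Set G) ∧ Nat.card Q ≤ 4 * Nat.card Z

theorem sims_core (hP : IsPGroup 2 P) (hi : (P ⊓ cj g P).relIndex P = 2) (hA : P ⊔ cj g P = A)
    (hc : ∀ N ≤ P, A ≤ normalizer (N : Set G) → cj g⁻¹ A ≤ normalizer (N : Set G) → N = ⊥) :
    SC P (P ⊓ cj g P) A := by
  obtain ⟨t, ht⟩ := hP.exists_card_eq
  have h : SH 2 t P g := ⟨Nat.prime_two, ht, hi, fun Q l1 l2 e => by
    have : A ≤ normalizer (Q : Set G) := hA ▸ sup_le l2 (by rw [← e, ← cj_normalizer]; exact cj_mono g l2)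
    exact hc Q l1 this (by rw [cj_eq_iff.1 e, ← cj_normalizer]; exact cj_mono _ this)⟩
  have p0 : P = SH.I t P g 0 (t - 1) := by
    have := (SH.I_eq (t := t) (P := P) (g := g) 0).symm
    rwa [zpow_zero, cj_one, zero_add] at this
  have p1 : cj g P = SH.I t P g 1 t := by simpa using (SH.I_eq (t := t) (P := P) (g := g) 1).symm
  have p2 : cj g⁻¹ P = SH.I t P g (-1) (t - 2) := by
    have := (SH.I_eq (t := t) (P := P) (g := g) (-1)).symm
    rwa [zpow_neg_one, show (-1 : ℤ) + t - 1 = t - 2 by ring] at this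
  have q : P ⊓ cj g P = SH.I t P g 1 (t - 1) := by
    have := Wn_inf (P := P) (g := g) (a := 0) (b := 0) (c := 1) (d := 1) zero_le_one le_rfl zero_le_one
    rw [Wn_self, Wn_self, zpow_zero, zpow_one, cj_one] at this
    rw [this, SH.I]; congr 1; ring
  have tp := h.t_pos
  have gA : ∀ Y : Subgroup G, (∀ k : ℤ, 0 ≤ k → k ≤ t → SH.I t P g k k ≤ Y) → A ≤ Y := fun Y hY => hA ▸ sup_le
    (p0.le.trans (h.gen' (by omega) (by omega) fun k k1 k2 => hY k k1 (by omega)))
    (p1.le.trans (h.gen' (by omega) (by omega) fun k k1 k2 => hY k (by omega) k2))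
  have key : ∀ N ≤ P, (∀ k : ℤ, -1 ≤ k → k ≤ t → SH.I t P g k k ≤ normalizer (N : Set G)) → N = ⊥ := fun N l hN =>
    hc N l (gA _ fun k k1 k2 => hN k (by omega) k2) (by
      rw [← hA, cj_sup, cj_inv_cj]
      exact sup_le (p2.le.trans (h.gen' (by omega) (by omega) fun k k1 k2 => hN k k1 (by omega)))
        (p0.le.trans (h.gen' (by omega) (by omega) fun k k1 k2 => hN k (by omega) (by omega))))
  obtain ⟨l, a1, a2, a3, a4⟩ := h.main
  have cX : ∀ k : ℤ, Nat.card (SH.I t P g k k) = 2 := fun k => h.card_I 1 tp rfl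
  have cc : ∀ k m : ℤ, k < m + l → m < k + l → SH.I t P g k k ≤ centralizer (SH.I t P g m m : Set G) :=
    fun k m k1 k2 => commutator_eq_bot_iff_le_centralizer.1 (a3 k m k1 k2)
  have b1 : 2 * l ≤ t + 2 := by
    by_contra hl
    exact h.X_ne (l - 2) (key _ ((SH.I_mono (by omega) (by omega)).trans p0.ge) fun k k1 k2 =>
      le_normalizer_of_le_centralizer (cc _ _ (by omega) (by omega)))
  have b2 : t ≤ 4 := by
    by_contra h4
    obtain rfl : t = 6 := by omega
    obtain rfl : l = 4 := by omega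
    have a5 := a4 (by omega)
    have := h.card_I (i := 1) (j := 4) 4 (by omega) rfl
    rw [key (SH.I 6 P g 1 4) ((SH.I_mono (by omega) (by omega)).trans p0.ge) fun k k1 k2 => ?_] at this
    · simp at this
    refine h.norm (by omega) (by omega) fun m m1 m2 => ?_
    by_cases c1 : k < m + 4 ∧ m < k + 4
    · rw [a3 k m c1.1 c1.2]; exact bot_le
    by_cases c2 : m = k + 4
    · exact c2 ▸ (a5 k).2.trans (SH.I_mono (by omega) (by omega))
    by_cases c3 : k = m + 4
    · rw [commutator_comm]; exact c3 ▸ (a5 m).2.trans (SH.I_mono (by omega) (by omega))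
    by_cases c4 : k = -1
    · obtain rfl : m = 4 := by omega
      subst c4
      have l1 : ⁅SH.I 6 P g (-1) (-1), SH.I 6 P g 4 4⁆ ≤ SH.I 6 P g 0 3 :=
        (commutator_mono (SH.I_mono le_rfl (by omega)) (SH.I_mono (by omega) le_rfl)).trans
          (h.comm (i := -1) (j := 4) (by omega))
      exact (le_inf l1 (comm_le_cent (fun _ => h.powX) (fun _ => h.powX) (cX _) (h.ea (by omega) (by omega)
        fun _ _ _ _ _ _ => a3 _ _ (by omega) (by omega)) l1)).trans ((h.maxL (by omega) (by omega)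
        (h.cent (by omega) (by omega) fun _ _ _ => a3 _ _ (by omega) (by omega)) fun e =>
          (a5 0).1 (commutator_eq_bot_iff_le_centralizer.2 e)).trans (SH.I_mono le_rfl (by omega)))
    · obtain rfl : m = 1 := by omega
      obtain rfl : k = 6 := by omega
      have l1 : ⁅SH.I 6 P g 6 6, SH.I 6 P g 1 1⁆ ≤ SH.I 6 P g 2 5 :=
        (commutator_mono (SH.I_mono (by omega) le_rfl) (SH.I_mono le_rfl (by omega))).trans
          (h.comm (i := 1) (j := 6) (by omega))
      exact (le_inf l1 (comm_le_cent (fun _ => h.powX) (fun _ => h.powX) (cX _) (h.ea (by omega) (by omega)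
        fun _ _ _ _ _ _ => a3 _ _ (by omega) (by omega)) l1)).trans ((h.maxR (by omega) (by omega)
        (h.cent (by omega) (by omega) fun _ _ _ => a3 _ _ (by omega) (by omega)) fun e =>
          (a5 1).1 ((commutator_comm _ _).trans (commutator_eq_bot_iff_le_centralizer.2 e))).trans
          (SH.I_mono (by omega) (by omega)))
  have cQ := h.card_I (i := 1) (j := t - 1) (t - 1) (by omega) (by omega)
  rw [q]
  refine ⟨h.ea (by omega) (by omega) fun _ _ _ _ _ _ => a3 _ _ (by omega) (by omega),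
    cQ.le.trans (Nat.pow_le_pow_right two_pos (show t - 1 ≤ 3 by omega)), ?_, ?_, ?_⟩
  · have : ¬ SH.I t P g 0 0 ≤ SH.I t P g 1 (t - 1) := fun e => by
      have := relIndex_eq_one.2 (p0.le.trans ((h.gen' (by omega) (by omega) fun k k1 k2 =>
        (eq_or_lt_of_le k1).elim (fun e' => e' ▸ e) fun e' => SH.I_mono (by omega) k2).trans q.ge))
      omega
    obtain ⟨s, s1, s2⟩ := SetLike.not_le_iff_exists.1 this
    exact ⟨s, p0.ge (SH.I_mono le_rfl (by omega) s1), s2, by rw [← pow_two, h.powX s1]⟩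
  · by_cases h2 : t ≤ 2
    · exact Or.inl ⟨cQ.le.trans (Nat.pow_le_pow_right two_pos (show t - 1 ≤ 1 by omega)),
        p0 ▸ h.ea (by omega) (by omega) fun _ _ _ _ _ _ => a3 _ _ (by omega) (by omega)⟩
    refine Or.inr fun e => (a4 (by omega) 1).1 (commutator_eq_bot_iff_le_centralizer.2 (((le_inf
      (SH.I_mono le_rfl (by omega)) (le_centralizer_iff.1 (p0.le.trans (h.cent (by omega) (by omega)
        fun _ _ _ => a3 _ _ (by omega) (by omega))))).trans e).trans (centralizer_anti ?_)))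
    exact (SH.I_mono (by omega) (by omega)).trans (p1.ge.trans (hA ▸ le_sup_right))
  · by_cases h4 : t = 4
    · refine ⟨SH.I t P g 2 2, SH.I_mono (by omega) (by omega), le_centralizer_iff.1 (gA _ fun k k1 k2 =>
        cc _ _ (by omega) (by omega)), by rw [cQ, cX, h4]; norm_num⟩
    · exact ⟨⊥, bot_le, bot_le, by
        rw [cQ, card_bot]; exact Nat.pow_le_pow_right two_pos (show t - 1 ≤ 2 by omega)⟩

end Cfsg.Agent.Loc
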