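import Cfsg.Agent.Loc.Sims2
import Cfsg.Agent.FG.Three
import Cfsg.Agent.Invol.Dihedral

/-! Sims' theorem on suborbits of length three. -/
set_option autoImplicit false
namespace Cfsg.Agent.Loc
open Subgroup Cfsg
open scoped commutatorElement

variable {G : Type*} [Group G] [Finite G] {A B T : Subgroup G} {k : G}

theorem S3.sims (h : S3 T A) (hk : T ≤ cj k A)
    (hc : ∀ N ≤ T, A ≤ normalizer (N : Set G) → cj k A ≤ normalizer (N : Set G) → N = ⊥) :
    SC T (pCoreOf 2 A) A := by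
  have h' : S3 (cj k⁻¹ T) A := h.of_syl (sylIn_of_card_le h.syl (le_cj_iff.1 hk) (isPGroup_cj _ h.syl.pg)
    (card_cj _ _).ge)
  obtain ⟨a, ha, hne⟩ : ∃ a ∈ A, T ≠ cj a (cj k⁻¹ T) := by
    by_cases e : T = cj k⁻¹ T
    · obtain ⟨a, ha, hn⟩ := SetLike.not_le_iff_exists.1 h.not_norm
      exact ⟨a, ha, by rw [← e]; exact fun e' => hn (mem_normalizer_iff_cj.2 e'.symm)⟩
    · exact ⟨1, one_mem _, by rwa [cj_one]⟩
  have h'' : S3 (cj a (cj k⁻¹ T)) A := h.of_syl (h'.syl.conj_of_mem ha)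
  rw [cj_cj] at hne h''
  rw [← h.inf_eq h'' hne]
  exact sims_core h.syl.pg (by rw [h.inf_eq h'' hne, h.idx2]) (h.sup_eq' h'' hne) fun N l1 l2 l3 => hc N l1 l2 (by
    rwa [mul_inv_rev, inv_inv, ← cj_cj, cj_eq_of_mem (inv_mem ha)] at l3)

theorem S3.dih (h : S3 T A) (hQ : Nat.card (pCoreOf 2 A) = 2) (hT : IsElementaryAbelian 2 T)
    (hc : pResidualOf 2 A ≤ centralizer (pCoreOf 2 A : Set G)) : Nonempty (A ≃* DihedralGroup 6) := by
  obtain ⟨e, he, h3⟩ := h.exists_three
  obtain ⟨s, hs, hn⟩ := h.exists_not_mem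
  obtain ⟨⟨z, hz⟩, z1, -⟩ := (Nat.card_eq_two_iff' (1 : pCoreOf 2 A)).1 hQ
  have sA := h.syl.le hs
  have s2 : s * s = 1 := by rw [← pow_two, hT.2 s hs]
  have z2 := hT.2 z (h.Qle hz)
  have ce : Commute e z := (hc (mem_pResidualOf he (by rw [h3]; norm_num)) z hz).symm
  have cs : s * z = z * s := (isElementaryAbelian_iff.1 hT).1 (h.Qle hz) s hs
  have e3 : e ^ 3 = 1 := h3 ▸ pow_orderOf_eq_one e
  have o6 : orderOf (e * z) = 6 := by
    have := orderOf_eq_prime z2 fun k => z1 (Subtype.ext k)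
    rw [ce.orderOf_mul_eq_mul_orderOf_of_coprime (by rw [h3, this]; norm_num), h3, this]
  have rA : zpowers (e * z) ≤ A := zpowers_le.2 (mul_mem he (pCoreOf_le _ _ hz))
  have i2 : (zpowers (e * z)).relIndex A = 2 := by
    have := Solv.card_mul_relIndex rA
    rw [Nat.card_zpowers, o6, h.card, hQ] at this
    omega
  have er : e ∈ zpowers (e * z) := by
    have := pow_mem (mem_zpowers (e * z)) 4
    rwa [ce.mul_pow, pow_succ, e3, one_mul, show 4 = 2 * 2 from rfl, pow_mul, z2, one_pow, mul_one] at this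
  have cr : ∀ x ∈ zpowers (e * z), Commute x e := fun x hx => congrArg Subtype.val
    ((IsCyclic.isMulCommutative (α := zpowers (e * z))).is_comm.comm ⟨x, hx⟩ ⟨e, er⟩)
  have sr : s ∉ zpowers (e * z) := fun k => hn (h.mem_Q_of_comm sA he h3 s2 (cr s k))
  have c := cr _ (conj_mem_of_mem_normalizer (le_normalizer_of_idx2 i2 rA sA) er)
  have si := inv_eq_of_mul_eq_one_right s2
  have u : s * e * s⁻¹ * e = 1 := by
    by_contra u
    refine hn (h.mem_Q_of_comm sA (mul_mem (mul_mem (mul_mem sA he) (inv_mem sA)) he) (orderOf_eq_prime (by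
      rw [c.mul_pow, conj_pow, e3]; simp) u) s2 ?_)
    rw [c.eq, si]
    simp only [← mul_assoc, s2, one_mul]
    rw [mul_assoc _ s s, s2, mul_one]
    have := c.eq
    rw [si] at this
    calc s * e * s * e * s = (e * (s * e * s)) * s := by rw [this]
      _ = e * s * e := by rw [← mul_assoc, mul_assoc _ s s, s2, mul_one, mul_assoc]
  refine Invol.nonempty_equiv_dihedral s2 ?_ o6 sr fun d => ⟨fun hd => ?_, ?_⟩
  · rw [mul_inv_rev, ← eq_inv_of_mul_eq_one_left u, inv_eq_of_mul_eq_one_right ((pow_two z).symm.trans z2), ce.eq,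
      ← mul_assoc, cs]
    simp only [mul_assoc]
  · by_cases k : d ∈ zpowers (e * z)
    · obtain ⟨k, rfl⟩ := k
      exact ⟨k, Or.inl rfl⟩
    · obtain ⟨k, hk⟩ := mul_mem_of_idx2 i2 sA hd sr k
      exact ⟨k, Or.inr (by rw [show (e * z) ^ k = s * d from hk, ← mul_assoc, s2, one_mul])⟩
  · rintro ⟨k, rfl | rfl⟩
    exacts [rA ⟨k, rfl⟩, mul_mem sA (rA ⟨k, rfl⟩)]

theorem S3.struct (h : S3 T A) (s : SC T (pCoreOf 2 A) A) : Nat.card A = 6 ∧ Nonempty (A ≃* Equiv.Perm (Fin 3)) ∨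
    Nat.card A = 12 ∧ Nonempty (A ≃* DihedralGroup 6) ∨ Nat.card A = 24 ∧ Nonempty (A ≃* Equiv.Perm (Fin 4)) ∨
    Nat.card A = 48 ∧ Nonempty (A ≃* Equiv.Perm (Fin 4) × Multiplicative (ZMod 2)) := by
  by_cases hc : ChP 2 A
  · obtain ⟨t, t1, t2⟩ := s.inv
    exact Or.inr (Or.inr ((iso_of_small h hc ⟨s.ea, s.card, t, h.syl.le t1, t2⟩).imp_right fun ⟨a, ⟨e⟩⟩ =>
      ⟨a, ⟨e.trans MulEquiv.prodComm⟩⟩))
  have c := h.res (le_normalizer_centralizer (le_normalizer_pCoreOf 2 A)) inf_le_left inf_le_right hc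
  obtain ⟨h2, ea⟩ := s.alt.resolve_right (not_not.2 (by
    refine le_trans ?_ (centralizer_anti h.sup_res.ge)
    rw [centralizer_sup']
    exact le_inf inf_le_right (inf_le_left.trans (le_centralizer_iff.1 c))))
  have := h.card
  have : 0 < Nat.card (pCoreOf 2 A) := Nat.card_pos
  by_cases h1 : Nat.card (pCoreOf 2 A) = 2
  · exact Or.inr (Or.inl ⟨by omega, h.dih h1 ea c⟩)
  · exact Or.inl ⟨by omega, FG.equiv_S3 (by omega) fun k => h.not_norm (le_normalizer_of_le_centralizer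
      ((le_centralizer A).trans (centralizer_anti h.syl.le)))⟩

theorem core3 (hl : T ≤ A) (hi : T.relIndex A = 3) : ∃ K ≤ T, A ≤ normalizer (K : Set G) ∧ K.relIndex T ∣ 2 := by
  have h : (T.subgroupOf A).normalCore.index ∣ (T.subgroupOf A).index.factorial := by
    rw [normalCore_eq_ker, index_ker, index_eq_card, ← Nat.card_perm]
    exact card_subgroup_dvd_card _
  refine ⟨(T.subgroupOf A).normalCore.map A.subtype, map_le_iff_le_comap.2 (normalCore_le _),
    normal_map_subtype inferInstance, ?_⟩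
  rw [← relIndex_mul_index (normalCore_le _), show (T.subgroupOf A).index = 3 from hi] at h
  rw [← relIndex_subgroupOf hl, subgroupOf_map_subtype']
  exact Nat.dvd_of_mul_dvd_mul_right three_pos h

theorem idx3 (hi : (A ⊓ cj k A).relIndex A = 3)
    (hc : ∀ N ≤ A ⊓ cj k A, A ≤ normalizer (N : Set G) → cj k A ≤ normalizer (N : Set G) → N = ⊥) :
    Nat.card A = 3 ∨ S3 (A ⊓ cj k A) A := by
  set T := A ⊓ cj k A
  have e1 := Solv.card_mul_relIndex (inf_le_left : T ≤ A)
  have hi' : T.relIndex (cj k A) = 3 := by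
    have e2 := Solv.card_mul_relIndex (inf_le_right : T ≤ _)
    rw [card_cj, ← e1, hi] at e2
    exact Nat.eq_of_mul_eq_mul_left Nat.card_pos e2
  have n : ∀ B, T ≤ B → T.relIndex B = 3 → B ≤ normalizer ((pResidualOf 2 T : Subgroup G) : Set G) := fun B l i => by
    obtain ⟨K, l1, l2, c, l3⟩ := core3 l i
    have := (normal_subgroupOf_iff_le_normalizer l1).2 (l.trans l2)
    rw [← pResidualOf_eq_of_le (pResidualOf_le_of_forall_pow fun x hx => ⟨1, by
      rw [pow_one, l3, pow_mul]; exact pow_mem (pow_index_mem (H := K.subgroupOf T) ⟨x, hx⟩) c⟩) l1]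
    exact l2.trans (normalizer_le_normalizer_pResidualOf _ _)
  have pT := isPGroup_of_pResidualOf_eq_bot (hc _ (pResidualOf_le 2 T) (n _ inf_le_left hi) (n _ inf_le_right hi'))
  have s := sylIn_of_not_dvd_relIndex (inf_le_left : T ≤ A) pT (by rw [hi]; norm_num)
  have s' := sylIn_of_not_dvd_relIndex (inf_le_right : T ≤ _) pT (by rw [hi']; norm_num)
  obtain ⟨K, l1, l2, l3⟩ := core3 inf_le_left hi
  rcases (Nat.dvd_prime Nat.prime_two).1 ((relIndex_dvd_of_le_left T (le_pCoreOf (l1.trans inf_le_left) l2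
    (pT.to_le l1))).trans l3) with e | e
  · have e' := le_antisymm s.pCoreOf_le (relIndex_eq_one.1 e)
    have e'' := eq_of_le_of_card_ge s'.pCoreOf_le (by rw [← cj_pCoreOf, card_cj, e'])
    have : A ⊓ cj k A = ⊥ := e' ▸ hc _ e'.le (le_normalizer_pCoreOf 2 A) (by
      rw [e', ← e'']; exact le_normalizer_pCoreOf 2 _)
    rw [hi, this, card_bot] at e1
    exact Or.inl e1.symm
  · exact Or.inr ⟨s, hi, e⟩

open MulAction in
theorem prim3 {Ω : Type*} [MulAction G Ω] [FaithfulSMul G Ω] (hp : IsPreprimitive G Ω) (a b : Ω)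
    (h3 : Nat.card (orbit (stabilizer G a) b) = 3) :
    Nat.card (stabilizer G a) = 3 ∨ ∃ T, S3 T (stabilizer G a) ∧ SC T (pCoreOf 2 (stabilizer G a)) (stabilizer G a) := by
  obtain ⟨k, rfl⟩ := hp.exists_smul_eq a b
  have e : stabilizer G (k • a) = cj k (stabilizer G a) := stabilizer_smul_eq_stabilizer_map_conj k a
  have hi : (stabilizer G a ⊓ cj k (stabilizer G a)).relIndex (stabilizer G a) = 3 := by
    rw [inf_relIndex_left, ← e, ← h3, Nat.card_coe_set_eq, ← index_stabilizer]; rfl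
  have nl : ¬ cj k (stabilizer G a) ≤ stabilizer G a := fun l => by
    rw [cj_eq_of_cj_le l, inf_idem, relIndex_self] at hi
    omega
  have : Nontrivial Ω := ⟨k • a, a, fun e' => nl (by rw [← e, e'])⟩
  have hc : ∀ N ≤ stabilizer G a ⊓ cj k (stabilizer G a), stabilizer G a ≤ normalizer (N : Set G) →
      cj k (stabilizer G a) ≤ normalizer (N : Set G) → N = ⊥ := fun N l l1 l2 => by
    have : N.Normal := normal_of_top_le_normalizer (((hp.isCoatom_stabilizer_of_isPreprimitive G a).le_iff.1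
      l1).resolve_right fun e => nl (l2.trans e.le)).ge
    refine le_bot_iff.1 fun x hx => eq_of_smul_eq_smul (α := Ω) fun c => ?_
    obtain ⟨g, rfl⟩ := hp.exists_smul_eq a c
    have := mem_stabilizer_iff.1 (l (this.conj_mem' x hx g)).1
    rw [mul_smul, mul_smul, inv_smul_eq_iff] at this
    rw [this, one_smul]
  exact (idx3 hi hc).imp_right fun h => ⟨_, h, h.sims inf_le_right hc⟩

end Cfsg.Agent.Loc
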