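import Cfsg.Agent.PGrp.Sympl
import Cfsg.Agent.Loc.Syl
import Cfsg.Agent.Invol.Transfer

/-! Four-groups acting on perfect groups with centralisers of `2`-rank one. -/

set_option autoImplicit false

namespace Cfsg.Agent.Loc.V4Rk

open Subgroup Cfsg.Agent.PGrp
open scoped commutatorElement

theorem struct {X : Type*} [Group X] [Finite X] (hX : IsPGroup 2 X) (S : Subgroup X) [S.Normal]
    (h : ∀ B ≤ S, B.Normal → IsElementaryAbelian 2 B → Nat.card B ≠ 2 ^ 2) :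
    ∃ a ∈ S, (zpowers a).Normal ∧ (∀ x ∈ S, Commute x a → x ∈ zpowers a) ∧
      (S ≤ zpowers a ∨ (zpowers a).relIndex S = 2) := by
  obtain ⟨C, ⟨h1, h2, h3⟩, hm⟩ := exists_maximal_of_wellFoundedGT
    (fun C : Subgroup X => C ≤ S ∧ C.Normal ∧ IsMulCommutative C) ⟨⊥, bot_le, inferInstance, inferInstance⟩
  have h4 : S ⊓ centralizer C ≤ C := by_contra fun e => by
    obtain ⟨x, hx, k1, -, k2⟩ := exists_central_mod_pow hX e
    exact k1 (hm ⟨sup_le h1 (zpowers_le.2 hx.1), normal_sup_zpowers k2, isMulCommutative_sup_zpowers hx.2⟩ le_sup_left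
      (mem_sup_right (mem_zpowers x)))
  have h5 : IsCyclic C := isCyclic_of_unique (hX.to_subgroup C) fun H K e1 e2 => by_contra fun e => by
    have k1 : ∀ x ∈ omegaOne 2 C, x ∈ C ∧ x ^ 2 = 1 := fun x => (closure_le (K := ⟨⟨⟨{x | x ∈ C ∧ x ^ 2 = 1},
      fun hg hg' => ⟨mul_mem hg.1 hg'.1, by rw [Commute.mul_pow (setLike_mul_comm hg.1 hg'.1), hg.2, hg'.2, one_mul]⟩⟩,
        one_mem _, one_pow 2⟩, fun hg => ⟨inv_mem hg.1, by rw [inv_pow, hg.2, inv_one]⟩⟩)).2 (fun _ h => h) (x := x)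
    have : (omegaOne 2 C).Normal := ⟨fun g hg y => subset_closure ⟨h2.conj_mem g (k1 g hg).1 y, by
      rw [conj_pow, (k1 g hg).2]; group⟩⟩
    have k2 : ∀ H : Subgroup C, Nat.card H = 2 → H.map C.subtype ≤ omegaOne 2 C := by
      rintro H hH _ ⟨g, hg, rfl⟩
      have := pow_card_eq_one' (x := (⟨g, hg⟩ : H))
      rw [hH] at this
      exact subset_closure ⟨g.2, congrArg (fun t : H => ((t : C) : X)) this⟩
    obtain ⟨m, hm⟩ := (hX.to_subgroup (omegaOne 2 C)).exists_card_eq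
    have k3 : ∀ H : Subgroup C, Nat.card H = 2 → m ≤ 1 → H.map C.subtype = omegaOne 2 C := fun H hH l =>
      eq_of_le_of_card_ge (k2 H hH) (by
        rw [card_map_of_injective C.subtype_injective, hH, hm]; exact Nat.pow_le_pow_right two_pos l)
    obtain ⟨B, hB, k4, k5⟩ := exists_normal_card_eq hX (N := omegaOne 2 C) 2 (hm ▸ Nat.pow_le_pow_right two_pos
      (not_le.1 fun l => e (map_injective C.subtype_injective ((k3 H e1 l).trans (k3 K e2 l).symm))))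
    exact h B (fun x hx => h1 (k1 x (k4 hx)).1) hB ⟨⟨⟨fun g g' => Subtype.ext
      (setLike_mul_comm (k1 _ (k4 g.2)).1 (k1 _ (k4 g'.2)).1)⟩⟩, fun g hg => (k1 g (k4 hg)).2⟩ k5
  obtain ⟨a, rfl⟩ := (Subgroup.isCyclic_iff_exists_zpowers_eq_top C).1 h5
  have ha := h1 (mem_zpowers a)
  refine ⟨a, ha, h2, fun x hx e => h4 ⟨hx, mem_centralizer_zpowers.2 e⟩, or_iff_not_imp_left.2 fun hn => ?_⟩
  have e : zpowers (⟨a, ha⟩ : S) = (zpowers a).subgroupOf S := by
    rw [← map_subtype_inj, MonoidHom.map_zpowers, subgroupOf_map_subtype, inf_eq_left.2 h1]; rfl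
  have : (zpowers (⟨a, ha⟩ : S)).Normal := e ▸ inferInstance
  obtain ⟨n, hn'⟩ := (hX.to_subgroup S).exists_orderOf_eq_pow ⟨a, ha⟩
  rcases mc_or_modu (hX.to_subgroup S) hn' (le_antisymm (fun x hx => e ▸ h4 ⟨x.2, mem_centralizer_zpowers.2
      (congrArg Subtype.val (mem_centralizer_zpowers.1 hx))⟩) (le_centralizer _))
    (fun k => hn (subgroupOf_eq_top.1 (e ▸ k))) with ⟨-, x, hx⟩ | ⟨x, k, hx⟩
  · exact (congrArg index e).symm.trans hx.idx
  · have := hx.characteristic (hX.to_subgroup S)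
    rw [hx.omega_eq] at this
    exact absurd ((card_map_of_injective S.subtype_injective).trans hx.card) (h _ (map_subtype_le _) inferInstance
      ⟨have := hx.elem.1; inferInstance, by rintro _ ⟨g, hg, rfl⟩; rw [← map_pow, hx.elem.2 g hg, map_one]⟩)

theorem ww {X : Type*} [Group X] {w : X} (h : w * w = 1) (x : X) : w * (w * x * w⁻¹) * w⁻¹ = x := by
  rw [show w * (w * x * w⁻¹) * w⁻¹ = (w * w) * x * (w * w)⁻¹ by group, h]; group

theorem two {X : Type*} [Group X] [Finite X] (hX : IsPGroup 2 X) (S : Subgroup X) [hS : S.Normal] {u v : X}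
    (hu : u * u = 1) (hv : v * v = 1) (huv : u * v = v * u) (hg : ∀ t, ∃ s ∈ S, ∃ w, w * w = 1 ∧ t = s * w)
    (H : ∀ w, w = u ∨ w = v ∨ w = u * v → ∀ a ∈ S, ∀ b ∈ S, a * a = 1 → b * b = 1 → a ≠ 1 → b ≠ 1 → Commute a b →
      w * a * w⁻¹ = a → w * b * w⁻¹ = b → a = b)
    {a0 b0 : X} (ha : a0 ∈ S) (hb : b0 ∈ S) (a2 : a0 * a0 = 1) (b2 : b0 * b0 = 1) (a1 : a0 ≠ 1) (b1 : b0 ≠ 1)
    (hab : a0 ≠ b0) : ∃ C ≤ S, ∃ z ∈ center X, C.relIndex S = 2 ∧ (∀ x ∈ C, x * x = 1 → x = 1 ∨ x = z) ∧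
      (∀ t, t * t ∈ C) ∧ ∃ s ∈ S, s ∉ C ∧ s * s = 1 ∧ ∃ x, Commute x s ∧ x * x ≠ 1 := by
  have cz : ∀ (B : Subgroup X) [B.Normal], B ≠ ⊥ → ∃ z ∈ B, z ≠ 1 ∧ z * z = 1 ∧ ∀ g, Commute z g := fun B _ h => by
    obtain ⟨z, h1, h2, h3, h4⟩ := exists_central_mod_pow hX (M := ⊥) (N := B) (by rwa [le_bot_iff])
    exact ⟨z, h1, h2, (pow_two z).symm.trans h3, fun g => commutatorElement_eq_one_iff_commute.1 (h4 g)⟩
  have uv : u * v * (u * v) = 1 := by rw [mul_assoc, ← mul_assoc v, ← huv, mul_assoc, hv, mul_one, hu]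
  have hw : ∀ w, w = u ∨ w = v ∨ w = u * v → w * w = 1 := by rintro w (rfl | rfl | rfl) <;> assumption
  have H' : ∀ z ∈ S, z ≠ 1 → z * z = 1 → (∀ g, Commute z g) → ∀ w, w = u ∨ w = v ∨ w = u * v → ∀ a ∈ S, a * a = 1 →
      w * a * w⁻¹ = a → a ∈ zpowers z := fun z z1 z2 z3 z4 w h a ha a2 e => by
    by_cases k : a = 1
    · exact k ▸ one_mem _
    · exact H w h a ha z z1 a2 z3 k z2 (z4 a).symm e (by rw [← (z4 w).eq, mul_inv_cancel_right]) ▸ mem_zpowers z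
  have mz : ∀ {z x : X}, z * z = 1 → x ∈ zpowers z → x = 1 ∨ x = z := by
    rintro z _ h ⟨k, rfl⟩
    have e : z ^ (2 : ℤ) = 1 := (zpow_two z).trans h
    rcases Int.even_or_odd' k with ⟨j, rfl | rfl⟩ <;> simp [zpow_add, zpow_mul, e]
  obtain ⟨a, aS, hN, hc, hi⟩ := struct hX S fun B hB _ hE hc => by
    obtain ⟨z, z1, z2, z3, zc⟩ := cz B (by rintro rfl; simp at hc)
    obtain ⟨x, hx, x1⟩ : ∃ x ∈ B, x ∉ zpowers z := by_contra fun e => by
      have := card_le_of_le (show B ≤ zpowers z from fun x hx => by_contra fun h => e ⟨x, hx, h⟩)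
      rw [hc, card_zpowers_of_pow_eq_one (p := 2) ((pow_two z).trans z3) z2] at this; omega
    have x2 : ∀ y ∈ B, y * y = 1 := fun y hy => (pow_two y).symm.trans (hE.2 y hy)
    have := hE.1
    have k : ∀ w, w = u ∨ w = v ∨ w = u * v → w * x * w⁻¹ = x * z := fun w h => by
      have m : w * x * w⁻¹ ∈ B := Normal.conj_mem ‹_› x hx w
      rcases mz z3 (H' z (hB z1) z2 z3 zc w h _ (hB (mul_mem hx m)) (x2 _ (mul_mem hx m)) (by
        rw [← conj_mul, ww (hw w h), setLike_mul_comm hx m])) with e | e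
      · exact absurd (H' z (hB z1) z2 z3 zc w h x (hB hx) (x2 x hx) (mul_left_cancel (e.trans (x2 x hx).symm))) x1
      · rw [← e, ← mul_assoc, x2 x hx, one_mul]
    have k3 := k (u * v) (.inr (.inr rfl))
    rw [show u * v * x * (u * v)⁻¹ = u * (v * x * v⁻¹) * u⁻¹ by group, k v (.inr (.inl rfl)), ← conj_mul, k u (.inl rfl),
      ← (zc u).eq, mul_inv_cancel_right, mul_assoc, z3, mul_one, left_eq_mul] at k3
    exact z2 k3
  have CS : zpowers a ≤ S := zpowers_le.2 aS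
  obtain ⟨n, hn⟩ := hX.exists_orderOf_eq_pow a
  have hne : zpowers a ≠ ⊥ := fun e => a1 (by
    have := hc a0 ha (by rw [zpowers_eq_bot.1 e]; exact Commute.one_right _); rwa [e] at this)
  obtain ⟨z, z1, z2, z3, zc⟩ := cz _ hne
  have hz : ∀ x ∈ zpowers a, x * x = 1 → x = 1 ∨ x = z := fun x hx h =>
    mz z3 (S0519.mem_of_cyclic (p := 2) inferInstance z1 hx z2 ((pow_two z).trans z3) ((pow_two x).trans h))
  obtain ⟨s, sS, sC, s2⟩ : ∃ s ∈ S, s ∉ zpowers a ∧ s * s = 1 := by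
    by_contra! e
    exact hab (((hz a0 (by_contra fun h => e a0 ha h a2) a2).resolve_left a1).trans
      ((hz b0 (by_contra fun h => e b0 hb h b2) b2).resolve_left b1).symm)
  replace hi := hi.resolve_left fun h => sC (h sS)
  have mi : ∀ {x y}, x ∈ S → y ∈ S → (x * y ∈ zpowers a ↔ (x ∈ zpowers a ↔ y ∈ zpowers a)) := fun hx hy =>
    mul_mem_iff_of_index_two (H := (zpowers a).subgroupOf S) hi (a := ⟨_, hx⟩) (b := ⟨_, hy⟩)
  refine ⟨_, CS, z, mem_center_iff.2 fun g => (zc g).symm.eq, hi, hz, fun t => ?_, s, sS, sC, s2, ?_⟩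
  · obtain ⟨y, hy, w, w2, rfl⟩ := hg t
    obtain ⟨k, hk⟩ := exists_conj_eq_zpow (a := a) y
    obtain ⟨l, hl⟩ := exists_conj_eq_zpow (a := a) w
    obtain ⟨c, e1⟩ := dvd_pow_sub_one hk (m := 2) (by rw [pow_two, mi hy hy])
    obtain ⟨d, e2⟩ := dvd_pow_sub_one hl (m := 2) (by rw [pow_two, w2]; exact one_mem _)
    refine hc _ ?_ ((commute_iff_dvd (mul_conj_eq (mul_conj_eq hk hl) (mul_conj_eq hk hl))).2
      ⟨c * l ^ 2 + d, by linear_combination l ^ 2 * e1 + e2⟩)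
    rw [show y * w * (y * w) = y * (w * y * w⁻¹) * (w * w) by group, w2, mul_one]
    exact mul_mem hy (hS.conj_mem y hy w)
  by_contra! hx
  obtain ⟨k, hk⟩ := exists_conj_eq_zpow (a := a) s
  have dv : ∀ {j : ℤ}, a ^ j = 1 ↔ 2 ^ n ∣ j := fun {j} => by rw [← orderOf_dvd_iff_zpow_eq_one, hn]; push_cast; rfl
  have k2 := dvd_pow_sub_one hk (m := 2) (by rw [pow_two, s2]; exact one_mem _)
  have od : ∀ {w : X} {l : ℤ}, w * a * w⁻¹ = a ^ l → Odd l := fun h => odd_of_conj hn (Nat.pos_of_ne_zero fun e => hne (by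
    rwa [e, pow_zero, orderOf_eq_one_iff, ← zpowers_eq_bot] at hn)) h
  obtain ⟨m, rfl⟩ := od hk
  obtain ⟨n, rfl⟩ : ∃ n', n = n' + 2 := ⟨n - 2, by
    by_contra e
    refine sC (hc s sS ((commute_iff_dvd hk).2 ?_))
    rw [hn]
    exact (Int.natCast_dvd_natCast.2 (pow_dvd_pow 2 (by omega : n ≤ 1))).trans ⟨m, by push_cast; ring⟩⟩
  have hm : ¬ 2 ∣ m := fun ⟨c, e⟩ => by
    have := hx (a ^ (2 ^ n : ℤ)) (commute_of_dvd hk ⟨c, by rw [hn, e]; push_cast; ring⟩).symm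
    rw [← zpow_add, dv, ← two_mul, ← pow_succ', pow_dvd_pow_iff two_ne_zero (by decide)] at this
    omega
  obtain ⟨α, β, hαβ⟩ := isCoprime_pow_of_not_dvd Nat.prime_two hm (n + 2)
  rw [hn] at k2
  push_cast at k2 hαβ
  have si : s⁻¹ = s := inv_eq_of_mul_eq_one_right s2
  have key : ∀ w, w = u ∨ w = v ∨ w = u * v → ∀ l b : ℤ, w * a * w⁻¹ = a ^ l → w * s * w⁻¹ = a ^ (2 * b) * s →
      2 ^ (n + 2) ∣ l + 1 ∧ ¬ 2 ^ (n + 2) ∣ 2 * m + 2 := fun w h l b h1 h2 => by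
    have e1 : w * s * w⁻¹ = a ^ (-b * β) * s * (a ^ (-b * β))⁻¹ := by
      rw [h2, mul_assoc, ← zpow_neg, show s * a ^ (-(-b * β)) = s * a ^ (-(-b * β)) * s⁻¹ * s by group, conj_zpow_eq hk,
        ← mul_assoc, ← zpow_add, mul_left_inj, ← mul_inv_eq_one, ← zpow_sub, dv]
      exact ⟨2 * b * α, by linear_combination -2 * b * hαβ⟩
    generalize -b * β = j at e1
    have e2 := hx ((a ^ j)⁻¹ * w) (by
      rw [Commute, SemiconjBy, ← mul_inv_eq_iff_eq_mul]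
      calc _ = (a ^ j)⁻¹ * (w * s * w⁻¹) * a ^ j := by group
        _ = s := by rw [e1]; group)
    have e3 : w * a ^ j * w⁻¹ = (a ^ j)⁻¹ := by
      rw [show (a ^ j)⁻¹ * w * ((a ^ j)⁻¹ * w) = (a ^ j)⁻¹ * (w * a ^ j * w⁻¹)⁻¹ * (w * w) by group, hw w h, mul_one,
        ← mul_inv_rev, inv_eq_one] at e2
      exact eq_inv_of_mul_eq_one_left e2
    have e4 : ¬ 2 ^ (n + 2) ∣ j * (2 * m + 2) := fun e => by
      have e5 : s * a ^ j * s⁻¹ = (a ^ j)⁻¹ := by
        rw [conj_zpow_eq hk, ← mul_eq_one_iff_eq_inv, ← zpow_add, dv]; exact e.trans (dvd_of_eq (by ring))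
      refine sC ((mul_mem_cancel_left (zpow_mem_zpowers a j)).1 (zpowers_le.2 z1 (H' z (CS z1) z2 z3 zc w h _
        (mul_mem (zpow_mem aS j) sS) ?_ ?_)))
      · rw [si] at e5; rw [mul_assoc, ← mul_assoc s, e5, mul_inv_cancel]
      · rw [← conj_mul, e3, e1, mul_assoc (a ^ j), inv_mul_cancel_left, ← e5, ← mul_assoc, ← mul_assoc, s2, one_mul, si]
    have e6 : ¬ 2 ∣ j := fun ⟨c, e⟩ => e4 (by
      have := (isCoprime_pow_of_not_dvd Nat.prime_two hm (n + 2)).dvd_of_dvd_mul_left (z := 2 * (2 * m + 2))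
        (by push_cast; exact k2.trans (dvd_of_eq (by ring)))
      push_cast at this
      rw [e]; exact (this.mul_left c).trans (dvd_of_eq (by ring)))
    rw [conj_zpow_eq h1, ← mul_eq_one_iff_eq_inv, ← zpow_add, dv] at e3
    refine ⟨?_, fun e => e4 (e.mul_left j)⟩
    have := (isCoprime_pow_of_not_dvd Nat.prime_two e6 (n + 2)).dvd_of_dvd_mul_left (z := l + 1)
      (by push_cast; exact e3.trans (dvd_of_eq (by ring)))
    exact_mod_cast this
  have ex : ∀ w : X, ∃ b : ℤ, w * s * w⁻¹ = a ^ b * s := fun w => by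
    obtain ⟨b, e⟩ := (mi (hS.conj_mem s sS w) (inv_mem sS)).2 (iff_of_false
      (fun h => sC (by simpa [mul_assoc] using hN.conj_mem _ h w⁻¹)) fun h => sC (inv_mem_iff.1 h))
    exact ⟨b, by rw [show a ^ b = _ from e, inv_mul_cancel_right]⟩
  have od' : ∀ (w : X) (b : ℤ), w * s * w⁻¹ = a ^ (2 * b + 1) * s → 2 ^ (n + 2) ∣ 2 * m + 2 := fun w b h => by
    have : a ^ (2 * b + 1) * (s * a ^ (2 * b + 1) * s⁻¹) = 1 := by
      rw [si, ← mul_assoc, ← mul_assoc, mul_assoc _ _ s, ← h, conj_mul, s2]; group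
    rw [conj_zpow_eq hk, ← zpow_add, dv] at this
    have := (isCoprime_pow_of_not_dvd Nat.prime_two (u := 2 * b + 1) (by omega) (n + 2)).dvd_of_dvd_mul_left
      (z := 2 * m + 2) (by push_cast; exact this.trans (dvd_of_eq (by ring)))
    exact_mod_cast this
  obtain ⟨l1, h1⟩ := exists_conj_eq_zpow (a := a) u
  obtain ⟨l2, h2⟩ := exists_conj_eq_zpow (a := a) v
  obtain ⟨c1, e1⟩ := ex u
  obtain ⟨c2, e2⟩ := ex v
  have e3 : u * v * s * (u * v)⁻¹ = a ^ (l1 * c2 + c1) * s := by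
    rw [show u * v * s * (u * v)⁻¹ = u * (v * s * v⁻¹) * u⁻¹ by group, e2, ← conj_mul, e1, conj_zpow_eq h1, ← mul_assoc,
      ← zpow_add]
  have k1 := key u (.inl rfl) l1
  have k2 := key v (.inr (.inl rfl)) l2
  have k3 := key _ (.inr (.inr rfl)) (l1 * l2)
  obtain ⟨d, rfl⟩ := od h1
  rcases Int.even_or_odd' c1 with ⟨c1, rfl | rfl⟩ <;> rcases Int.even_or_odd' c2 with ⟨c2, rfl | rfl⟩
  · obtain ⟨x, hx⟩ := (k1 _ h1 e1).1
    obtain ⟨y, hy⟩ := (k2 _ h2 e2).1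
    obtain ⟨t, ht⟩ := (k3 ((2 * d + 1) * c2 + c1) (mul_conj_eq h1 h2) (by rw [e3]; congr 2; ring)).1
    have : (2 : ℤ) * (2 ^ n * 2 * (t - x * l2 + y)) = 2 * 1 := by linear_combination -ht + l2 * hx - hy
    have := mul_left_cancel₀ two_ne_zero this
    generalize 2 ^ n = N at this
    rw [mul_assoc, mul_left_comm] at this
    omega
  · exact (k1 _ h1 e1).2 (od' _ _ e2)
  · exact (k2 _ h2 e2).2 (od' _ _ e1)
  · exact (k3 ((2 * d + 1) * c2 + c1 + d + 1) (mul_conj_eq h1 h2) (by rw [e3]; congr 2; ring)).2 (od' _ _ e1)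

variable {G : Type*} [Group G] [Finite G]

theorem rk_iff {K : Subgroup G} : PRankLE 2 1 K ↔
    ∀ a ∈ K, ∀ b ∈ K, a * a = 1 → b * b = 1 → a ≠ 1 → b ≠ 1 → Commute a b → a = b := by
  refine ⟨fun h a ha b hb a2 b2 a1 b1 e => by_contra fun hn => ?_, fun h E hE h2 => ?_⟩
  · have c : (⟨b, hb⟩ : K) ∈ centralizer (zpowers (⟨a, ha⟩ : K) : Set K) := mem_centralizer_zpowers.2 (Subtype.ext e.symm)
    have a3 : (⟨a, ha⟩ : K) ^ 2 = 1 := Subtype.ext ((pow_two a).trans a2)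
    have b3 : (⟨b, hb⟩ : K) ^ 2 = 1 := Subtype.ext ((pow_two b).trans b2)
    have := h _ (isMulCommutative_sup_zpowers c) fun g hg => by
      obtain ⟨_, ⟨i, rfl⟩, j, rfl⟩ := (mem_sup_zpowers (centralizer_le_normalizer _ c)).1 hg
      rw [((mem_centralizer_zpowers.1 c).symm.zpow_zpow i j).mul_pow, zpow_pow_eq_one a3, zpow_pow_eq_one b3, one_mul]
    rw [card_sup_zpowers Nat.prime_two (centralizer_le_normalizer _ c) (fun ⟨k, e⟩ => by
      have e' : a ^ k = b := congrArg Subtype.val e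
      have : a ^ (2 : ℤ) = 1 := (zpow_two a).trans a2
      rcases Int.even_or_odd' k with ⟨j, rfl | rfl⟩ <;> simp only [zpow_add, zpow_mul, this, one_zpow, one_mul, zpow_one] at e'
      exacts [b1 e'.symm, hn e']) (b3 ▸ one_mem _), card_zpowers_of_pow_eq_one a3 fun e => a1 (congrArg Subtype.val e)] at this
    omega
  · by_cases e : E = ⊥
    · simp [e]
    obtain ⟨⟨a, ha⟩, a1⟩ := ne_bot_iff_exists_ne_one.1 e
    have a1 : a ≠ 1 := fun e => a1 (Subtype.ext e)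
    refine (card_le_of_le (K := zpowers a) fun b hb => ?_).trans (card_zpowers_of_pow_eq_one (h2 a ha) a1).le
    by_cases b1 : b = 1
    · exact b1 ▸ one_mem _
    · exact Subtype.ext (h a a.2 b b.2 ((pow_two _).symm.trans (congrArg Subtype.val (h2 a ha)))
        ((pow_two _).symm.trans (congrArg Subtype.val (h2 b hb))) (fun e => a1 (Subtype.ext e)) (fun e => b1 (Subtype.ext e))
        (congrArg Subtype.val (setLike_mul_comm ha hb))) ▸ mem_zpowers a

theorem main {A U : Subgroup G} (hA : ∀ K : Subgroup A, K.index ≠ 2) (hU : IsKleinFour U) (hUA : U ≤ normalizer (A : Set G))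
    (H : ∀ w ∈ U, w ≠ 1 → ∀ a ∈ A, ∀ b ∈ A, a * a = 1 → b * b = 1 → a ≠ 1 → b ≠ 1 → Commute a b →
      w * a * w⁻¹ = a → w * b * w⁻¹ = b → a = b) : PRankLE 2 1 A := rk_iff.2 fun a ha b hb a2 b2 a1 b1 e => by
  by_contra hab
  have u2 : ∀ u ∈ U, u * u = 1 := fun u hu => congrArg Subtype.val (IsKleinFour.mul_self (⟨u, hu⟩ : U))
  obtain ⟨T, hT, UT⟩ := exists_sylIn_ge (p := 2) (le_sup_right : U ≤ A ⊔ U) (isPGroup_of_forall_pow fun x hx =>
    ⟨1, (pow_two x).trans (u2 x hx)⟩)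
  have nA : A ⊔ U ≤ normalizer (A : Set G) := sup_le le_normalizer hUA
  have hS := hT.inf_normal' le_sup_left nA
  obtain ⟨g, hg, k⟩ := hS.exists_conj_le (Q := zpowers a ⊔ zpowers b) (sup_le (zpowers_le.2 ha) (zpowers_le.2 hb))
    (IsPGroup.to_sup_of_normal_left' (isPGroup_zpowers_of_pow (k := 1) ((pow_two a).trans a2))
      (isPGroup_zpowers_of_pow (k := 1) ((pow_two b).trans b2))
      (zpowers_le.2 (centralizer_le_normalizer _ (mem_centralizer_zpowers.2 e.symm))))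
  have k1 := k (conj_mem_cj (mem_sup_left (mem_zpowers a)))
  have k2 := k (conj_mem_cj (mem_sup_right (mem_zpowers b)))
  obtain ⟨u, v, w, h1, h2, h3⟩ := have := Fintype.ofFinite U
    Fintype.two_lt_card_iff.1 ((hU.card_four.symm.trans Nat.card_eq_fintype_card).le.trans_lt' (by decide : 2 < 4))
  have : (A.subgroupOf T).Normal := (normal_subgroupOf_iff_le_normalizer_inf).2 (le_normalizer_inf (hT.le.trans nA)
    le_normalizer)
  obtain ⟨C, CS, z, zc, c1, c2, c3, s, sS, sC, s2, x, x1, x2⟩ := two hT.pg (A.subgroupOf T) (u := ⟨_, UT (u * v).2⟩)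
    (v := ⟨_, UT (v * w).2⟩) (Subtype.ext (u2 _ (u * v).2)) (Subtype.ext (u2 _ (v * w).2))
    (Subtype.ext (congrArg (fun t : U => t.1) (hU.isMulCommutative.1.1 (u * v) (v * w)))) (fun t => by
      obtain ⟨y, hy, w, hw, e⟩ := (mem_sup_of_le_normalizer_left hUA).1 (hT.le t.2)
      exact ⟨⟨y, (mul_mem_cancel_right (UT hw)).1 (e ▸ t.2)⟩, hy, ⟨w, UT hw⟩, Subtype.ext (u2 w hw), Subtype.ext e.symm⟩)
    (fun t ht a ha b hb a2 b2 a1 b1 e e1 e2 => by
      have ne : ∀ x y : U, x ≠ y → (x * y).1 ≠ 1 := fun x y h e => h (mul_right_cancel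
        ((Subtype.ext e).trans (IsKleinFour.mul_self y).symm))
      obtain ⟨m1, m2⟩ : t.1 ∈ U ∧ t.1 ≠ 1 := by
        rcases ht with rfl | rfl | rfl
        exacts [⟨(u * v).2, ne u v h1⟩, ⟨(v * w).2, ne v w h3⟩, ⟨(u * v * (v * w)).2, fun e => ne u w h2 (by
          rw [← e]; simp [mul_assoc, ← mul_assoc v.1, u2 v v.2])⟩]
      exact Subtype.ext (H t m1 m2 a ha b hb (congrArg Subtype.val a2) (congrArg Subtype.val b2)
        (fun e => a1 (Subtype.ext e)) (fun e => b1 (Subtype.ext e)) (congrArg Subtype.val e) (congrArg Subtype.val e1)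
        (congrArg Subtype.val e2)))
    (a0 := ⟨_, k1.1⟩) (b0 := ⟨_, k2.1⟩) k1.2 k2.2 (Subtype.ext (by simp [a2])) (Subtype.ext (by simp [b2]))
    (fun e => a1 (conj_eq_one_iff.1 (congrArg Subtype.val e))) (fun e => b1 (conj_eq_one_iff.1 (congrArg Subtype.val e)))
    fun e => hab (by simpa using e)
  obtain ⟨g, -, k3⟩ := Invol.thompson_transfer hA hS.toSylow (Q := (C.map T.subtype).subgroupOf A) (u := ⟨s, sS⟩) (by
    rw [hS.coe_toSylow, relIndex_subgroupOf inf_le_right, ← c1, ← relIndex_map_map_of_injective _ _ T.subtype_injective,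
      subgroupOf_map_subtype, inf_comm]) (Subtype.ext (congrArg (fun t : T => t.1) s2)) ⟨s.2, sS⟩
  obtain ⟨y, hy, e1⟩ := mem_subgroupOf.1 k3
  have e1 : y.1 = g.1 * s * g.1⁻¹ := e1
  have s1 : s.1 ≠ 1 := fun e => sC ((Subtype.ext e : s = 1) ▸ one_mem C)
  obtain rfl : y = z := (c2 y hy (Subtype.ext (by simp [e1, ← Subgroup.coe_mul, s2]))).resolve_left fun e =>
    s1 (conj_eq_one_iff.1 (e1.symm.trans (congrArg Subtype.val e)))
  have hT' := hT.mono (K := (A ⊔ U) ⊓ centralizer {y.1}) (le_inf hT.le fun t ht => mem_centralizer_singleton_iff.2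
    (congrArg Subtype.val (mem_center_iff.1 zc ⟨t, ht⟩))) inf_le_left
  obtain ⟨h, hh, k4⟩ := hT'.exists_conj_le (Q := cj g.1 (zpowers x.1)) (by
    rw [cj_zpowers, zpowers_le]
    refine mem_inf.2 ⟨mul_mem (mul_mem (mem_sup_left g.2) (hT.le x.2)) (inv_mem (mem_sup_left g.2)),
      mem_centralizer_singleton_iff.2 ?_⟩
    rw [e1, conj_mul, conj_mul, show x.1 * s = s * x from congrArg Subtype.val x1])
    (isPGroup_cj _ (hT.pg.to_le (zpowers_le.2 x.2)))
  rw [cj_cj, cj_zpowers, zpowers_le] at k4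
  obtain ⟨m, m1, m2⟩ := exists_pow_not_mem hT.pg (H := ⊥) (g := x * x) x2
  have m3 : (x * x) ^ 2 ^ m * (x * x) ^ 2 ^ m = 1 := (pow_two _).symm.trans m2
  have m4 := (c2 _ (pow_mem (c3 x) _) m3).resolve_left m1
  have m5 := (c2 _ (pow_mem (c3 ⟨_, k4⟩) (2 ^ m)) (Subtype.ext (by
    simp only [Subgroup.coe_mul, Subgroup.coe_pow, conj_mul, conj_pow, Subgroup.coe_one, conj_eq_one_iff]
    exact congrArg Subtype.val m3))).imp (congrArg Subtype.val) (congrArg Subtype.val)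
  simp only [Subgroup.coe_mul, Subgroup.coe_pow, conj_mul, conj_pow, Subgroup.coe_one, conj_eq_one_iff] at m5
  have m6 : (x.1 * x) ^ 2 ^ m = y := congrArg Subtype.val m4
  rw [m6] at m5
  rcases m5 with m5 | m5
  · exact m1 (m4.trans (Subtype.ext m5))
  · refine sC (Subtype.ext (?_ : y.1 = s) ▸ hy)
    have := mem_centralizer_singleton_iff.1 hh.2
    refine MulAut.conj (h * g) |>.injective ?_
    simp only [MulAut.conj_apply]
    rw [m5, show h * g * s * (h * g)⁻¹ = h * (g * s * g.1⁻¹) * h⁻¹ by group]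
    exact (mul_inv_eq_iff_eq_mul.2 (e1 ▸ this)).symm

end Cfsg.Agent.Loc.V4Rk
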