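import Cfsg.Agent.Loc.Amalgam
import Cfsg.Agent.Loc.CharP

/-!
# The subgroups `V_δ^{(n)}` of a rank two amalgam
-/

namespace Cfsg.Agent.Loc
open Subgroup Cfsg MulAction
open scoped commutatorElement

variable {X : Type*} [Group X] {M₁ M₂ : Subgroup X} {p : ℕ} {a b : CosetVertex M₁ M₂} {n : ℕ}

theorem vertexZ_le_vIter (h : (cosetGraph M₁ M₂).dist a b ≤ n) :
    vertexZ p b ≤ vertexVIter p M₁ M₂ n a :=
  le_iSup (fun μ : {μ : CosetVertex M₁ M₂ // (cosetGraph M₁ M₂).dist a μ ≤ n} =>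
    vertexZ p (μ : CosetVertex M₁ M₂)) ⟨b, h⟩

theorem cj_vIter_le (g : X) : cj g (vertexVIter p M₁ M₂ n a) ≤ vertexVIter p M₁ M₂ n (g • a) := by
  rw [vertexVIter, cj_iSup]
  refine iSup_le fun μ => ?_
  rw [cj_sylowCenterClosure, ← stabilizer_smul']
  exact vertexZ_le_vIter (by rw [coset_dist_smul]; exact μ.2)

theorem stabilizer_le_normalizer_vIter :
    stabilizer X a ≤ normalizer ((vertexVIter p M₁ M₂ n a : Subgroup X) : Set X) :=
  le_normalizer_of_cj_le fun g hg => by
    simpa only [mem_stabilizer_iff.1 hg] using cj_vIter_le (p := p) (n := n) (a := a) g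

theorem vIter_le_of_adj (hgen : M₁ ⊔ M₂ = ⊤) (hab : (cosetGraph M₁ M₂).Adj a b) :
    vertexVIter p M₁ M₂ n b ≤ vertexVIter p M₁ M₂ (n + 1) a :=
  iSup_le fun μ => vertexZ_le_vIter (((coset_connected hgen).dist_triangle (v := b)).trans (by
    rw [SimpleGraph.dist_eq_one_iff_adj.2 hab, add_comm]; exact Nat.add_le_add_right μ.2 1))

variable [Fact p.Prime]

theorem vIter_succ_le (h : IsCharPAmalgamPair p M₁ M₂) (hab : (cosetGraph M₁ M₂).Adj a b)
    {W : Subgroup X} (h1 : vertexVIter p M₁ M₂ n b ≤ W)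
    (h2 : stabilizer X a ≤ normalizer (W : Set X)) : vertexVIter p M₁ M₂ (n + 1) a ≤ W := by
  have hc := charPair_of_adj h hab
  haveI := hc.finA
  refine iSup_le fun ⟨μ, hμ⟩ => ?_
  by_cases e : a = μ
  · subst e
    obtain ⟨T, hT⟩ := exists_sylIn p (stabilizer X a ⊓ stabilizer X b)
    exact (hc.sylA T hT).sylowCenterClosure_le ((hc.sylB T hT).le_sylowCenterClosure.trans
      ((vertexZ_le_vIter (by simp)).trans h1)) h2
  · obtain ⟨c, h3, h4⟩ := exists_adj_dist_succ (coset_connected h.1.1) e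
    obtain ⟨g, hg, rfl⟩ := coset_neighbours_transitive hab h3
    refine (vertexZ_le_vIter (n := n) (a := g • b) (b := μ) (by omega)).trans ?_
    have := cj_vIter_le (p := p) (n := n) (a := g • b) g⁻¹
    rw [inv_smul_smul, cj_le_iff, inv_inv] at this
    exact this.trans (cj_le_of_mem_normalizer (h2 hg) h1)

theorem vIter_ne_bot (h : IsCharPAmalgamPair p M₁ M₂) : vertexVIter p M₁ M₂ n a ≠ ⊥ := fun e => by
  obtain ⟨b, hab⟩ := exists_coset_adj a
  have hc := charPair_of_adj h hab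
  haveI := hc.finA
  obtain ⟨T, hT⟩ := exists_sylIn p (stabilizer X a)
  haveI := hT.finite
  exact omegaOne_center_ne_bot hT.pg (hT.ne_bot hc.dvdA) (eq_bot_iff.2
    (hT.le_sylowCenterClosure.trans (e ▸ vertexZ_le_vIter (by simp))))

theorem stabilizer_le_of_spe (h : IsSpeAmalgamPair p M₁ M₂) (hab : (cosetGraph M₁ M₂).Adj a b)
    {N : Subgroup X} (h1 : pResidualOf p (pElementClosure p (stabilizer X a)) ≤ N)
    (h2 : stabilizer X a ⊓ stabilizer X b ≤ N) : stabilizer X a ≤ N := by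
  have hc := charPair_of_adj h.1 hab
  haveI := hc.finA
  obtain ⟨T, hT⟩ := exists_sylIn p (stabilizer X a ⊓ stabilizer X b)
  have hN : stabilizer X a ⊓ normalizer (T : Set X) ≤ stabilizer X b := by
    have key : ∀ (x : X) (T : Subgroup X), SylIn p T (cj x (M₁ ⊓ M₂)) →
        cj x M₁ ⊓ normalizer (T : Set X) ≤ cj x M₂ ∧ cj x M₂ ⊓ normalizer (T : Set X) ≤ cj x M₁ :=
      fun x T hT => by
        have h3 := hT.conj x⁻¹
        rw [cj_inv_cj] at h3
        obtain ⟨e1, e2⟩ := h.2.1 h3.toSylow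
        rw [h3.map_toSylow] at e1 e2
        rw [← cj_cj_inv x T, ← cj_normalizer, ← cj_inf, ← cj_inf]
        exact ⟨cj_mono x (e2.trans inf_le_right), cj_mono x (e1.ge.trans inf_le_left)⟩
    obtain ⟨x, ⟨e1, e2⟩ | ⟨e1, e2⟩⟩ := exists_stabilizer_of_adj hab <;> rw [e1, e2] at hT ⊢
    · exact (key x T (by rwa [cj_inf])).1
    · exact (key x T (by rwa [cj_inf, inf_comm])).2
  haveI := finite_of_le (pElementClosure_le p (stabilizer X a))
  rw [← (hc.sylA T hT).frattini_pElementClosure,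
    ← (hc.sylA T hT).sylIn_pElementClosure.pResidualOf_sup]
  exact sup_le (sup_le h1 (hT.le.trans h2)) ((le_inf inf_le_left hN).trans h2)

theorem le_of_le_sup_commutator {U V Q : Subgroup X} (hQ : Group.IsNilpotent Q) (hV : V ≤ Q)
    (hU : U ≤ Q) (hn : Q ≤ normalizer (U : Set X)) (h : V ≤ U ⊔ ⁅V, Q⁆) : V ≤ U := by
  obtain ⟨k, hk⟩ := (isNilpotent_iff_lowerCentralSeries Q).1 hQ
  have key : ∀ i, V ≤ U ⊔ Q.lowerCentralSeries i := fun i => by
    induction i with
    | zero => exact hV.trans le_sup_right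
    | succ i ih =>
      have h1 := le_normalizer_sup hn (Q.self_le_normalizer_lowerCentralSeries (i + 1))
      exact h.trans (sup_le le_sup_left ((commutator_mono ih le_rfl).trans (commutator_sup_left_le
        (hU.trans h1) ((Q.lowerCentralSeries_antitone (Nat.zero_le i)).trans h1)
        ((commutator_le_left_of_le_normalizer hn).trans le_sup_left) le_sup_right)))
  simpa [hk] using key k

end Cfsg.Agent.Loc
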