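import Cfsg.Agent.Loc.FrakM
import Cfsg.Agent.Loc.PMin
import Cfsg.Agent.Classical.SL2Unip
import Cfsg.Agent.Classical.SL2Torus
import Cfsg.Agent.Sz.Torus
import Cfsg.Agent.Invol.More

/-! `Y`-minimal groups with rank one quotient: products of two transvections act fixed-point-freely. -/

set_option autoImplicit false

namespace Cfsg.Agent.Loc

open Subgroup Cfsg
open scoped commutatorElement MatrixGroups

variable {p : ℕ} {X : Type*} [Group X] {Z : Subgroup X}

def Pr2 (p : ℕ) (h : X) : Prop := ∃ a b : X, a ^ p = 1 ∧ b ^ p = 1 ∧ h = a * b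

theorem Pr2.map {X' : Type*} [Group X'] (f : X →* X') {h : X} : Pr2 p h → Pr2 p (f h) :=
  fun ⟨a, b, h1, h2, h3⟩ => ⟨f a, f b, by rw [← map_pow, h1, map_one], by rw [← map_pow, h2, map_one],
    by rw [h3, map_mul]⟩

theorem Pr2.of_conj {h : X} (x : X) (H : Pr2 p (x * h * x⁻¹)) : Pr2 p h := by
  simpa [mul_assoc] using H.map (MulAut.conj x⁻¹).toMonoidHom

def PT (p : ℕ) (Z : Subgroup X) : Prop := (∀ x ∈ normalizer (Z : Set X), x ^ p = 1 → x ∈ Z) ∧
  ∀ h : X, (∀ k, h ^ p ^ k ≠ 1) → ∃ u : X, u ^ p = 1 ∧ Commute h u ∧ Pr2 p (h * u)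

theorem PT.of_map {X' : Type*} [Group X'] (e : X ≃* X') (h : PT p (Z.map e.toMonoidHom)) : PT p Z :=
  ⟨fun x h1 h2 => (mem_map_iff_mem e.injective).1 (h.1 _ (map_le_normalizer_map le_rfl _ (mem_map_of_mem _ h1))
    (by rw [← map_pow, h2, map_one])), fun x hx => by
    obtain ⟨u, h1, h2, h3⟩ := h.2 (e x) fun k hk => hx k (e.injective (by rw [map_pow, hk, map_one]))
    exact ⟨e.symm u, by rw [← map_pow, h1, map_one], by simpa using h2.map e.symm,
      by simpa using h3.map e.symm.toMonoidHom⟩⟩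

theorem pt_sl [Fact p.Prime] {F : Type} [Field F] [Fintype F] {Y : Subgroup SL(2, F)}
    (hp : IsPGroup p Y) (hc : Nat.card Y = Nat.card F) : PT p Y := by
  obtain ⟨n, hn⟩ := IsPGroup.iff_card.1 hp
  haveI : CharP F p := charP_of_card_eq_prime_pow (by rw [← Nat.card_eq_fintype_card, ← hc, hn])
  let H := Classical.unipAct_SL (F := F) p
  obtain ⟨P, hP⟩ := H.exists_sylow (Classical.not_char_dvd_card_P1 F p) Classical.inf
  have hS : SylIn p Y ⊤ := sylIn_of_card_le (sylIn_top P) le_top hp (by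
    rw [hc, hP]
    refine Nat.card_le_card_of_surjective (fun b : F => (⟨Classical.uSL b,
      (Classical.mem_unipSL_inf p).2 ⟨b, rfl⟩⟩ : H.U Classical.inf)) fun u => ?_
    obtain ⟨b, hb⟩ := (Classical.mem_unipSL_inf p).1 u.2
    exact ⟨b, Subtype.ext hb.symm⟩)
  refine ⟨fun x h1 h2 => zpowers_le.1 (hS.le_of_normalizes le_top
    (isPGroup_zpowers_of_pow (k := 1) (by rwa [pow_one])) (zpowers_le.2 h1)), fun h _ => ?_⟩
  have key : ∀ g : SL(2, F), g.1 1 0 ≠ 0 → Pr2 p g := fun g hg =>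
    ⟨g * Classical.uSL (-((g.1.trace - 2) / g.1 1 0)), Classical.uSL ((g.1.trace - 2) / g.1 1 0),
      (Classical.sl_pow_char_eq_one_iff p).2 (by
        simp [Matrix.trace_fin_two, Matrix.mul_apply, Fin.sum_univ_two]; field_simp; ring),
      (Classical.sl_pow_char_eq_one_iff p).2 (by simp [Matrix.trace_fin_two]; norm_num),
      by rw [mul_assoc, ← Classical.uSL_add]; simp⟩
  by_cases h1 : (Classical.wSL * h * Classical.wSL⁻¹).1 1 0 = 0
  swap; · exact ⟨1, one_pow _, Commute.one_right h, by rw [mul_one]; exact (key _ h1).of_conj _⟩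
  by_cases h2 : (Classical.lSL 1 * h * (Classical.lSL 1)⁻¹).1 1 0 = 0
  swap; · exact ⟨1, one_pow _, Commute.one_right h, by rw [mul_one]; exact (key _ h2).of_conj _⟩
  by_cases h3 : h.1 1 0 = 0
  swap; · exact ⟨1, one_pow _, Commute.one_right h, by rw [mul_one]; exact key _ h3⟩
  have h4 : h.1 0 1 = 0 := by
    simpa [Matrix.mul_apply, Fin.sum_univ_two, Matrix.adjugate_fin_two, Matrix.vecMul, dotProduct] using h1
  have h5 : h.1 0 0 = h.1 1 1 := by
    simpa [Classical.lSL_inv, Matrix.mul_apply, Fin.sum_univ_two, Matrix.vecMul, dotProduct, h3, h4,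
      add_neg_eq_zero] using h2
  refine ⟨Classical.lSL 1, (Classical.sl_pow_char_eq_one_iff p).2 (by simp [Matrix.trace_fin_two]; norm_num),
    ?_, key _ fun e => ?_⟩
  · ext i j; fin_cases i <;> fin_cases j <;> simp [Matrix.mul_apply, Fin.sum_univ_two, h3, h4, h5]
  · have := h.2
    rw [Matrix.det_fin_two, h5, h4] at this
    simp [Matrix.mul_apply, Fin.sum_univ_two, h3] at e
    simp [e] at this

theorem pt_sz {F : Type} [Field F] [Sz.Tits F] [Finite F] [Sz.SzRep F X]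
    (hY : IsElementaryAbelian 2 Z) (hc : Nat.card Z = Nat.card F) : PT 2 Z := by
  haveI := Sz.finite_G F X
  obtain ⟨g, -, hg⟩ := (sylIn_top (Sz.sylowU F X)).exists_conj_le le_top (isPGroup_of_isElementaryAbelian hY)
  refine PT.of_map (MulAut.conj g) ?_
  have h1 : cj g Z = Sz.Z F X := eq_of_le_of_card_ge (fun y hy => (Sz.mem_Z_iff_sq (hg hy)).2 (by
    rw [← sq]; exact (isElementaryAbelian_iff.1 (isElementaryAbelian_map _ hY)).2 y hy))
    (by rw [card_cj, hc, Sz.card_Z])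
  rw [h1]
  refine ⟨fun v h2 h7 => (Sz.mem_Z_iff_sq (Sz.mem_U_of_pow_eq_one (n := 1) (Sz.mem_B_of_conj_mem_U (Sz.Z_le_U
      (conj_mem_of_mem_normalizer h2 (Sz.S_mem_Z (1 : F)))) (by simp [Sz.S_eq_one])
      (Sz.S_mem_B _ _)) h7)).2 (by rw [← sq, h7]), fun h hh => ⟨1, one_pow _, Commute.one_right h, ?_⟩⟩
  have ho := (Sz.pow_four_or_odd F h).resolve_left (hh 2)
  have h1 : h ≠ 1 := fun e => hh 0 (by simp [e])
  obtain ⟨t, ht, h2⟩ := exists_orderOf_eq_of_dvd_card (p := 2) (N := normalizer (centralizer {h} : Set X)) (by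
    rw [Sz.card_normalizer_centralizer (F := F) h1 ho]
    split_ifs <;> exact Dvd.dvd.mul_right (by norm_num) _)
  have h3 : t * t = 1 := by rw [← sq, ← h2, pow_orderOf_eq_one]
  have h4 := Sz.conj_eq_inv F h1 ho (fun e => by simp [e] at h2) h3 ht (Sz.mem_centralizer_self h)
  exact ⟨h * t, t, by rw [sq, mul_assoc, ← mul_assoc t, h4, mul_inv_cancel], by rw [sq, h3],
    by rw [mul_one, mul_assoc, h3, mul_one]⟩

theorem pt_two [Finite X] (hc : Nat.card Z = 2) (hO : pCore 2 X = ⊥)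
    (h : ∀ W : Subgroup X, Z ≤ W → W ≠ ⊤ → W ≤ normalizer (Z : Set X)) : PT 2 Z := by
  have hp : IsPGroup 2 Z := IsPGroup.of_card (n := 1) hc
  obtain ⟨y, hy, ho⟩ := exists_orderOf_eq_of_dvd_card (p := 2) (N := Z) hc.symm.dvd
  have hz : zpowers y = Z := eq_of_le_of_card_ge (zpowers_le.2 hy) (by rw [Nat.card_zpowers, ho, hc])
  have hy1 : y ≠ 1 := fun e => by simp [e] at ho
  have y2 : y * y = 1 := by rw [← sq, ← ho, pow_orderOf_eq_one]
  have yi : y⁻¹ = y := inv_eq_of_mul_eq_one_right y2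
  have hm : ∀ z ∈ Z, z = 1 ∨ z = y := fun z hz => by
    by_contra! hn
    exact hn.1 (congrArg Subtype.val (((Nat.card_eq_two_iff' (⟨y, hy⟩ : Z)).1 hc).unique (y₁ := ⟨z, hz⟩) (y₂ := 1)
      (fun e => hn.2 (congrArg Subtype.val e)) fun e => hy1 (congrArg Subtype.val e).symm))
  obtain ⟨r, h5, h6, h7⟩ := Invol.exists_odd_inverted ho (by rw [hO]; exact hy1)
  have hn : Z ≤ normalizer (zpowers r : Set X) := hz ▸ zpowers_le.2 (mem_normalizer_iff_cj.2
    (by rw [cj_zpowers, h7, zpowers_inv]))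
  have hT : zpowers r ⊔ Z = ⊤ := by_contra fun e => by
    have h8 := conj_mem_of_mem_normalizer (h _ le_sup_right e (mem_sup_left (mem_zpowers r))) hy
    exact h5 (Invol.eq_one_of_odd_of_inverts_of_commute h6 h7 (mul_inv_eq_iff_eq_mul.1
      ((hm _ h8).resolve_left fun e => hy1 (conj_eq_one_iff.1 e))))
  have hS : SylIn 2 Z ⊤ := hT ▸ sylIn_sup_of_sylIn_inf hp hn <|
      sylIn_of_not_dvd_relIndex inf_le_right hp.to_inf_left fun hd => by
    have := hd.trans (relIndex_dvd_card _ _)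
    rw [Nat.card_zpowers] at this
    exact h6.not_two_dvd_nat this
  refine ⟨fun x h1 h2 => zpowers_le.1 (hS.le_of_normalizes le_top
    (isPGroup_zpowers_of_pow (k := 1) (by rwa [pow_one])) (zpowers_le.2 h1)),
    fun g hg => ⟨1, one_pow _, Commute.one_right g, ?_⟩⟩
  obtain ⟨_, ⟨k, rfl⟩, z, hz, rfl⟩ := (mem_sup_of_le_normalizer_left hn).1 (hT.ge (mem_top g))
  have e : (r ^ k * y) ^ 2 = 1 := by
    have : y * r ^ k * y⁻¹ = (r ^ k)⁻¹ := by rw [← conj_zpow, h7, inv_zpow]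
    rw [yi] at this
    rw [sq, mul_assoc, ← mul_assoc y, this, mul_inv_cancel]
  rcases hm z hz with rfl | rfl
  · exact ⟨_, y, e, by rw [sq, y2], by rw [mul_one, mul_one, mul_assoc, y2, mul_one]⟩
  · exact (hg 1 e).elim

section XT
variable [Finite X] [Fact p.Prime] (he : IsElementaryAbelian p Z) (hb : Z ≠ ⊥) (hO : pCore p X = ⊥)
  (h : ∀ W : Subgroup X, Z ≤ W → W ≠ ⊤ → W ≤ normalizer (Z : Set X)) (hP : PT p Z)
include he hO h hP

theorem PT.ti {z g : X} (hz : z ∈ Z) (h1 : z ≠ 1) (h2 : z ∈ normalizer (cj g Z : Set X)) : cj g Z = Z := by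
  obtain ⟨e1, e2⟩ := isElementaryAbelian_iff.1 he
  have h3 : z ∈ cj g Z := mem_cj.2 (hP.1 _ (by rwa [← cj_normalizer, mem_cj] at h2)
    (by rw [← inv_inv g, inv_inv g⁻¹, conj_pow, e2 z hz]; simp))
  have h4 : cj g Z ≤ normalizer (Z : Set X) := le_trans (by
    rw [← centralizer_zpowers]
    exact (cj_mono g e1).trans ((cj_centralizer g Z).le.trans (centralizer_anti (zpowers_le.2 h3))))
    (h (centralizer {z}) (by rw [← centralizer_zpowers]; exact e1.trans (centralizer_anti (zpowers_le.2 hz)))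
      fun e => h1 (mem_bot.1 (hO ▸ le_pCore (normalizer_eq_top_iff.1 (eq_top_iff.2 (e.ge.trans
        (by rw [← centralizer_zpowers]; exact centralizer_le_normalizer _))))
          (isPGroup_zpowers_of_pow (k := 1) (by rw [pow_one, e2 z hz])) (mem_zpowers z))))
  exact cj_eq_of_cj_le fun x hx => hP.1 x (h4 hx)
    ((isElementaryAbelian_iff.1 (isElementaryAbelian_map _ he)).2 x hx)

include hb in
theorem PT.exists_cj {x : X} (hx : x ^ p = 1) : ∃ g, x ∈ cj g Z := by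
  obtain ⟨T, hT, h1⟩ := exists_sylIn_ge (H := ⊤) le_top (isPGroup_of_isElementaryAbelian he)
  obtain ⟨g, -, hg⟩ := hT.exists_conj_le le_top (isPGroup_zpowers_of_pow (k := 1) (by rwa [pow_one]))
  refine ⟨g⁻¹, mem_cj_inv.2 (hP.1 _ (h T h1 (fun e => hb (eq_bot_iff.2 (h1.trans (hO ▸ le_pCore (e ▸ inferInstance)
    hT.pg)))) (hg (conj_mem_cj (mem_zpowers x)))) (by rw [conj_pow, hx]; simp))⟩

end XT

variable {G : Type*} [Group G] {Y L A C : Subgroup G} {g a b x y : G}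

/-- the stabilizer of `x` modulo `C` -/
def St (C : Subgroup G) (x : G) : Subgroup G where
  carrier := {k | k ∈ normalizer (C : Set G) ∧ ⁅k, x⁆ ∈ C}
  one_mem' := ⟨one_mem _, by rw [commutatorElement_one_left]; exact one_mem _⟩
  mul_mem' := fun {a b} ha hb => ⟨mul_mem ha.1 hb.1, by
    have : ⁅a * b, x⁆ = a * ⁅b, x⁆ * a⁻¹ * ⁅a, x⁆ := by simp only [commutatorElement_def]; group
    rw [this]; exact mul_mem (conj_mem_of_mem_normalizer ha.1 hb.2) ha.2⟩
  inv_mem' := fun {a} ha => ⟨inv_mem ha.1, by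
    have : ⁅a⁻¹, x⁆ = a⁻¹ * ⁅a, x⁆⁻¹ * a := by simp only [commutatorElement_def]; group
    rw [this]; exact conj_inv_mem_of_mem_normalizer ha.1 (inv_mem ha.2)⟩

structure YM (Y L A C : Subgroup G) : Prop where
  ab : Y ≤ centralizer (Y : Set G)
  YL : Y ≤ L
  AL : A ≤ L
  nA : L ≤ normalizer (A : Set G)
  AY : A ≤ normalizer (Y : Set G)
  CY : C ≤ Y
  Cc : C ≤ centralizer (L : Set G)
  CC : Y ⊓ centralizer (L : Set G) ≤ C
  gen : ∀ N : Subgroup G, L ≤ normalizer (N : Set G) → Y ⊓ A ≤ N → A ≤ N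
  mx : ∀ W : Subgroup G, Y ≤ W → W < L → W ≤ normalizer (Y : Set G)
  ti : ∀ y ∈ Y, y ∉ A → ∀ g ∈ L, y ∈ normalizer (cj g Y : Set G) → cj g Y = Y
  nle : ¬ Y ≤ A

namespace YM
variable (h : YM Y L A C)
include h

theorem nC : L ≤ normalizer (C : Set G) := le_normalizer_of_le_centralizer (le_centralizer_iff.1 h.Cc)

theorem conj (hg : g ∈ L) : YM (cj g Y) L A C := by
  have eL := cj_eq_of_mem hg
  have eA := cj_eq_of_mem_normalizer (h.nA hg)
  have eC := cj_eq_of_mem_normalizer (h.nC hg)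
  refine ⟨(cj_mono g h.ab).trans (cj_centralizer g Y).le, (cj_mono g h.YL).trans eL.le, h.AL, h.nA,
    eA.ge.trans ((cj_mono g h.AY).trans (cj_normalizer g Y).le), eC.ge.trans (cj_mono g h.CY), h.Cc, ?_,
    fun N h1 h2 => h.gen N h1 ?_, fun W h1 h2 => ?_, fun y h1 h2 k hk h3 => ?_, fun e => h.nle ?_⟩
  · rw [← eL, ← cj_centralizer, ← cj_inf, ← eC]; exact cj_mono g h.CC
  · rwa [← cj_le_cj_iff (g := g), cj_inf, eA, cj_eq_of_mem_normalizer (h1 hg)]
  · rw [← cj_normalizer, le_cj_iff]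
    exact h.mx _ (cj_le_iff.1 h1) (lt_of_le_of_ne (cj_le_iff.2 (by rw [inv_inv, eL]; exact h2.le))
      fun e => h2.ne (by rw [← cj_cj_inv g W, e, eL]))
  · have := h.ti _ (mem_cj.1 h1) (fun e => h2 (eA.le (mem_cj.2 e))) (g⁻¹ * k * g)
      (mul_mem (mul_mem (inv_mem hg) hk) hg) (by
        rw [mul_assoc g⁻¹ k, ← cj_cj, ← cj_cj k, ← cj_normalizer, mem_cj_inv]; simpa [mul_assoc] using h3)
    rw [mul_assoc, ← cj_cj, ← cj_cj] at this
    rw [← cj_cj_inv g (cj k _), this]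
  · rwa [← eA, cj_le_cj_iff] at e

theorem gen2 (hg : g ∈ L) (hn : cj g Y ≠ Y) (hy : y ∈ Y) (hA : y ∉ A) : L ≤ zpowers y ⊔ cj g Y := by
  by_contra e
  exact hn (h.ti y hy hA g hg ((h.conj hg).mx _ le_sup_right (lt_of_le_of_ne
    (sup_le (zpowers_le.2 (h.YL hy)) (h.conj hg).YL) fun e' => e e'.ge) (mem_sup_left (mem_zpowers y))))

theorem gen3 (hg : g ∈ L) (hn : cj g Y ≠ Y) : L ≤ Y ⊔ cj g Y := by
  obtain ⟨y, h1, h2⟩ := SetLike.not_le_iff_exists.1 h.nle
  exact (h.gen2 hg hn h1 h2).trans (sup_le_sup_right (zpowers_le.2 h1) _)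

theorem comm : ⁅A, Y⁆ ≤ Y ⊓ A := le_inf (commutator_le_right_of_le_normalizer h.AY)
  (commutator_le_left_of_le_normalizer (h.YL.trans h.nA))

theorem inf_le (hg : g ∈ L) (hn : cj g Y ≠ Y) : Y ⊓ cj g Y ≤ C := (le_inf inf_le_left (le_centralizer_iff.1
  ((h.gen3 hg hn).trans (sup_le (h.ab.trans (centralizer_anti inf_le_left))
    ((h.conj hg).ab.trans (centralizer_anti inf_le_right)))))).trans h.CC

theorem le_sup (hg : g ∈ L) (hn : cj g Y ≠ Y) : A ≤ (Y ⊓ A) ⊔ (cj g Y ⊓ A) :=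
  h.gen _ ((h.gen3 hg hn).trans (sup_le
    (le_normalizer_iff_commutator_le_left.2 ((commutator_mono (sup_le inf_le_right inf_le_right) le_rfl).trans
      (h.comm.trans le_sup_left)))
    (le_normalizer_iff_commutator_le_left.2 ((commutator_mono (sup_le inf_le_right inf_le_right) le_rfl).trans
      ((h.conj hg).comm.trans le_sup_right))))) le_sup_left

theorem AA (hg : g ∈ L) (hn : cj g Y ≠ Y) : ⁅A, A⁆ ≤ C := by
  have n1 : ∀ W : Subgroup G, W ⊓ A ≤ normalizer (C : Set G) := fun W => inf_le_right.trans (h.AL.trans h.nC)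
  have c1 : ⁅Y ⊓ A, cj g Y ⊓ A⁆ ≤ C := (le_inf ((commutator_comm _ _).le.trans ((commutator_mono inf_le_right
    inf_le_left).trans (h.comm.trans inf_le_left))) ((commutator_mono inf_le_right inf_le_left).trans
      ((h.conj hg).comm.trans inf_le_left))).trans (h.inf_le hg hn)
  refine (commutator_mono (h.le_sup hg hn) (h.le_sup hg hn)).trans (commutator_sup_left_le (n1 _)
    (n1 _) (commutator_sup_right_le (n1 _) (n1 _) ?_ c1) (commutator_sup_right_le (n1 _) (n1 _)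
      ((commutator_comm _ _).le.trans c1) ?_))
  · exact (commutator_mono inf_le_left inf_le_left).trans (commutator_le_of_le_centralizer h.ab _)
  · exact (commutator_mono inf_le_left inf_le_left).trans (commutator_le_of_le_centralizer (h.conj hg).ab _)

theorem mem_of_comm (hg : g ∈ L) (hn : cj g Y ≠ Y) (hy : y ∈ Y) (hA : y ∉ A) (hx : x ∈ A) (h1 : ⁅y, x⁆ ∈ C) :
    x ∈ Y := by
  obtain ⟨b, hb, c, hc, rfl⟩ := (mem_sup_of_le_normalizer_left (inf_le_right.trans
    (le_normalizer_inf h.AY le_normalizer))).1 (h.le_sup hg hn hx)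
  have h2 : ⁅y, c⁆ ∈ C := by
    have := conj_inv_mem_of_mem_normalizer (h.nC (h.AL hb.2)) h1
    convert this using 1
    simp only [commutatorElement_def, mul_inv_rev, ← mul_assoc]
    rw [mul_assoc b⁻¹ y, h.ab hb.1 y hy, inv_mul_cancel_left, inv_mul_cancel_right]
  have h3 : L ≤ St C c := (h.gen2 hg hn hy hA).trans (sup_le (zpowers_le.2 ⟨h.nC (h.YL hy), h2⟩) fun z hz =>
    ⟨h.nC ((h.conj hg).YL hz), by
      rw [commutatorElement_eq_one_iff_mul_comm.2 ((h.conj hg).ab hc.1 z hz)]; exact one_mem _⟩)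
  have h4 := h.CY (h3 (inv_mem hg)).2
  rw [commutatorElement_def, inv_inv] at h4
  exact mul_mem hb.1 (inv_mem_iff.1 ((mul_mem_cancel_left (mem_cj.1 hc.1)).1 h4))

theorem fpf (hg : g ∈ L) (hn : cj g Y ≠ Y) (ha : a ∈ Y) (ha' : a ∉ A) (hb : b ∈ cj g Y) (hb' : b ∉ A) (hx : x ∈ A)
    (h1 : ⁅a * b, x⁆ ∈ C) : x ∈ C := by
  have h' := h.conj hg
  have h2 : ⁅b, x⁆ * ⁅a⁻¹, x⁆⁻¹ ∈ C := by
    have := conj_inv_mem_of_mem_normalizer (h.nC (h.YL ha)) h1
    convert this using 1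
    simp only [commutatorElement_def]; group
  have c1 : ⁅a⁻¹, x⁆ ∈ Y := (commutator_comm _ _).le.trans h.comm (commutator_mem_commutator (inv_mem ha) hx) |>.1
  have c2 : ⁅b, x⁆ ∈ cj g Y := (commutator_comm _ _).le.trans h'.comm (commutator_mem_commutator hb hx) |>.1
  have c3 : ⁅b, x⁆ ∈ C := h.inf_le hg hn ⟨(mul_mem_cancel_right (inv_mem c1)).1 (h.CY h2), c2⟩
  exact h.inf_le hg hn ⟨h.mem_of_comm hg hn (inv_mem ha) (fun e => ha' (inv_mem_iff.1 e)) hx
    (inv_mem_iff.1 ((mul_mem_cancel_left c3).1 h2)), h'.mem_of_comm (inv_mem hg)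
      (by rw [cj_inv_cj]; exact hn.symm) hb hb' hx c3⟩

end YM

end Cfsg.Agent.Loc
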